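import Cfsg.Agent.Lib.TripleNormal.Fix
import Cfsg.Agent.Lib.CyclicZFact.Socle

/-!
# Point stabilisers with an abelian normal subgroup

A nontrivial abelian subgroup of the point stabiliser of `L`, normalised by that of `G`, is an
elementary abelian group acting regularly on the remaining points.
-/

set_option autoImplicit false

open Equiv Subgroup
open scoped commutatorElement

namespace CfsgLib.TripleNormal

universe u

variable {Ω : Type u}

/-- A solvable nontrivial group has a nontrivial abelian subgroup invariant under its normaliser. -/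
theorem exists_abelian_char {P : Type u} [Group P] [Finite P] (H : Subgroup P) (hH : H ≠ ⊥)
    (hs : Group.IsSolvable H) : ∃ W : Subgroup P, W ≠ ⊥ ∧ W ≤ H ∧ IsMulCommutative W ∧
      ∀ g : P, (∀ x, x ∈ H ↔ g * x * g⁻¹ ∈ H) → ∀ x ∈ W, g * x * g⁻¹ ∈ W := by
  classical
  obtain ⟨N, hN⟩ := hs
  have hex : ∃ k, derivedSeries H k = ⊥ := ⟨N, hN⟩
  obtain ⟨k, hk⟩ : ∃ k, Nat.find hex = k + 1 := by
    refine Nat.exists_eq_succ_of_ne_zero fun h0 => hH ?_
    have := Nat.find_spec hex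
    rw [h0, derivedSeries_zero] at this
    rw [← H.range_subtype, MonoidHom.range_eq_map, this, Subgroup.map_bot]
  have hkne : derivedSeries H k ≠ ⊥ := Nat.find_min hex (by omega)
  have hkc : ∀ x ∈ derivedSeries H k, ∀ y ∈ derivedSeries H k, x * y = y * x := by
    intro x hx y hy
    have h1 := Nat.find_spec hex
    rw [hk, derivedSeries_succ] at h1
    have : ⁅x, y⁆ ∈ ⁅derivedSeries H k, derivedSeries H k⁆ := Subgroup.commutator_mem_commutator hx hy
    rw [h1, Subgroup.mem_bot] at this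
    exact commutatorElement_eq_one_iff_mul_comm.1 this
  refine ⟨(derivedSeries H k).map H.subtype, ?_, ?_, ?_, fun g hg => ?_⟩
  · rw [Ne, Subgroup.map_eq_bot_iff_of_injective _ H.subtype_injective]; exact hkne
  · rintro _ ⟨x, -, rfl⟩; exact x.2
  · constructor
    constructor
    rintro ⟨_, x, hx, rfl⟩ ⟨_, y, hy, rfl⟩
    refine Subtype.ext ?_
    show (x : P) * (y : P) = (y : P) * (x : P)
    exact congrArg Subtype.val (hkc x hx y hy)
  · let f : H →* H :=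
      { toFun := fun x => ⟨g * x * g⁻¹, (hg x).1 x.2⟩
        map_one' := Subtype.ext (by simp)
        map_mul' := fun x y => Subtype.ext (by simp [mul_assoc]) }
    rintro _ ⟨x, hx, rfl⟩
    exact ⟨f x, map_derivedSeries_le_derivedSeries f k ⟨x, hx, rfl⟩, rfl⟩

/-- The abelian regular normal subgroup of a point stabiliser. -/
structure Aff (C : Ctx Ω) (a : Ω) where
  W : Subgroup (Perm Ω)
  le : W ≤ C.L
  fix : ∀ w ∈ W, w a = a
  comm : ∀ v ∈ W, ∀ w ∈ W, v * w = w * v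
  norm : ∀ g ∈ C.G, g a = a → ∀ w ∈ W, g * w * g⁻¹ ∈ W
  trans : ∀ x y : Ω, x ≠ a → y ≠ a → ∃ w ∈ W, w x = y
  reg : ∀ w ∈ W, ∀ x : Ω, x ≠ a → w x = x → w = 1
  r : ℕ
  prime : r.Prime
  exp : ∀ w ∈ W, w ^ r = 1

namespace Ctx

variable {C : Ctx Ω}

theorem exists_aff [Finite Ω] {a : Ω} (hn : 3 < Nat.card Ω) (H : Subgroup (Perm Ω))
    (hHL : H ≤ C.L) (hHa : ∀ h ∈ H, h a = a) (hH1 : H ≠ ⊥) (hHs : Group.IsSolvable H)
    (hHn : ∀ g ∈ C.G, g a = a → ∀ x, x ∈ H ↔ g * x * g⁻¹ ∈ H) : Nonempty (Aff C a) := by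
  classical
  have := Fintype.ofFinite Ω
  obtain ⟨W, hW1, hWH, hWc, hWn⟩ := exists_abelian_char H hH1 hHs
  have hnorm : ∀ g ∈ C.G, g a = a → ∀ w ∈ W, g * w * g⁻¹ ∈ W :=
    fun g hg hga => hWn g (hHn g hg hga)
  have hcomm : ∀ v ∈ W, ∀ w ∈ W, v * w = w * v := fun v hv w hw =>
    congrArg Subtype.val (hWc.is_comm.comm (⟨v, hv⟩ : W) ⟨w, hw⟩)
  obtain ⟨w₀, hw₀, hw₀1⟩ : ∃ w ∈ W, w ≠ 1 := by
    by_contra h; push Not at h
    exact hW1 (eq_bot_iff.2 fun x hx => Subgroup.mem_bot.2 (h x hx))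
  obtain ⟨b, hb⟩ : ∃ b, w₀ b ≠ b := by
    by_contra h; push Not at h; exact hw₀1 (Equiv.ext h)
  have hba : b ≠ a := fun h => hb (by rw [h, hHa _ (hWH hw₀)])
  have hba' : w₀ b ≠ a := fun h => hba (w₀.injective (h.trans (hHa _ (hWH hw₀)).symm))
  have htr : ∀ x y : Ω, x ≠ a → y ≠ a → ∃ w ∈ W, w x = y := by
    intro x y hx hy
    by_cases hxy : x = y
    · exact ⟨1, one_mem _, hxy⟩
    obtain ⟨g, hg, hga, hgb, hgw⟩ := C.three hba.symm hba'.symm (Ne.symm hb) hx.symm hy.symm hxy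
    refine ⟨g * w₀ * g⁻¹, hnorm g hg hga _ hw₀, ?_⟩
    simp [← hgb, hgw]
  have hreg : ∀ w ∈ W, ∀ x : Ω, x ≠ a → w x = x → w = 1 := by
    intro w hw x hx hwx
    refine Equiv.ext fun y => ?_
    by_cases hy : y = a
    · rw [hy, hHa _ (hWH hw)]; rfl
    · obtain ⟨v, hv, rfl⟩ := htr x y hx hy
      rw [← Perm.mul_apply, hcomm w hw v hv, Perm.mul_apply, hwx]; rfl
  -- all nontrivial elements are conjugate
  have hconj : ∀ v ∈ W, ∀ w ∈ W, v ≠ 1 → w ≠ 1 → ∃ g ∈ C.G, g * v * g⁻¹ = w := by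
    intro v hv w hw hv1 hw1
    have hvb : v b ≠ b := fun h => hv1 (hreg v hv b hba h)
    have hwb : w b ≠ b := fun h => hw1 (hreg w hw b hba h)
    have hva : v b ≠ a := fun h => hba (v.injective (h.trans (hHa _ (hWH hv)).symm))
    have hwa : w b ≠ a := fun h => hba (w.injective (h.trans (hHa _ (hWH hw)).symm))
    obtain ⟨g, hg, hga, hgb, hgv⟩ := C.three hba.symm hva.symm (Ne.symm hvb) hba.symm hwa.symm (Ne.symm hwb)
    refine ⟨g, hg, ?_⟩
    have hm : (g * v * g⁻¹)⁻¹ * w ∈ W := mul_mem (inv_mem (hnorm g hg hga v hv)) hw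
    refine inv_mul_eq_one.1 (hreg _ hm b hba ?_)
    rw [Perm.mul_apply, Perm.inv_eq_iff_eq]
    have : g⁻¹ b = b := Perm.inv_eq_iff_eq.2 hgb.symm
    rw [Perm.mul_apply, Perm.mul_apply, this, hgv]
  obtain ⟨r, hr, hrd⟩ := Nat.exists_prime_and_dvd (n := orderOf w₀) (fun h => hw₀1 (orderOf_eq_one_iff.1 h))
  have hw₁ : w₀ ^ (orderOf w₀ / r) ∈ W := pow_mem hw₀ _
  have hw₁o : orderOf (w₀ ^ (orderOf w₀ / r)) = r := orderOf_pow_orderOf_div (orderOf_pos w₀).ne' hrd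
  refine ⟨⟨W, fun w hw => hHL (hWH hw), fun w hw => hHa _ (hWH hw), hcomm, hnorm, htr, hreg, r, hr,
    fun w hw => ?_⟩⟩
  by_cases hw1 : w = 1
  · rw [hw1, one_pow]
  have hne : w₀ ^ (orderOf w₀ / r) ≠ 1 := fun h => hr.ne_one (by rw [← hw₁o, h, orderOf_one])
  obtain ⟨g, -, rfl⟩ := hconj _ hw₁ w hw hne hw1
  rw [conj_pow, show (w₀ ^ (orderOf w₀ / r)) ^ r = 1 from
    orderOf_dvd_iff_pow_eq_one.1 (dvd_of_eq hw₁o)]
  simp

end Ctx

namespace Aff

variable {C : Ctx Ω} {a : Ω} (A : Aff C a)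

theorem card_W [Finite Ω] (hn : 1 < Nat.card Ω) : Nat.card A.W + 1 = Nat.card Ω := by
  classical
  have := Fintype.ofFinite Ω
  haveI : Nontrivial Ω := Finite.one_lt_card_iff_nontrivial.1 hn
  obtain ⟨b, hb⟩ := exists_ne a
  have hval : ∀ w : A.W, (w : Perm Ω) b ≠ a := fun w h =>
    hb ((w : Perm Ω).injective (h.trans (A.fix _ w.2).symm))
  let f : A.W → ({a}ᶜ : Set Ω) := fun w => ⟨(w : Perm Ω) b, hval w⟩
  have hf : Function.Bijective f := by
    refine ⟨fun v w h => ?_, fun y => ?_⟩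
    · have h' : (v : Perm Ω) b = (w : Perm Ω) b := congrArg Subtype.val h
      have := A.reg ((v : Perm Ω)⁻¹ * w) (mul_mem (inv_mem v.2) w.2) b hb (by simp [← h'])
      exact Subtype.ext (inv_mul_eq_one.1 this)
    · obtain ⟨w, hw, hwy⟩ := A.trans b y hb y.2
      exact ⟨⟨w, hw⟩, Subtype.ext hwy⟩
  rw [Nat.card_eq_of_bijective f hf, Nat.card_coe_set_eq, Set.ncard_compl, Set.ncard_singleton]
  omega

theorem exists_card_eq [Finite Ω] (hn : 2 < Nat.card Ω) :
    ∃ e, 0 < e ∧ Nat.card A.W = A.r ^ e := by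
  haveI := Fact.mk A.prime
  have hp : IsPGroup A.r A.W := fun x => ⟨1, Subtype.ext (by simpa using A.exp x x.2)⟩
  obtain ⟨e, he⟩ := hp.exists_card_eq
  refine ⟨e, Nat.pos_of_ne_zero fun h => ?_, he⟩
  rw [h, pow_zero] at he
  have := A.card_W (by omega)
  omega

end Aff

/-- A non-abelian finite simple group has two distinct commuting involutions. -/
theorem exists_commuting_pair (L : Type u) [Group L] [Finite L] (hs : IsSimpleGroup L)
    (hnc : ¬ IsMulCommutative L) :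
    ∃ s t : L, orderOf s = 2 ∧ orderOf t = 2 ∧ s ≠ t ∧ Commute s t := by
  refine CfsgLib.CyclicZFact.exists_two_involutions ?_
  haveI := hs
  rw [Cfsg.solvableRadical, sSup_eq_bot]
  rintro N ⟨hN, hsol⟩
  rcases hN.eq_bot_or_eq_top with h | h
  · exact h
  · exfalso
    subst h
    haveI : Group.IsSolvable (⊤ : Subgroup L) := hsol
    have hL : Group.IsSolvable L :=
      Group.isSolvable_of_surjective (f := (⊤ : Subgroup L).subtype) fun x => ⟨⟨x, trivial⟩, rfl⟩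
    exact hnc ⟨⟨IsSimpleGroup.comm_iff_isSolvable.2 hL⟩⟩

end CfsgLib.TripleNormal
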