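import Cfsg.Agent.S0700
import Cfsg.Agent.S0054
import Mathlib

/-!
# Normal subgroups of triply transitive groups: set-up

For a triply transitive group `G` whose degree is no power of two, the minimal normal subgroup `L`
is simple, doubly transitive and contained in every nontrivial normal subgroup. The orbits of a
two-point stabiliser of `L` are studied as sets `orb a b c`.
-/

set_option autoImplicit false

open Equiv Subgroup

namespace CfsgLib.TripleNormal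

universe u

/-- A triply transitive group `G` with a doubly transitive non-abelian simple normal subgroup `L`. -/
structure Ctx (Ω : Type u) where
  G : Subgroup (Perm Ω)
  L : Subgroup (Perm Ω)
  le : L ≤ G
  norm : ∀ g ∈ G, ∀ x ∈ L, g * x * g⁻¹ ∈ L
  three : ∀ {a b c x y z : Ω}, a ≠ b → a ≠ c → b ≠ c → x ≠ y → x ≠ z → y ≠ z →
    ∃ g ∈ G, g a = x ∧ g b = y ∧ g c = z
  two : ∀ {a b x y : Ω}, a ≠ b → x ≠ y → ∃ l ∈ L, l a = x ∧ l b = y
  simple : IsSimpleGroup L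
  nc : ¬ IsMulCommutative L

variable {Ω : Type u}

/-- The points other than two given ones. -/
def rest (a b : Ω) : Set Ω := {x | x ≠ a ∧ x ≠ b}

theorem ncard_rest [Finite Ω] {a b : Ω} (hab : a ≠ b) : (rest a b).ncard = Nat.card Ω - 2 := by
  have h : rest a b = ({a, b} : Set Ω)ᶜ := by
    ext x; simp [rest]
  rw [h, Set.ncard_compl, Set.ncard_pair hab]

namespace Ctx

variable (C : Ctx Ω)

/-- Stabiliser in `L` of two points. -/
def st2 (a b : Ω) : Subgroup (Perm Ω) :=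
  C.L ⊓ MulAction.stabilizer (Perm Ω) a ⊓ MulAction.stabilizer (Perm Ω) b

/-- Stabiliser in `L` of three points. -/
def st3 (a b c : Ω) : Subgroup (Perm Ω) := C.st2 a b ⊓ MulAction.stabilizer (Perm Ω) c

theorem mem_st2 {a b : Ω} {x : Perm Ω} : x ∈ C.st2 a b ↔ x ∈ C.L ∧ x a = a ∧ x b = b := by
  simp [st2, Subgroup.mem_inf, MulAction.mem_stabilizer_iff, and_assoc]

theorem mem_st3 {a b c : Ω} {x : Perm Ω} :
    x ∈ C.st3 a b c ↔ x ∈ C.L ∧ x a = a ∧ x b = b ∧ x c = c := by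
  simp [st3, Subgroup.mem_inf, C.mem_st2, MulAction.mem_stabilizer_iff, and_assoc]

theorem conj_mem_st2 {a b : Ω} {g x : Perm Ω} (hg : g ∈ C.G) (hx : x ∈ C.st2 a b) :
    g * x * g⁻¹ ∈ C.st2 (g a) (g b) := by
  obtain ⟨hL, ha, hb⟩ := C.mem_st2.1 hx
  exact C.mem_st2.2 ⟨C.norm g hg x hL, by simp [ha], by simp [hb]⟩

/-- The orbit of `c` under the stabiliser in `L` of `a` and `b`. -/
def orb (a b c : Ω) : Set Ω := {x | ∃ l ∈ C.st2 a b, l c = x}

variable {C}

theorem mem_orb_self (a b c : Ω) : c ∈ C.orb a b c := ⟨1, one_mem _, rfl⟩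

theorem orb_subset_rest {a b c : Ω} (hac : c ≠ a) (hbc : c ≠ b) : C.orb a b c ⊆ rest a b := by
  rintro x ⟨l, hl, rfl⟩
  obtain ⟨-, ha, hb⟩ := C.mem_st2.1 hl
  exact ⟨fun h => hac (l.injective (h.trans ha.symm)), fun h => hbc (l.injective (h.trans hb.symm))⟩

theorem orb_eq_of_mem {a b c x : Ω} (h : x ∈ C.orb a b c) : C.orb a b x = C.orb a b c := by
  obtain ⟨l, hl, rfl⟩ := h
  ext y
  constructor
  · rintro ⟨m, hm, rfl⟩
    exact ⟨m * l, mul_mem hm hl, rfl⟩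
  · rintro ⟨m, hm, rfl⟩
    exact ⟨m * l⁻¹, mul_mem hm (inv_mem hl), by simp⟩

theorem mem_orb_symm {a b c x : Ω} (h : x ∈ C.orb a b c) : c ∈ C.orb a b x := by
  rw [orb_eq_of_mem h]; exact mem_orb_self a b c

theorem orb_disjoint {a b c x : Ω} (h : x ∉ C.orb a b c) :
    Disjoint (C.orb a b c) (C.orb a b x) := by
  rw [Set.disjoint_left]
  intro y hy hy'
  exact h (orb_eq_of_mem hy ▸ (orb_eq_of_mem hy').symm ▸ mem_orb_self a b x)

theorem image_orb {g : Perm Ω} (hg : g ∈ C.G) (a b c : Ω) :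
    g '' C.orb a b c = C.orb (g a) (g b) (g c) := by
  ext y
  constructor
  · rintro ⟨_, ⟨l, hl, rfl⟩, rfl⟩
    exact ⟨g * l * g⁻¹, C.conj_mem_st2 hg hl, by simp⟩
  · rintro ⟨l, hl, rfl⟩
    refine ⟨(g⁻¹ * l * g) c, ⟨g⁻¹ * l * g, ?_, rfl⟩, by simp⟩
    have := C.conj_mem_st2 (inv_mem hg) hl
    simpa using this

theorem ncard_orb_eq {a b c x y z : Ω} (hab : a ≠ b) (hac : a ≠ c) (hbc : b ≠ c) (hxy : x ≠ y)
    (hxz : x ≠ z) (hyz : y ≠ z) : (C.orb a b c).ncard = (C.orb x y z).ncard := by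
  obtain ⟨g, hg, rfl, rfl, rfl⟩ := C.three hab hac hbc hxy hxz hyz
  rw [← image_orb hg, Set.ncard_image_of_injective _ g.injective]

theorem ncard_orb_dvd [Finite Ω] {a b c : Ω} (hab : a ≠ b) (hac : a ≠ c) (hbc : b ≠ c) :
    (C.orb a b c).ncard ∣ Nat.card Ω - 2 := by
  classical
  have := Fintype.ofFinite Ω
  rw [← ncard_rest hab]
  let f : Ω → Set Ω := fun x => C.orb a b x
  let T : Finset Ω := Finset.univ.filter (fun x => x ∈ rest a b)
  have hT : (rest a b).ncard = T.card := by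
    rw [← Set.ncard_coe_finset]; simp [T]
  rw [hT, Finset.card_eq_sum_card_image f]
  refine Finset.dvd_sum fun O hO => ?_
  obtain ⟨x, hx, rfl⟩ := Finset.mem_image.1 hO
  have hx' : x ≠ a ∧ x ≠ b := (Finset.mem_filter.1 hx).2
  have : ((T.filter fun y => f y = f x) : Set Ω) = C.orb a b x := by
    ext y
    simp only [Finset.coe_filter, Set.mem_ofPred_eq, T, Finset.mem_filter, Finset.mem_univ, true_and, f]
    exact ⟨fun h => h.2 ▸ mem_orb_self a b y, fun h => ⟨orb_subset_rest hx'.1 hx'.2 h, orb_eq_of_mem h⟩⟩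
  rw [← Set.ncard_coe_finset, this, ncard_orb_eq hab hx'.1.symm hx'.2.symm hab hac hbc]

variable (C)

/-- At most two orbits of a two-point stabiliser on the remaining points. -/
def Few : Prop :=
  ∀ a b x y z : Ω, a ≠ b → x ∈ rest a b → y ∈ rest a b → z ∈ rest a b →
    y ∈ C.orb a b x ∨ z ∈ C.orb a b x ∨ z ∈ C.orb a b y

/-- One orbit of a two-point stabiliser on the remaining points. -/
def Whole : Prop := ∀ a b x y : Ω, a ≠ b → x ∈ rest a b → y ∈ rest a b → y ∈ C.orb a b x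

variable {C}

theorem Whole.few (h : C.Whole) : C.Few := fun a b x y _ hab hx hy _ => Or.inl (h a b x y hab hx hy)

theorem few_of_card [Finite Ω] {a b c : Ω} (hab : a ≠ b) (hac : a ≠ c) (hbc : b ≠ c)
    (h : Nat.card Ω - 2 ≤ 2 * (C.orb a b c).ncard) : C.Few := by
  intro a' b' x y z hab' hx hy hz
  by_contra hne
  push Not at hne
  obtain ⟨hyx, hzx, hzy⟩ := hne
  have hx' := ncard_orb_eq (C := C) hab hac hbc hab' hx.1.symm hx.2.symm
  have hy' := ncard_orb_eq (C := C) hab hac hbc hab' hy.1.symm hy.2.symm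
  have hz' := ncard_orb_eq (C := C) hab hac hbc hab' hz.1.symm hz.2.symm
  have hsub : (C.orb a' b' x ∪ C.orb a' b' y) ∪ C.orb a' b' z ⊆ rest a' b' :=
    Set.union_subset (Set.union_subset (orb_subset_rest hx.1 hx.2) (orb_subset_rest hy.1 hy.2))
      (orb_subset_rest hz.1 hz.2)
  have hle := Set.ncard_le_ncard hsub (Set.toFinite _)
  rw [Set.ncard_union_eq (Disjoint.union_left (orb_disjoint hzx) (orb_disjoint hzy))
      (Set.toFinite _) (Set.toFinite _),
    Set.ncard_union_eq (orb_disjoint hyx) (Set.toFinite _) (Set.toFinite _), ← hx', ← hy', ← hz',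
    ncard_rest hab'] at hle
  have : 0 < (C.orb a b c).ncard := (Set.ncard_pos (Set.toFinite _)).2 ⟨c, mem_orb_self a b c⟩
  omega

theorem whole_of_card [Finite Ω] {a b c : Ω} (hab : a ≠ b) (hac : a ≠ c) (hbc : b ≠ c)
    (h : Nat.card Ω - 2 ≤ (C.orb a b c).ncard) : C.Whole := by
  intro a' b' x y hab' hx hy
  have hx' := ncard_orb_eq (C := C) hab hac hbc hab' hx.1.symm hx.2.symm
  have : C.orb a' b' x = rest a' b' :=
    Set.eq_of_subset_of_ncard_le (orb_subset_rest hx.1 hx.2)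
      (by rw [ncard_rest hab', ← hx']; exact h) (Set.toFinite _)
  rw [this]; exact hy

theorem ncard_orb_mul [Finite Ω] (a b c : Ω) :
    (C.orb a b c).ncard * Nat.card (C.st3 a b c) = Nat.card (C.st2 a b) := by
  have h1 : C.orb a b c = MulAction.orbit (C.st2 a b) c := by
    ext x
    constructor
    · rintro ⟨l, hl, rfl⟩; exact ⟨⟨l, hl⟩, rfl⟩
    · rintro ⟨l, rfl⟩; exact ⟨l, l.2, rfl⟩
  have h2 : MulAction.stabilizer (C.st2 a b) c = (C.st3 a b c).subgroupOf (C.st2 a b) := by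
    ext l
    refine ⟨fun h => ⟨l.2, h⟩, fun h => h.2⟩
  have h3 := Subgroup.index_mul_card (MulAction.stabilizer (C.st2 a b) c)
  rw [MulAction.index_stabilizer, ← h1, h2,
    Nat.card_congr (Subgroup.subgroupOfEquivOfLe (show C.st3 a b c ≤ C.st2 a b from inf_le_left)).toEquiv] at h3
  exact h3

theorem card_st2_eq {a b x y : Ω} (hab : a ≠ b) (hxy : x ≠ y) :
    Nat.card (C.st2 a b) = Nat.card (C.st2 x y) := by
  obtain ⟨l, hl, rfl, rfl⟩ := C.two hab hxy
  refine Nat.card_congr (Equiv.subtypeEquiv (MulAut.conj l).toEquiv fun g => ?_)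
  refine ⟨fun h => C.conj_mem_st2 (C.le hl) h, fun h => ?_⟩
  have := C.conj_mem_st2 (inv_mem (C.le hl)) h
  simpa [MulAut.conj_apply, mul_assoc] using this

theorem conj_mem_st3 {a b c : Ω} {g x : Perm Ω} (hg : g ∈ C.G) (hx : x ∈ C.st3 a b c) :
    g * x * g⁻¹ ∈ C.st3 (g a) (g b) (g c) := by
  obtain ⟨hL, ha, hb, hc⟩ := C.mem_st3.1 hx
  exact C.mem_st3.2 ⟨C.norm g hg x hL, by simp [ha], by simp [hb], by simp [hc]⟩

theorem card_st3_eq {a b c x y z : Ω} (hab : a ≠ b) (hac : a ≠ c) (hbc : b ≠ c) (hxy : x ≠ y)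
    (hxz : x ≠ z) (hyz : y ≠ z) : Nat.card (C.st3 a b c) = Nat.card (C.st3 x y z) := by
  obtain ⟨g, hg, rfl, rfl, rfl⟩ := C.three hab hac hbc hxy hxz hyz
  refine Nat.card_congr (Equiv.subtypeEquiv (MulAut.conj g).toEquiv fun l => ?_)
  refine ⟨fun h => conj_mem_st3 hg h, fun h => ?_⟩
  have := conj_mem_st3 (C := C) (inv_mem hg) h
  simpa [MulAut.conj_apply, mul_assoc] using this

theorem isPretransitive (C : Ctx Ω) [Nontrivial Ω] : MulAction.IsPretransitive C.L Ω := by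
  refine ⟨fun a x => ?_⟩
  obtain ⟨b, hb⟩ := exists_ne a
  obtain ⟨y, hy⟩ := exists_ne x
  obtain ⟨l, hl, hla, -⟩ := C.two hb.symm hy.symm
  exact ⟨⟨l, hl⟩, hla⟩

/-- An involution in a point stabiliser of `L` gives, for every triple, an element of `L`
interchanging the first two points and fixing the third. -/
theorem exists_swap_fix {a : Ω} {u : Perm Ω} (hu : u ∈ C.L) (hua : u a = a) (hu2 : u * u = 1)
    (hu1 : u ≠ 1) {x y z : Ω} (hxy : x ≠ y) (hxz : x ≠ z) (hyz : y ≠ z) :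
    ∃ s ∈ C.L, s x = y ∧ s y = x ∧ s z = z := by
  obtain ⟨b, hb⟩ : ∃ b, u b ≠ b := by
    by_contra h; push Not at h; exact hu1 (Equiv.ext h)
  have hub : u (u b) = b := by rw [← Perm.mul_apply, hu2, Perm.one_apply]
  have hba : b ≠ a := fun h => hb (by rw [h, hua])
  have hba' : u b ≠ a := fun h => hba (u.injective (h.trans hua.symm))
  obtain ⟨g, hg, rfl, rfl, rfl⟩ := C.three (Ne.symm hb) hba hba' hxy hxz hyz
  exact ⟨g * u * g⁻¹, C.norm g hg u hu, by simp, by simp [hub], by simp [hua]⟩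

end Ctx

section Exists

variable [Finite Ω] {G : Subgroup (Perm Ω)}

/-- A normal subgroup of a triply transitive group which is regular forces degree a power of two. -/
theorem false_of_regular
    (h3 : ∀ {a b c x y z : Ω}, a ≠ b → a ≠ c → b ≠ c → x ≠ y → x ≠ z → y ≠ z →
      ∃ g ∈ G, g a = x ∧ g b = y ∧ g c = z)
    (hn : 3 < Nat.card Ω) (hn2 : ∀ k, Nat.card Ω ≠ 2 ^ k)
    (N : Subgroup (Perm Ω)) (hNG : ∀ g ∈ G, ∀ x ∈ N, g * x * g⁻¹ ∈ N)
    (hp : ∃ p : ℕ, p.Prime ∧ ∀ x ∈ N, x ^ p = 1)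
    (htr : ∀ a b : Ω, ∃ x ∈ N, x a = b) (hreg : ∀ x ∈ N, ∀ a : Ω, x a = a → x = 1) : False := by
  classical
  have := Fintype.ofFinite Ω
  obtain ⟨p, hp, hexp⟩ := hp
  have : Fact p.Prime := ⟨hp⟩
  have hne : Nonempty Ω := Nat.card_ne_zero.1 (by omega) |>.1
  obtain ⟨a⟩ := hne
  have hcard : Nat.card N = Nat.card Ω := by
    refine Nat.card_eq_of_bijective (fun x : N => (x : Perm Ω) a) ⟨?_, fun b => ?_⟩
    · intro x y h
      have h' : (x : Perm Ω) a = (y : Perm Ω) a := h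
      have := hreg ((x : Perm Ω)⁻¹ * y) (mul_mem (inv_mem x.2) y.2) a (by simp [← h'])
      exact Subtype.ext (inv_mul_eq_one.1 this)
    · obtain ⟨x, hx, hxa⟩ := htr a b; exact ⟨⟨x, hx⟩, hxa⟩
  have hpg : IsPGroup p N := fun x => ⟨1, Subtype.ext (by simpa using hexp x x.2)⟩
  obtain ⟨j, hj⟩ := hpg.exists_card_eq
  rw [hcard] at hj
  have hp2 : p ≠ 2 := fun h => hn2 j (h ▸ hj)
  haveI : Nontrivial Ω := Finite.one_lt_card_iff_nontrivial.1 (by omega)
  obtain ⟨b, hb⟩ := exists_ne a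
  obtain ⟨v, hv, hva⟩ := htr a b
  have hv1 : v ≠ 1 := fun h => hb (by rw [← hva, h]; rfl)
  have hvv : v⁻¹ a ≠ b := fun h => by
    have : v⁻¹ = v := inv_mul_eq_one.1 (hreg _ (mul_mem (inv_mem (inv_mem hv)) hv) a (by
      rw [inv_inv, Perm.mul_apply, hva, ← h]; simp))
    have h2 : v ^ 2 = 1 := by
      calc v ^ 2 = v * v⁻¹ := by rw [this, pow_two]
        _ = 1 := mul_inv_cancel v
    have ho : orderOf v = p := orderOf_eq_prime (hexp v hv) hv1
    have := ho ▸ orderOf_dvd_of_pow_eq_one h2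
    exact hp2 ((Nat.prime_dvd_prime_iff_eq hp Nat.prime_two).1 this)
  have hvb : v⁻¹ a ≠ a := fun h => hv1 (hreg v hv a (by conv_lhs => rw [← h]; simp))
  obtain ⟨w, hw⟩ : ∃ w, w ∉ ({a, b, v⁻¹ a} : Finset Ω) := by
    by_contra h; push Not at h
    have hsub : (Finset.univ : Finset Ω) ⊆ {a, b, v⁻¹ a} := fun w _ => h w
    have := (Finset.card_le_card hsub).trans Finset.card_le_three
    rw [Finset.card_univ, ← Nat.card_eq_fintype_card] at this
    omega
  simp only [Finset.mem_insert, Finset.mem_singleton, not_or] at hw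
  obtain ⟨g, hg, hga, hgb, hgw⟩ := h3 (Ne.symm hb) (Ne.symm hvb) (Ne.symm hvv) (Ne.symm hb)
    (Ne.symm hw.1) (Ne.symm hw.2.1)
  have hga' : g⁻¹ a = a := Perm.inv_eq_iff_eq.2 hga.symm
  have hgv : g * v * g⁻¹ = v := by
    refine inv_mul_eq_one.1 (hreg ((g * v * g⁻¹)⁻¹ * v) (mul_mem (inv_mem (hNG g hg v hv)) hv) a ?_)
    rw [Perm.mul_apply, Perm.inv_eq_iff_eq]
    simp [Perm.mul_apply, hga', hva, hgb]
  apply hw.2.2
  rw [← hgw]
  calc g (v⁻¹ a) = (g * v * g⁻¹)⁻¹ a := by simp [Perm.mul_apply, hga']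
    _ = v⁻¹ a := by rw [hgv]

/-- Existence of the simple doubly transitive socle. -/
theorem exists_ctx
    (h3 : ∀ {a b c x y z : Ω}, a ≠ b → a ≠ c → b ≠ c → x ≠ y → x ≠ z → y ≠ z →
      ∃ g ∈ G, g a = x ∧ g b = y ∧ g c = z)
    (hn : 3 < Nat.card Ω) (hn2 : ∀ k, Nat.card Ω ≠ 2 ^ k) :
    ∃ C : Ctx Ω, C.G = G ∧ ∀ H : Subgroup (Perm Ω), H ≤ G → H ≠ ⊥ →
      (∀ g ∈ G, ∀ x ∈ H, g * x * g⁻¹ ∈ H) → C.L ≤ H := by
  classical
  have := Fintype.ofFinite Ω
  have hnt : Nontrivial Ω := Finite.one_lt_card_iff_nontrivial.1 (by omega)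
  have third : ∀ a b : Ω, ∃ c, c ≠ a ∧ c ≠ b := fun a b => by
    by_contra h; push Not at h
    have hsub : (Finset.univ : Finset Ω) ⊆ {a, b} := fun w _ => by
      by_cases hw : w = a
      · simp [hw]
      · simp [h w hw]
    have := (Finset.card_le_card hsub).trans Finset.card_le_two
    rw [Finset.card_univ, ← Nat.card_eq_fintype_card] at this
    omega
  have h2 : ∀ {a b x y : Ω}, a ≠ b → x ≠ y → ∃ g ∈ G, g a = x ∧ g b = y := by
    intro a b x y hab hxy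
    obtain ⟨c, hca, hcb⟩ := third a b
    obtain ⟨z, hzx, hzy⟩ := third x y
    obtain ⟨g, hg, h1, h2, -⟩ := h3 hab hca.symm hcb.symm hxy hzx.symm hzy.symm
    exact ⟨g, hg, h1, h2⟩
  have hG2 : MulAction.IsMultiplyPretransitive G Ω 2 := by
    rw [MulAction.is_two_pretransitive_iff]
    intro a b x y hab hxy
    obtain ⟨g, hg, h1, h2⟩ := h2 hab hxy
    exact ⟨⟨g, hg⟩, h1, h2⟩
  -- normal subgroups are doubly transitive
  have hnorm : ∀ N : Subgroup (Perm Ω), N ≤ G → N ≠ ⊥ → (∀ g ∈ G, ∀ x ∈ N, g * x * g⁻¹ ∈ N) →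
      ∀ {a b x y : Ω}, a ≠ b → x ≠ y → ∃ l ∈ N, l a = x ∧ l b = y := by
    intro N hNle hN1 hNG
    obtain ⟨n₀, hn₀, hn₀1⟩ : ∃ m ∈ N, m ≠ 1 := by
      by_contra h; push Not at h
      exact hN1 (eq_bot_iff.2 fun x hx => Subgroup.mem_bot.2 (h x hx))
    obtain ⟨p₀, hp₀⟩ : ∃ w, n₀ w ≠ w := by
      by_contra h; push Not at h; exact hn₀1 (Equiv.ext h)
    have htr : ∀ a b : Ω, ∃ l ∈ N, l a = b := by
      intro a b
      by_cases hab : a = b
      · exact ⟨1, one_mem _, hab⟩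
      obtain ⟨g, hg, rfl, rfl⟩ := h2 (Ne.symm hp₀) hab
      exact ⟨g * n₀ * g⁻¹, hNG g hg n₀ hn₀, by simp⟩
    intro a b x y hab hxy
    by_cases hreg : ∀ x ∈ N, ∀ a : Ω, x a = a → x = 1
    · exfalso
      let N' : Subgroup G := N.subgroupOf G
      have : N'.Normal := ⟨fun x hx g => hNG g g.2 x hx⟩
      have hNt : MulAction.IsPretransitive N' Ω := ⟨fun a b => by
        obtain ⟨l, hl, hlab⟩ := htr a b
        exact ⟨⟨⟨l, hNle hl⟩, hl⟩, hlab⟩⟩
      have hNr : ∀ a : Ω, MulAction.stabilizer N' a = ⊥ := fun a => by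
        rw [eq_bot_iff]
        intro x hx
        exact Subgroup.mem_bot.2 (Subtype.ext (Subtype.ext (hreg _ x.2 a hx)))
      obtain ⟨-, p, hp, hexp⟩ := Cfsg.Agent.S0054.result hG2 N' hNt hNr
      exact false_of_regular h3 hn hn2 N hNG ⟨p, hp, fun x hx => by
        simpa using congrArg Subtype.val (hexp ⟨x, hNle hx⟩ hx)⟩ htr hreg
    · push Not at hreg
      obtain ⟨m, hm, a₀, hma, hm1⟩ := hreg
      obtain ⟨b₀, hb₀⟩ : ∃ w, m w ≠ w := by
        by_contra h; push Not at h; exact hm1 (Equiv.ext h)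
      have hb₀a : b₀ ≠ a₀ := fun h => hb₀ (by rw [h, hma])
      have hmb₀a : m b₀ ≠ a₀ := fun h => hb₀a (m.injective (h.trans hma.symm))
      have key : ∀ a b c : Ω, b ≠ a → c ≠ a → ∃ l ∈ N, l a = a ∧ l b = c := by
        intro a b c hb hc
        by_cases hbc : b = c
        · exact ⟨1, one_mem _, rfl, hbc⟩
        obtain ⟨g, hg, rfl, rfl, rfl⟩ :=
          h3 hb₀a.symm hmb₀a.symm (Ne.symm hb₀) hb.symm hc.symm hbc
        exact ⟨g * m * g⁻¹, hNG g hg m hm, by simp [hma], by simp⟩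
      obtain ⟨l, hl, hla⟩ := htr a x
      obtain ⟨l', hl', hl'x, hl'y⟩ := key x (l b) y
        (fun h => hab (l.injective (hla.trans h.symm))) hxy.symm
      exact ⟨l' * l, mul_mem hl' hl, by simp [hla, hl'x], by simp [hl'y]⟩
  -- a minimal normal subgroup
  have hGbot : (⊤ : Subgroup G) ≠ ⊥ := by
    obtain ⟨a, b, hab⟩ := exists_pair_ne Ω
    obtain ⟨g, hg, hga, -⟩ := h2 hab hab.symm
    intro h
    have := Subgroup.mem_bot.1 (h ▸ Subgroup.mem_top (⟨g, hg⟩ : G))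
    rw [Subtype.ext_iff] at this
    exact hab (by rw [← hga]; simp [show g = 1 from this])
  obtain ⟨K, ⟨hK1, hK2⟩, hmin⟩ := Set.exists_min_image
    {K : Subgroup G | K.Normal ∧ K ≠ ⊥} (fun K => Nat.card K) (Set.toFinite _)
    ⟨⊤, inferInstance, hGbot⟩
  have hminK : ∀ M : Subgroup G, M.Normal → M ≤ K → M = ⊥ ∨ M = K := fun M hM hle => by
    by_cases h : M = ⊥
    · exact Or.inl h
    · exact Or.inr (Subgroup.eq_of_le_of_card_ge hle (hmin M ⟨hM, h⟩))
  let L := K.map G.subtype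
  have hLle : L ≤ G := by rintro _ ⟨x, -, rfl⟩; exact x.2
  have hLnorm : ∀ g ∈ G, ∀ x ∈ L, g * x * g⁻¹ ∈ L := by
    rintro g hg _ ⟨x, hx, rfl⟩
    exact ⟨⟨g, hg⟩ * x * ⟨g, hg⟩⁻¹, hK1.conj_mem x hx _, rfl⟩
  have hL1 : L ≠ ⊥ := by
    rw [Ne, Subgroup.map_eq_bot_iff_of_injective _ G.subtype_injective]
    exact hK2
  have hL2 : ∀ {a b x y : Ω}, a ≠ b → x ≠ y → ∃ l ∈ L, l a = x ∧ l b = y := hnorm L hLle hL1 hLnorm
  have hLns : ∀ a : Ω, MulAction.stabilizer K a ≠ ⊥ := fun a h => by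
    obtain ⟨b, hba⟩ := exists_ne a
    obtain ⟨c, hca, hcb⟩ := third a b
    obtain ⟨l, ⟨x, hxK, rfl⟩, hla, hlb⟩ := hL2 hba.symm hca.symm
    have hmem : (⟨x, hxK⟩ : K) ∈ MulAction.stabilizer K a := hla
    rw [h, Subgroup.mem_bot] at hmem
    have hx1 : x = 1 := congrArg Subtype.val hmem
    rw [hx1] at hlb
    exact hcb hlb.symm
  haveI := hK1
  rcases Cfsg.Agent.S0700.result G hG2 K hK2 hminK with ⟨-, -, hreg⟩ | ⟨hsimple, -⟩
  · exact absurd (hreg (Classical.arbitrary Ω)) (hLns _)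
  have hLK : L ≃* K := (K.equivMapOfInjective G.subtype G.subtype_injective).symm
  have hLsimple : IsSimpleGroup L := by
    haveI := hsimple
    haveI : Nontrivial L := hLK.toEquiv.nontrivial
    exact hLK.isSimpleGroup
  have hnc : ¬ IsMulCommutative L := by
    intro hc
    -- an abelian transitive group is regular
    apply hLns (Classical.arbitrary Ω)
    rw [eq_bot_iff]
    intro x hx
    rw [Subgroup.mem_bot]
    refine Subtype.ext (Subtype.ext (Equiv.ext fun w => ?_))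
    obtain ⟨b, hb⟩ := exists_ne (Classical.arbitrary Ω)
    obtain ⟨y, hy⟩ := exists_ne w
    obtain ⟨l, hl, hlw, -⟩ := hL2 hb.symm hy.symm
    have hxL : ((x : G) : Perm Ω) ∈ L := ⟨x, x.2, rfl⟩
    have hcomm : ((x : G) : Perm Ω) * l = l * ((x : G) : Perm Ω) :=
      congrArg Subtype.val (hc.is_comm.comm (⟨_, hxL⟩ : L) ⟨l, hl⟩)
    have hxa : ((x : G) : Perm Ω) (Classical.arbitrary Ω) = Classical.arbitrary Ω := hx
    show ((x : G) : Perm Ω) w = w
    rw [← hlw, ← Perm.mul_apply, hcomm, Perm.mul_apply, hxa]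
  refine ⟨⟨G, L, hLle, hLnorm, h3, hL2, hLsimple, hnc⟩, rfl, fun H hHle hH1 hHnorm => ?_⟩
  show L ≤ H
  let M : Subgroup G := H.subgroupOf G ⊓ K
  have hMn : M.Normal :=
    have : (H.subgroupOf G).Normal := ⟨fun x hx g => hHnorm g g.2 x hx⟩
    inferInstance
  rcases hminK M hMn inf_le_right with hM | hM
  · exfalso
    have hH2 : ∀ {a b x y : Ω}, a ≠ b → x ≠ y → ∃ l ∈ H, l a = x ∧ l b = y :=
      hnorm H hHle hH1 hHnorm
    have hcomm : ∀ h ∈ H, ∀ l ∈ L, h * l = l * h := by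
      rintro h hh _ ⟨x, hx, rfl⟩
      have h1 : (⟨h, hHle hh⟩ : G) * x * (⟨h, hHle hh⟩ : G)⁻¹ * x⁻¹ ∈ M := by
        constructor
        · show h * (x : Perm Ω) * h⁻¹ * ((x : Perm Ω))⁻¹ ∈ H
          have := mul_mem hh (hHnorm _ x.2 _ (inv_mem hh))
          simpa [mul_assoc] using this
        · exact K.mul_mem (hK1.conj_mem x hx _) (K.inv_mem hx)
      rw [hM, Subgroup.mem_bot] at h1
      have := congrArg Subtype.val h1
      simp only [Subgroup.coe_mul, Subgroup.coe_inv, Subgroup.coe_one] at this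
      show h * (x : Perm Ω) = (x : Perm Ω) * h
      exact mul_inv_eq_iff_eq_mul.1 (mul_inv_eq_one.1 this)
    apply hLns (Classical.arbitrary Ω)
    rw [eq_bot_iff]
    intro x hx
    rw [Subgroup.mem_bot]
    refine Subtype.ext (Subtype.ext (Equiv.ext fun w => ?_))
    obtain ⟨b, hb⟩ := exists_ne (Classical.arbitrary Ω)
    obtain ⟨y, hy⟩ := exists_ne w
    obtain ⟨h, hh, hhw, -⟩ := hH2 hb.symm hy.symm
    have hxa : ((x : G) : Perm Ω) (Classical.arbitrary Ω) = Classical.arbitrary Ω := hx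
    show ((x : G) : Perm Ω) w = w
    have hc : h * ((x : G) : Perm Ω) = ((x : G) : Perm Ω) * h := hcomm h hh _ ⟨x, x.2, rfl⟩
    rw [← hhw, ← Perm.mul_apply, ← hc, Perm.mul_apply, hxa]
  · rintro _ ⟨x, hx, rfl⟩
    exact (hM.ge hx).1

end Exists

end CfsgLib.TripleNormal
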