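import Cfsg.Agent.Lib.TripleNormal.Basic

/-!
# Fixed sets of subgroups of three-point stabilisers

Witt's argument: the normaliser of a suitable subgroup `R` of a three-point stabiliser is triply
transitive on the fixed set of `R`, so the set-up descends to that set.
-/

set_option autoImplicit false

open Equiv Subgroup
open scoped Pointwise

namespace CfsgLib.TripleNormal

universe u

variable {Ω : Type u}

/-- The common fixed points of a set of permutations. -/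
def fixSet (R : Subgroup (Perm Ω)) : Set Ω := {x | ∀ r ∈ R, r x = x}

/-- `R` is a Sylow `p`-subgroup of `S`, in terms of orders. -/
def IsFull (p : ℕ) (R S : Subgroup (Perm Ω)) : Prop :=
  R ≤ S ∧ Nat.card R = p ^ (Nat.card S).factorization p

theorem exists_isFull [Finite Ω] (p : ℕ) [Fact p.Prime] (S : Subgroup (Perm Ω)) :
    ∃ R, IsFull p R S := by
  obtain ⟨P⟩ : Nonempty (Sylow p S) := inferInstance
  refine ⟨(P : Subgroup S).map S.subtype, ?_, ?_⟩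
  · rintro _ ⟨x, -, rfl⟩; exact x.2
  · rw [Nat.card_congr ((P : Subgroup S).equivMapOfInjective S.subtype S.subtype_injective).toEquiv.symm]
    exact P.card_eq_multiplicity

theorem IsFull.isPGroup {p : ℕ} {R S : Subgroup (Perm Ω)} (h : IsFull p R S) : IsPGroup p R :=
  IsPGroup.of_card h.2

theorem IsFull.exists_conj [Finite Ω] {p : ℕ} [Fact p.Prime] {R R' S : Subgroup (Perm Ω)}
    (h : IsFull p R S) (h' : IsFull p R' S) :
    ∃ s ∈ S, ∀ r, r ∈ R ↔ s * r * s⁻¹ ∈ R' := by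
  let P : Sylow p S := Sylow.ofCard (R.subgroupOf S)
    (by rw [Nat.card_congr (Subgroup.subgroupOfEquivOfLe h.1).toEquiv]; exact h.2)
  let P' : Sylow p S := Sylow.ofCard (R'.subgroupOf S)
    (by rw [Nat.card_congr (Subgroup.subgroupOfEquivOfLe h'.1).toEquiv]; exact h'.2)
  obtain ⟨s, hs⟩ := MulAction.exists_smul_eq S P P'
  have hsub : (MulAut.conj s • R.subgroupOf S : Subgroup S) = R'.subgroupOf S :=
    congrArg (fun Q : Sylow p S => (Q : Subgroup S)) hs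
  refine ⟨s, s.2, fun r => ⟨fun hr => ?_, fun hr => ?_⟩⟩
  · have : MulAut.conj s • (⟨r, h.1 hr⟩ : S) ∈ (MulAut.conj s • R.subgroupOf S : Subgroup S) :=
      Subgroup.smul_mem_pointwise_smul _ _ _ hr
    rw [hsub] at this
    simpa [Subgroup.mem_subgroupOf, MulAut.smul_def] using this
  · have hrS : r ∈ S := by
      have := mul_mem (mul_mem (inv_mem s.2) (h'.1 hr)) s.2
      simpa [mul_assoc] using this
    have : MulAut.conj s • (⟨r, hrS⟩ : S) ∈ (MulAut.conj s • R.subgroupOf S : Subgroup S) := by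
      rw [hsub]
      simpa [Subgroup.mem_subgroupOf, MulAut.smul_def] using hr
    rw [Subgroup.smul_mem_pointwise_smul_iff] at this
    exact this

theorem isFull_map {p : ℕ} {R S : Subgroup (Perm Ω)} (h : IsFull p R S) (g : Perm Ω)
    {T : Subgroup (Perm Ω)} (hT : R.map (MulAut.conj g).toMonoidHom ≤ T)
    (hc : Nat.card S = Nat.card T) : IsFull p (R.map (MulAut.conj g).toMonoidHom) T := by
  refine ⟨hT, ?_⟩
  rw [← Nat.card_congr (R.equivMapOfInjective _ (MulAut.conj g).injective).toEquiv, h.2, hc]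

theorem mem_normalizer_iff' {R : Subgroup (Perm Ω)} {g : Perm Ω} :
    g ∈ Subgroup.normalizer (R : Set (Perm Ω)) ↔ ∀ r, r ∈ R ↔ g * r * g⁻¹ ∈ R :=
  Subgroup.mem_normalizer_iff

theorem apply_mem_fixSet {R : Subgroup (Perm Ω)} {g : Perm Ω}
    (hg : g ∈ Subgroup.normalizer (R : Set (Perm Ω))) {x : Ω} (hx : x ∈ fixSet R) :
    g x ∈ fixSet R := by
  intro r hr
  have h1 := hx _ ((mem_normalizer_iff'.1 (inv_mem hg) r).1 hr)
  simp only [inv_inv, Perm.mul_apply] at h1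
  exact Perm.inv_eq_iff_eq.1 h1

theorem modEq_card_fixSet [Finite Ω] {p : ℕ} [Fact p.Prime] {R : Subgroup (Perm Ω)}
    (hR : IsPGroup p R) : Nat.card Ω ≡ (fixSet R).ncard [MOD p] := by
  have h := hR.card_modEq_card_fixedPoints Ω
  have e : MulAction.fixedPoints R Ω = fixSet R := by
    ext x
    exact ⟨fun hx r hr => hx ⟨r, hr⟩, fun hx r => hx r r.2⟩
  rwa [Nat.card_coe_set_eq, e] at h

namespace Ctx

variable {C : Ctx Ω}

/-- The hypothesis of Witt's lemma. -/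
def ThreeFix (C : Ctx Ω) (R : Subgroup (Perm Ω)) : Prop :=
  ∀ {x y z x' y' z' : Ω}, x ∈ fixSet R → y ∈ fixSet R → z ∈ fixSet R → x' ∈ fixSet R →
    y' ∈ fixSet R → z' ∈ fixSet R → x ≠ y → x ≠ z → y ≠ z → x' ≠ y' → x' ≠ z' → y' ≠ z' →
    ∃ g ∈ C.G, g ∈ Subgroup.normalizer (R : Set (Perm Ω)) ∧ g x = x' ∧ g y = y' ∧ g z = z'

theorem threeFix_of_full [Finite Ω] {p : ℕ} [Fact p.Prime] {a b c : Ω} (hab : a ≠ b)
    (hac : a ≠ c) (hbc : b ≠ c) {R : Subgroup (Perm Ω)} (hR : IsFull p R (C.st3 a b c)) :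
    C.ThreeFix R := by
  intro x y z x' y' z' hx hy hz hx' hy' hz' hxy hxz hyz hxy' hxz' hyz'
  obtain ⟨g, hg, hgx, hgy, hgz⟩ := C.three hxy hxz hyz hxy' hxz' hyz'
  have hRle : R ≤ C.st3 x' y' z' := fun r hr =>
    C.mem_st3.2 ⟨(C.mem_st3.1 (hR.1 hr)).1, hx' r hr, hy' r hr, hz' r hr⟩
  have hgRle : R.map (MulAut.conj g).toMonoidHom ≤ C.st3 x' y' z' := by
    rintro _ ⟨r, hr, rfl⟩
    have := conj_mem_st3 (C := C) hg
      (C.mem_st3.2 ⟨(C.mem_st3.1 (hR.1 hr)).1, hx r hr, hy r hr, hz r hr⟩ : r ∈ C.st3 x y z)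
    rwa [hgx, hgy, hgz] at this
  have hc := card_st3_eq (C := C) hab hac hbc hxy' hxz' hyz'
  obtain ⟨s, hs, hconj⟩ := (isFull_map hR g hgRle hc).exists_conj (R' := R) ⟨hRle, by rw [← hc]; exact hR.2⟩
  obtain ⟨hsL, hsx, hsy, hsz⟩ := C.mem_st3.1 hs
  refine ⟨s * g, mul_mem (C.le hsL) hg, ?_, by simp [hgx, hsx], by simp [hgy, hsy], by simp [hgz, hsz]⟩
  rw [mem_normalizer_iff']
  intro r
  have h1 := hconj (g * r * g⁻¹)
  have h2 : g * r * g⁻¹ ∈ R.map (MulAut.conj g).toMonoidHom ↔ r ∈ R := by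
    rw [Subgroup.mem_map]
    exact ⟨fun ⟨w, hw, he⟩ => by simp at he; exact he ▸ hw, fun hr => ⟨r, hr, rfl⟩⟩
  rw [h2] at h1
  simpa [mul_assoc] using h1

theorem twoFix_of_full [Finite Ω] {p : ℕ} [Fact p.Prime] {a b : Ω} (hab : a ≠ b)
    {R : Subgroup (Perm Ω)} (hR : IsFull p R (C.st2 a b)) {x y x' y' : Ω} (hx : x ∈ fixSet R)
    (hy : y ∈ fixSet R) (hx' : x' ∈ fixSet R) (hy' : y' ∈ fixSet R) (hxy : x ≠ y) (hxy' : x' ≠ y') :
    ∃ l ∈ C.L, l ∈ Subgroup.normalizer (R : Set (Perm Ω)) ∧ l x = x' ∧ l y = y' := by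
  obtain ⟨g, hg, hgx, hgy⟩ := C.two hxy hxy'
  have hRle : R ≤ C.st2 x' y' := fun r hr =>
    C.mem_st2.2 ⟨(C.mem_st2.1 (hR.1 hr)).1, hx' r hr, hy' r hr⟩
  have hgRle : R.map (MulAut.conj g).toMonoidHom ≤ C.st2 x' y' := by
    rintro _ ⟨r, hr, rfl⟩
    have := C.conj_mem_st2 (C.le hg)
      (C.mem_st2.2 ⟨(C.mem_st2.1 (hR.1 hr)).1, hx r hr, hy r hr⟩ : r ∈ C.st2 x y)
    rwa [hgx, hgy] at this
  have hc := card_st2_eq (C := C) hab hxy'
  obtain ⟨s, hs, hconj⟩ := (isFull_map hR g hgRle hc).exists_conj (R' := R) ⟨hRle, by rw [← hc]; exact hR.2⟩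
  obtain ⟨hsL, hsx, hsy⟩ := C.mem_st2.1 hs
  refine ⟨s * g, mul_mem hsL hg, ?_, by simp [hgx, hsx], by simp [hgy, hsy]⟩
  rw [mem_normalizer_iff']
  intro r
  have h1 := hconj (g * r * g⁻¹)
  have h2 : g * r * g⁻¹ ∈ R.map (MulAut.conj g).toMonoidHom ↔ r ∈ R := by
    rw [Subgroup.mem_map]
    exact ⟨fun ⟨w, hw, he⟩ => by simp at he; exact he ▸ hw, fun hr => ⟨r, hr, rfl⟩⟩
  rw [h2] at h1
  simpa [mul_assoc] using h1

/-- If `R` is a full `p`-subgroup of a two-point stabiliser, every orbit meets its fixed set. -/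
theorem exists_fixed_in_orb [Finite Ω] {p : ℕ} [Fact p.Prime] {a b : Ω} {R : Subgroup (Perm Ω)}
    (hR : R ≤ C.st2 a b) (hp : IsPGroup p R) {c : Ω} (hm : ¬ p ∣ (C.orb a b c).ncard) :
    ∃ x ∈ C.orb a b c, x ∈ fixSet R := by
  classical
  have hinv : ∀ r : R, ∀ x ∈ C.orb a b c, (r : Perm Ω) x ∈ C.orb a b c := by
    rintro r _ ⟨l, hl, rfl⟩
    exact ⟨r * l, mul_mem (hR r.2) hl, rfl⟩
  letI : MulAction R (C.orb a b c) :=
    { smul := fun r x => ⟨(r : Perm Ω) x, hinv r x x.2⟩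
      one_smul := fun x => rfl
      mul_smul := fun r s x => rfl }
  obtain ⟨x, hx⟩ := hp.nonempty_fixed_point_of_prime_not_dvd_card (C.orb a b c)
    (by rwa [Nat.card_coe_set_eq])
  exact ⟨x, x.2, fun r hr => congrArg Subtype.val (hx ⟨r, hr⟩)⟩

/-- Restriction to the fixed set. -/
noncomputable def resHom (R : Subgroup (Perm Ω)) :
    Subgroup.normalizer (R : Set (Perm Ω)) →* Perm (fixSet R) where
  toFun g := (g : Perm Ω).subtypePerm fun x => ⟨fun h => by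
      simpa using apply_mem_fixSet (inv_mem g.2) h, fun h => apply_mem_fixSet g.2 h⟩
  map_one' := by ext; rfl
  map_mul' g h := by ext; rfl

theorem resHom_apply (R : Subgroup (Perm Ω)) (g : Subgroup.normalizer (R : Set (Perm Ω)))
    (x : fixSet R) : ((resHom R g x : fixSet R) : Ω) = (g : Perm Ω) x := rfl

/-- The image in the fixed set of `H ∩ N(R)`. -/
noncomputable def resImage (R H : Subgroup (Perm Ω)) : Subgroup (Perm (fixSet R)) :=
  (H.subgroupOf (Subgroup.normalizer (R : Set (Perm Ω)))).map (resHom R)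

theorem mem_resImage {R H : Subgroup (Perm Ω)} {σ : Perm (fixSet R)} :
    σ ∈ resImage R H ↔ ∃ g ∈ H, g ∈ Subgroup.normalizer (R : Set (Perm Ω)) ∧
      ∀ x : fixSet R, (σ x : Ω) = g x := by
  constructor
  · rintro ⟨g, hg, rfl⟩
    exact ⟨g, hg, g.2, fun x => rfl⟩
  · rintro ⟨g, hg, hgn, h⟩
    exact ⟨⟨g, hgn⟩, hg, Equiv.ext fun x => Subtype.ext (h x).symm⟩

/-- The set-up on the fixed set. -/
theorem exists_sub [Finite Ω] {R : Subgroup (Perm Ω)} (h3 : C.ThreeFix R)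
    (hcard : 3 < (fixSet R).ncard) (hpow : ∀ k, (fixSet R).ncard ≠ 2 ^ k)
    (hL : ∃ l ∈ C.L, l ∈ Subgroup.normalizer (R : Set (Perm Ω)) ∧ ∃ x ∈ fixSet R, l x ≠ x) :
    ∃ C' : Ctx (fixSet R), C'.G = resImage R C.G ∧ C'.L ≤ resImage R C.L := by
  have h3' : ∀ {a b c x y z : fixSet R}, a ≠ b → a ≠ c → b ≠ c → x ≠ y → x ≠ z → y ≠ z →
      ∃ g ∈ resImage R C.G, g a = x ∧ g b = y ∧ g c = z := by
    intro a b c x y z hab hac hbc hxy hxz hyz
    obtain ⟨g, hg, hgn, hga, hgb, hgc⟩ := h3 a.2 b.2 c.2 x.2 y.2 z.2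
      (fun h => hab (Subtype.ext h)) (fun h => hac (Subtype.ext h)) (fun h => hbc (Subtype.ext h))
      (fun h => hxy (Subtype.ext h)) (fun h => hxz (Subtype.ext h)) (fun h => hyz (Subtype.ext h))
    exact ⟨resHom R ⟨g, hgn⟩, ⟨⟨g, hgn⟩, hg, rfl⟩, Subtype.ext hga, Subtype.ext hgb, Subtype.ext hgc⟩
  obtain ⟨C', hG, hmin⟩ := exists_ctx h3' (by rwa [Nat.card_coe_set_eq])
    (fun k => by rw [Nat.card_coe_set_eq]; exact hpow k)
  refine ⟨C', hG, hmin _ ?_ ?_ ?_⟩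
  · exact Subgroup.map_mono fun g hg => C.le hg
  · obtain ⟨l, hl, hln, x, hx, hlx⟩ := hL
    intro hbot
    have hmem : resHom R ⟨l, hln⟩ ∈ resImage R C.L := ⟨⟨l, hln⟩, hl, rfl⟩
    rw [hbot, Subgroup.mem_bot] at hmem
    exact hlx (congrArg Subtype.val (Equiv.ext_iff.1 hmem ⟨x, hx⟩))
  · rintro σ ⟨g, hg, rfl⟩ τ ⟨h, hh, rfl⟩
    refine ⟨g * h * g⁻¹, ?_, by rw [map_mul, map_mul, map_inv]⟩
    show (g : Perm Ω) * h * (g : Perm Ω)⁻¹ ∈ C.L
    exact C.norm _ hg _ hh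

theorem mem_orb_of_sub {R : Subgroup (Perm Ω)} {C' : Ctx (fixSet R)}
    (hle : C'.L ≤ resImage R C.L) {a b c x : fixSet R} (h : x ∈ C'.orb a b c) :
    (x : Ω) ∈ C.orb a b c := by
  obtain ⟨l, hl, rfl⟩ := h
  obtain ⟨hlL, hla, hlb⟩ := C'.mem_st2.1 hl
  obtain ⟨g, hg, -, hgs⟩ := mem_resImage.1 (hle hlL)
  exact ⟨g, C.mem_st2.2 ⟨hg, by rw [← hgs, hla], by rw [← hgs, hlb]⟩, (hgs c).symm⟩

/-- If the fixed set meets every orbit, few orbits there give few orbits. -/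
theorem few_of_sub {R : Subgroup (Perm Ω)} {C' : Ctx (fixSet R)}
    (hle : C'.L ≤ resImage R C.L) (hfew : C'.Few) {a b : Ω} (hab : a ≠ b) (ha : a ∈ fixSet R)
    (hb : b ∈ fixSet R) (hmeet : ∀ c ∈ rest a b, ∃ x ∈ C.orb a b c, x ∈ fixSet R) : C.Few := by
  intro a' b' x y z hab' hx hy hz
  obtain ⟨l, hl, hla, hlb⟩ := C.two hab' hab
  have hrest : ∀ w ∈ rest a' b', l w ∈ rest a b := fun w hw =>
    ⟨fun h => hw.1 (l.injective (h.trans hla.symm)), fun h => hw.2 (l.injective (h.trans hlb.symm))⟩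
  have himg : ∀ u w, l w ∈ C.orb a b (l u) → w ∈ C.orb a' b' u := by
    intro u w h
    rw [← hla, ← hlb, ← image_orb (C.le hl)] at h
    obtain ⟨w', hw', he⟩ := h
    exact l.injective he ▸ hw'
  obtain ⟨x', hxo, hxF⟩ := hmeet _ (hrest x hx)
  obtain ⟨y', hyo, hyF⟩ := hmeet _ (hrest y hy)
  obtain ⟨z', hzo, hzF⟩ := hmeet _ (hrest z hz)
  have hr : ∀ {w w' : Ω}, w ∈ rest a b → w' ∈ C.orb a b w → ∀ hF : w' ∈ fixSet R,
      (⟨w', hF⟩ : fixSet R) ∈ rest (⟨a, ha⟩ : fixSet R) ⟨b, hb⟩ := fun hw hw' hF =>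
    have := orb_subset_rest hw.1 hw.2 hw'
    ⟨fun h => this.1 (congrArg Subtype.val h), fun h => this.2 (congrArg Subtype.val h)⟩
  have key : ∀ {u u' w w' : Ω}, u' ∈ C.orb a b (l u) → w' ∈ C.orb a b (l w) →
      ∀ (hu : u' ∈ fixSet R) (hw : w' ∈ fixSet R),
      (⟨w', hw⟩ : fixSet R) ∈ C'.orb ⟨a, ha⟩ ⟨b, hb⟩ ⟨u', hu⟩ → w ∈ C.orb a' b' u := by
    intro u u' w w' hu' hw' hu hw h
    refine himg u w ?_
    have h1 : w' ∈ C.orb a b u' :=
      @mem_orb_of_sub _ C R C' hle ⟨a, ha⟩ ⟨b, hb⟩ ⟨u', hu⟩ ⟨w', hw⟩ h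
    rw [orb_eq_of_mem hu'] at h1
    rw [← orb_eq_of_mem h1, orb_eq_of_mem hw']
    exact mem_orb_self _ _ _
  rcases hfew ⟨a, ha⟩ ⟨b, hb⟩ ⟨x', hxF⟩ ⟨y', hyF⟩ ⟨z', hzF⟩ (fun h => hab (congrArg Subtype.val h))
      (hr (hrest x hx) hxo hxF) (hr (hrest y hy) hyo hyF) (hr (hrest z hz) hzo hzF) with h | h | h
  · exact Or.inl (key hxo hyo hxF hyF h)
  · exact Or.inr (Or.inl (key hxo hzo hxF hzF h))
  · exact Or.inr (Or.inr (key hyo hzo hyF hzF h))

end Ctx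

end CfsgLib.TripleNormal
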