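import Cfsg.Agent.Lib.TripleNormal.Affine
import Cfsg.Agent.Lib.TransLinear.Field
import Cfsg.Agent.Lib.ConstStab.Basic

/-!
# Solvable normal subgroups of transitive linear groups of odd dimension

Such a subgroup has a self-centralising normal abelian subgroup, and is semiregular on the
nonzero vectors unless the whole group is semilinear of dimension one.
-/

set_option autoImplicit false

open Subgroup
open scoped Pointwise

namespace CfsgLib.TripleNormal.Linear

open CfsgLib.TransLinear

universe u v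

variable {q : ℕ} [Fact q.Prime] {V : Type v} [AddCommGroup V] [Module (ZMod q) V] [Finite V]
  [Nontrivial V] {G : Type u} [Group G] [Finite G] {ρ : G →* (V ≃ₗ[ZMod q] V)}

/-- A normal abelian subgroup is semiregular on nonzero vectors. -/
theorem semiregular_of_abelian (hρ : Function.Injective ρ) (htr : Trans ρ) {A : Subgroup G}
    (hAn : A.Normal) (hAc : IsMulCommutative A) {a : G} (ha : a ∈ A) {v : V} (hv : v ≠ 0)
    (hav : ρ a v = v) : a = 1 := by
  have h : act ρ a - 1 = 0 := eq_zero_of_apply htr hAn hAc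
    (Subalgebra.sub_mem _ (act_mem ha) (Subalgebra.one_mem _)) hv (by simp [hav])
  exact act_injective ρ hρ (by rw [map_one]; exact sub_eq_zero.1 h)

/-- An involution in a normal abelian subgroup acts as `-1`. -/
theorem eq_neg_of_involution (hρ : Function.Injective ρ) (htr : Trans ρ) {A : Subgroup G}
    (hAn : A.Normal) (hAc : IsMulCommutative A) {a : G} (ha : a ∈ A) (ha2 : a * a = 1)
    (ha1 : a ≠ 1) (v : V) : ρ a v = -v := by
  by_contra h
  have hne : v + ρ a v ≠ 0 := fun h0 => h (eq_neg_of_add_eq_zero_right h0)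
  refine ha1 (semiregular_of_abelian hρ htr hAn hAc ha hne ?_)
  rw [map_add, ← LinearEquiv.mul_apply, ← map_mul, ha2, map_one]
  exact add_comm _ _

/-- In odd dimension over odd characteristic `-1` is no commutator of commuting determinants. -/
theorem false_of_commutator_neg (hq : q ≠ 2) (hodd : Odd (Module.finrank (ZMod q) V)) {x y : G}
    (h : ∀ v : V, ρ (x * y * x⁻¹ * y⁻¹) v = -v) : False := by
  have h1 : LinearEquiv.det (ρ (x * y * x⁻¹ * y⁻¹)) = 1 := by
    rw [map_mul ρ, map_mul ρ, map_mul ρ, map_inv ρ, map_inv ρ, map_mul, map_mul, map_mul, map_inv,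
      map_inv]
    rw [mul_comm (LinearEquiv.det (ρ x)) (LinearEquiv.det (ρ y))]
    simp
  have h2 : ((ρ (x * y * x⁻¹ * y⁻¹) : V ≃ₗ[ZMod q] V) : V →ₗ[ZMod q] V) =
      (-1 : ZMod q) • LinearMap.id := LinearMap.ext fun v => by
    show ρ (x * y * x⁻¹ * y⁻¹) v = (-1 : ZMod q) • v
    rw [h v]; simp
  have h3 := congrArg Units.val h1
  rw [LinearEquiv.coe_det, h2, LinearMap.det_smul, LinearMap.det_id, mul_one, hodd.neg_one_pow,
    Units.val_one] at h3
  haveI : Fact (2 < q) := ⟨lt_of_le_of_ne (Fact.out : q.Prime).two_le (Ne.symm hq)⟩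
  exact ZMod.neg_one_ne_one h3

/-- A self-centralising abelian normal subgroup inside a solvable normal subgroup. -/
theorem exists_fit (hρ : Function.Injective ρ) (htr : Trans ρ) (hq : q ≠ 2)
    (hodd : Odd (Module.finrank (ZMod q) V)) (R : Subgroup G) (hRn : R.Normal)
    (hRs : Group.IsSolvable R) :
    ∃ A : Subgroup G, A.Normal ∧ IsMulCommutative A ∧ A ≤ R ∧
      R ⊓ centralizer (A : Set G) ≤ A := by
  classical
  obtain ⟨A, ⟨hAn, hAc, hAR⟩, hmax⟩ := Set.exists_max_image
    {A : Subgroup G | A.Normal ∧ IsMulCommutative A ∧ A ≤ R} (fun A => Nat.card A) (Set.toFinite _)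
    ⟨⊥, inferInstance, inferInstance, bot_le⟩
  refine ⟨A, hAn, hAc, hAR, ?_⟩
  set K := R ⊓ centralizer (A : Set G) with hK
  haveI := hAn
  haveI := hRn
  have hAK : A ≤ K := le_inf hAR fun a ha => mem_centralizer_iff.2 fun b hb =>
    congrArg Subtype.val (hAc.is_comm.comm (⟨b, hb⟩ : A) ⟨a, ha⟩)
  by_contra hne
  have hKn : K.Normal := inferInstance
  let π := QuotientGroup.mk' A
  let Kb := K.map π
  have hKb : Kb ≠ ⊥ := fun h => hne fun k hk => by
    have : π k ∈ Kb := ⟨k, hk, rfl⟩
    rw [h, Subgroup.mem_bot] at this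
    exact (QuotientGroup.eq_one_iff k).1 this
  have hKbn : Kb.Normal := hKn.map π (QuotientGroup.mk'_surjective A)
  have hKbs : Group.IsSolvable Kb := by
    haveI : Group.IsSolvable R := hRs
    haveI : Group.IsSolvable K := Group.isSolvable_of_isSolvable_injective
      (f := Subgroup.inclusion (inf_le_left : K ≤ R)) (Subgroup.inclusion_injective _)
    exact Group.isSolvable_of_surjective (f := π.subgroupMap K) (π.subgroupMap_surjective K)
  obtain ⟨W, hW1, hWK, hWc, hWn⟩ := exists_abelian_char Kb hKb hKbs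
  obtain ⟨s, hs, hsd⟩ := Nat.exists_prime_and_dvd (n := Nat.card W)
    (fun h => hW1 (Subgroup.card_eq_one.1 h))
  haveI := Fact.mk hs
  let S : Subgroup (G ⧸ A) :=
    { carrier := {x | x ∈ W ∧ x ^ s = 1}
      one_mem' := ⟨one_mem _, one_pow _⟩
      mul_mem' := fun {x y} hx hy => ⟨mul_mem hx.1 hy.1, by
        rw [(show Commute x y from congrArg Subtype.val
          (hWc.is_comm.comm (⟨x, hx.1⟩ : W) ⟨y, hy.1⟩)).mul_pow, hx.2, hy.2, one_mul]⟩
      inv_mem' := fun {x} hx => ⟨inv_mem hx.1, by rw [inv_pow, hx.2, inv_one]⟩ }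
  have hSn : S.Normal := ⟨fun x hx g => by
    refine ⟨hWn g (fun y => ⟨fun hy => hKbn.conj_mem y hy g, fun hy => ?_⟩) x hx.1, by
      rw [conj_pow, hx.2]; simp⟩
    have := hKbn.conj_mem _ hy g⁻¹
    simpa [mul_assoc] using this⟩
  let B := S.comap π
  have hBn : B.Normal := hSn.comap π
  have hBK : B ≤ K := fun b hb => by
    obtain ⟨k, hk, hkb⟩ := hWK hb.1
    have : k⁻¹ * b ∈ A := QuotientGroup.eq.1 hkb
    simpa using mul_mem hk (hAK this)
  have hAB : A ≤ B := fun a ha => by
    show π a ∈ S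
    rw [show π a = 1 from (QuotientGroup.eq_one_iff a).2 ha]
    exact one_mem _
  obtain ⟨w, hw⟩ := exists_prime_orderOf_dvd_card' (G := W) s hsd
  obtain ⟨b₀, hb₀⟩ := QuotientGroup.mk'_surjective A (w : G ⧸ A)
  have hb₀B : b₀ ∈ B := by
    show π b₀ ∈ S
    rw [show π b₀ = w from hb₀]
    exact ⟨w.2, by rw [← Subgroup.coe_pow, ← hw, pow_orderOf_eq_one, Subgroup.coe_one]⟩
  have hb₀A : b₀ ∉ A := fun h => by
    have h1 : (w : G ⧸ A) = 1 := hb₀.symm.trans ((QuotientGroup.eq_one_iff b₀).2 h)
    rw [Subtype.ext (show (w : G ⧸ A) = ((1 : W) : G ⧸ A) from h1), orderOf_one] at hw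
    exact hs.ne_one hw.symm
  -- `A` is central in `B`, and `B / A` is elementary abelian
  have hcen : ∀ a ∈ A, ∀ b ∈ B, a * b = b * a := fun a ha b hb =>
    mem_centralizer_iff.1 (hBK hb).2 a ha
  have hcomm : ∀ x ∈ B, ∀ y ∈ B, x * y * x⁻¹ * y⁻¹ ∈ A := by
    intro x hx y hy
    refine (QuotientGroup.eq_one_iff _).1 ?_
    have : π x * π y = π y * π x :=
      congrArg Subtype.val (hWc.is_comm.comm (⟨π x, hx.1⟩ : W) ⟨π y, hy.1⟩)
    show π (x * y * x⁻¹ * y⁻¹) = 1
    rw [map_mul, map_mul, map_mul, map_inv, map_inv, this]; group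
  have hpow : ∀ x ∈ B, x ^ s ∈ A := fun x hx => by
    refine (QuotientGroup.eq_one_iff _).1 ?_
    show π (x ^ s) = 1
    rw [map_pow]; exact hx.2
  -- `B` is abelian
  have hBc : ∀ x ∈ B, ∀ y ∈ B, x * y = y * x := by
    rcases hs.eq_two_or_odd' with hs2 | hs2
    · intro x hx y hy
      by_contra hxy
      set c := x * y * x⁻¹ * y⁻¹ with hc
      have hcA : c ∈ A := hcomm x hx y hy
      have hc1 : c ≠ 1 := fun h => hxy (mul_inv_eq_iff_eq_mul.1 (mul_inv_eq_one.1 h))
      have hcx : c * x = x * c := hcen c hcA x hx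
      have e : x * y * x⁻¹ = c * y := by rw [hc]; group
      have hc2 : c * c = 1 := by
        have e2 : x * x * y * (x * x)⁻¹ = c * c * y := by
          calc x * x * y * (x * x)⁻¹ = x * (x * y * x⁻¹) * x⁻¹ := by group
            _ = (x * c) * y * x⁻¹ := by rw [e]; group
            _ = (c * x) * y * x⁻¹ := by rw [hcx]
            _ = c * (x * y * x⁻¹) := by group
            _ = c * c * y := by rw [e]; group
        have hx2 : x * x ∈ A := by rw [← pow_two, ← hs2]; exact hpow x hx
        rw [hcen _ hx2 y hy, mul_inv_cancel_right] at e2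
        exact mul_eq_right.1 e2.symm
      exact false_of_commutator_neg (ρ := ρ) (x := x) (y := y) hq hodd
        (eq_neg_of_involution hρ htr hAn hAc hcA hc2 hc1)
    · obtain ⟨P⟩ : Nonempty (Sylow s B) := inferInstance
      -- the Sylow subgroup is normal in `G`
      have hAB' : ∀ x : B, ∀ a : B, (a : G) ∈ A → a * x = x * a :=
        fun x a ha => Subtype.ext (hcen a ha x x.2)
      have htop : (A.subgroupOf B) ⊔ (P : Subgroup B) = ⊤ := by
        set T := (A.subgroupOf B) ⊔ (P : Subgroup B) with hT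
        haveI : T.Normal := ⟨fun t ht g => by
          have hm : g * t * g⁻¹ * t⁻¹ ∈ A.subgroupOf B := by
            rw [Subgroup.mem_subgroupOf]
            exact hcomm g g.2 t t.2
          simpa using mul_mem ((le_sup_left : A.subgroupOf B ≤ T) hm) ht⟩
        rw [← Subgroup.index_eq_one]
        by_contra h1
        obtain ⟨r, hr, hrd⟩ := Nat.exists_prime_and_dvd h1
        haveI := Fact.mk hr
        obtain ⟨g, hg⟩ := exists_prime_orderOf_dvd_card' (G := B ⧸ T) r
          (by rwa [← Subgroup.index_eq_card])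
        obtain ⟨g', rfl⟩ := QuotientGroup.mk_surjective g
        have hgs : (QuotientGroup.mk g' : B ⧸ T) ^ s = 1 := by
          rw [← QuotientGroup.mk_pow, QuotientGroup.eq_one_iff]
          exact (le_sup_left : A.subgroupOf B ≤ T) (hpow g' g'.2)
        have := hg ▸ orderOf_dvd_of_pow_eq_one hgs
        obtain rfl := (Nat.prime_dvd_prime_iff_eq hr hs).1 this
        exact P.not_dvd_index (hrd.trans (Subgroup.index_dvd_of_le le_sup_right))
      haveI hPn : (P : Subgroup B).Normal := by
        refine Subgroup.normalizer_eq_top_iff.1 (top_le_iff.1 (htop ▸ sup_le ?_ Subgroup.le_normalizer))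
        intro a ha
        rw [Subgroup.mem_normalizer_iff]
        intro z
        rw [hAB' z a ha, mul_inv_cancel_right]
      haveI hPc : (P : Subgroup B).Characteristic := P.characteristic_of_normal hPn
      let PG := (P : Subgroup B).map B.subtype
      have hPGn : PG.Normal := by
        haveI := hBn
        show ((P : Subgroup B).map B.subtype).Normal
        infer_instance
      have hPG : IsPGroup s PG := P.2.map _
      letI : DistribMulAction PG V :=
        { smul := fun g v => ρ (g : G) v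
          one_smul := fun v => by show ρ ((1 : PG) : G) v = v; simp
          mul_smul := fun g h v => by
            show ρ ((g * h : PG) : G) v = ρ (g : G) (ρ (h : G) v)
            rw [Subgroup.coe_mul, map_mul]; rfl
          smul_zero := fun g => map_zero (ρ (g : G))
          smul_add := fun g v w => map_add (ρ (g : G)) v w }
      have hsm : ∀ (g : PG) (v : V), g • v = ρ (g : G) v := fun _ _ => rfl
      haveI : FaithfulSMul PG V := ⟨fun {g h} he => Subtype.ext (hρ (LinearEquiv.ext fun v => he v))⟩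
      have hconst : ∀ v w : V, v ≠ 0 → w ≠ 0 →
          Nat.card (MulAction.stabilizer PG v) = Nat.card (MulAction.stabilizer PG w) := by
        intro v w hv hw
        obtain ⟨g, hg⟩ := htr v w hv hw
        refine Nat.card_congr (Equiv.subtypeEquiv
          { toFun := fun x => ⟨g * x * g⁻¹, hPGn.conj_mem x x.2 g⟩
            invFun := fun x => ⟨g⁻¹ * x * g, by simpa using hPGn.conj_mem x x.2 g⁻¹⟩
            left_inv := fun x => Subtype.ext (by show g⁻¹ * (g * x * g⁻¹) * g = x; group)
            right_inv := fun x => Subtype.ext (by show g * (g⁻¹ * x * g) * g⁻¹ = x; group) }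
          fun x => ?_)
        have e : ρ (g * (x : G) * g⁻¹) w = ρ g (ρ (x : G) v) := by
          rw [← hg]; simp [map_mul]
        constructor
        · intro hx
          show ρ (g * (x : G) * g⁻¹) w = w
          rw [e, ← hsm, show x • v = v from hx, hg]
        · intro hx
          have hx' : ρ (g * (x : G) * g⁻¹) w = w := hx
          rw [e, ← hg] at hx'
          exact (ρ g).injective hx'
      obtain ⟨hcyc, -⟩ := CfsgLib.ConstStab.cyclic_and_fpf (E := V) (fun h => absurd (h ▸ hs2) (by decide)) hPG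
        (Fact.out : q.Prime) (fun e => by rw [← Nat.cast_smul_eq_nsmul (ZMod q), ZMod.natCast_self, zero_smul]) hconst
      intro x hx y hy
      letI := hcyc.commGroup
      have hdec : ∀ z ∈ B, ∃ a ∈ A, ∃ p ∈ PG, z = a * p := by
        intro z hz
        have : (⟨z, hz⟩ : B) ∈ ((A.subgroupOf B : Subgroup B) : Set B) * (P : Subgroup B) := by
          rw [← Subgroup.mul_normal, htop]; trivial
        obtain ⟨a, ha, p, hp, hap⟩ := this
        exact ⟨a, ha, p, ⟨p, hp, rfl⟩, (congrArg Subtype.val hap).symm⟩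
      obtain ⟨a, ha, p, hp, rfl⟩ := hdec x hx
      obtain ⟨b, hb, r, hr, rfl⟩ := hdec y hy
      have h1 : p * r = r * p := congrArg Subtype.val (mul_comm (⟨p, hp⟩ : PG) ⟨r, hr⟩)
      have h2 : p * b = b * p := (hcen b hb p (by obtain ⟨p', -, rfl⟩ := hp; exact p'.2)).symm
      have h3 : a * r = r * a := hcen a ha r (by obtain ⟨r', -, rfl⟩ := hr; exact r'.2)
      have h4 : a * b = b * a := hcen a ha b (hAB hb)
      exact (Commute.mul_left (Commute.mul_right h4 h3) (Commute.mul_right h2 h1)).eq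
  -- contradiction with maximality
  have hBcomm : IsMulCommutative B :=
    ⟨⟨fun x y => Subtype.ext (hBc x x.2 y y.2)⟩⟩
  have := hmax B ⟨hBn, hBcomm, fun b hb => (hBK hb).1⟩
  exact hb₀A (Subgroup.eq_of_le_of_card_ge hAB this ▸ hb₀B)

/-- Commutators centralise a normal abelian subgroup. -/
theorem commutator_le_centralizer (hρ : Function.Injective ρ) (htr : Trans ρ) {A : Subgroup G}
    (hAn : A.Normal) (hAc : IsMulCommutative A) : commutator G ≤ centralizer (A : Set G) := by
  letI : Field (alg ρ A) := (alg_isField htr hAn hAc).toField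
  obtain ⟨ψ, -, hker⟩ := exists_conjHom (ρ := ρ) hAn
  rw [← hker hρ]
  haveI : IsCyclic (alg ρ A ≃ₐ[ZMod q] alg ρ A) := inferInstance
  letI := IsCyclic.commGroup (α := alg ρ A ≃ₐ[ZMod q] alg ρ A)
  exact Abelianization.commutator_subset_ker ψ

/-- A solvable normal subgroup is semiregular, or the group is semilinear of dimension one. -/
theorem semiregular_or_semilinear (hρ : Function.Injective ρ) (htr : Trans ρ) (hq : q ≠ 2)
    (hodd : Odd (Module.finrank (ZMod q) V)) (R : Subgroup G) (hRn : R.Normal)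
    (hRs : Group.IsSolvable R) :
    (∀ x ∈ R, ∀ v : V, v ≠ 0 → ρ x v = v → x = 1) ∨
    ∃ (F : Type) (_ : Field F) (_ : Fintype F) (e : V ≃+ F),
      ∀ g : G, ∃ (a : F) (σ : F ≃+* F), ∀ v : V, e (ρ g v) = a * σ (e v) := by
  classical
  obtain ⟨A, hAn, hAc, hAR, hC⟩ := exists_fit hρ htr hq hodd R hRn hRs
  by_cases hreg : ∀ x ∈ R, ∀ v : V, v ≠ 0 → ρ x v = v → x = 1
  · exact Or.inl hreg
  right
  push Not at hreg
  obtain ⟨x, hx, w, hw, hxw, hx1⟩ := hreg
  refine semilinear_of_deg htr hAn hAc ?_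
  letI : Field (alg ρ A) := (alg_isField htr hAn hAc).toField
  obtain ⟨ψ, -, hker⟩ := exists_conjHom (ρ := ρ) hAn
  letI := IsCyclic.commGroup (α := alg ρ A ≃ₐ[ZMod q] alg ρ A)
  -- every vector is an eigenvector of `x`
  have heig : ∀ u : V, u ≠ 0 → ∃ r ∈ alg ρ A, act ρ x u = r u := by
    intro u hu
    obtain ⟨g, hg⟩ := htr w u hw hu
    have ha : g * x * g⁻¹ * x⁻¹ ∈ A := hC ⟨R.mul_mem (hRn.conj_mem x hx g) (R.inv_mem hx),
      hker hρ ▸ (by simp [MonoidHom.mem_ker, map_mul, map_inv, mul_comm (ψ g) (ψ x)] :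
        g * x * g⁻¹ * x⁻¹ ∈ ψ.ker)⟩
    refine ⟨act ρ (g * x * g⁻¹ * x⁻¹)⁻¹, act_mem (inv_mem ha), ?_⟩
    have hfix : ρ (g * x * g⁻¹) u = u := by
      rw [← hg]; simp [map_mul, hxw]
    have e : (g * x * g⁻¹ * x⁻¹)⁻¹ * (g * x * g⁻¹) = x := by group
    rw [act_apply, act_apply]
    conv_lhs => rw [← e, map_mul, LinearEquiv.mul_apply, hfix]
  let ev : alg ρ A →ₗ[ZMod q] V :=
    { toFun := fun r => (r : Module.End (ZMod q) V) w
      map_add' := fun _ _ => rfl
      map_smul' := fun _ _ => rfl }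
  suffices hsurj : Function.Surjective ev from LinearMap.finrank_le_finrank_of_surjective hsurj
  by_contra hns
  rw [Function.Surjective] at hns
  push Not at hns
  obtain ⟨u₀, hu₀⟩ := hns
  -- vectors outside the line of `w` are fixed
  have hout : ∀ u : V, (∀ r, ev r ≠ u) → act ρ x u = u := by
    intro u hu
    have hu0 : u ≠ 0 := fun h => hu 0 (by rw [h, map_zero])
    have hwu : w + u ≠ 0 := fun h => hu (-1) (by
      show ((-1 : alg ρ A) : Module.End (ZMod q) V) w = u
      simpa using (eq_neg_of_add_eq_zero_right h).symm)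
    obtain ⟨r, hr, hru⟩ := heig u hu0
    obtain ⟨β, hβ, hβu⟩ := heig (w + u) hwu
    rw [map_add, map_add, show act ρ x w = w from hxw, hru] at hβu
    -- `(β - 1) w = (r - β) u`
    have heq : (β - 1) w = (r - β) u := by
      simp only [LinearMap.sub_apply, Module.End.one_apply]
      rw [sub_eq_sub_iff_add_eq_add, ← hβu, add_comm]
    by_cases hrb : r - β = 0
    · rw [hrb, LinearMap.zero_apply] at heq
      have := eq_zero_of_apply htr hAn hAc (Subalgebra.sub_mem _ hβ (Subalgebra.one_mem _)) hw heq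
      rw [hru, sub_eq_zero.1 hrb, sub_eq_zero.1 this]; rfl
    · exfalso
      let d : alg ρ A := ⟨r - β, Subalgebra.sub_mem _ hr hβ⟩
      have hd : d ≠ 0 := fun h => hrb (congrArg Subtype.val h)
      refine hu (d⁻¹ * ⟨β - 1, Subalgebra.sub_mem _ hβ (Subalgebra.one_mem _)⟩) ?_
      show ((d⁻¹ : alg ρ A) : Module.End (ZMod q) V) ((β - 1) w) = u
      rw [heq]
      show ((d⁻¹ * d : alg ρ A) : Module.End (ZMod q) V) u = u
      rw [inv_mul_cancel₀ hd]; rfl
  apply hx1
  apply hρ
  rw [map_one]
  refine LinearEquiv.ext fun v => ?_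
  show act ρ x v = v
  by_cases hv : ∀ r, ev r ≠ v
  · exact hout v hv
  push Not at hv
  obtain ⟨r, hr⟩ := hv
  have h2 : ∀ r', ev r' ≠ v + u₀ := fun r' he => hu₀ (r' - r) (by rw [map_sub, he, hr]; abel)
  have := hout _ h2
  rw [map_add, hout u₀ hu₀] at this
  exact add_right_cancel this

end CfsgLib.TripleNormal.Linear
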