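import Cfsg.Agent.Lib.TripleNormal.Linear
import Cfsg.Agent.Lib.ThreeFree.Final
import Cfsg.Agent.Lib.ThreeFree.SzFacts
import Cfsg.Agent.Lib.Structure.MinimalNormal
import Cfsg.Agent.Lib.Structure.Subnormal

/-!
# Normal subgroups of order prime to three of transitive linear groups of odd dimension

They are solvable: a non-solvable one would give a product of Suzuki groups inside `GL(e, q)`
with too few involutions for the transitivity on the nonzero vectors.
-/

set_option autoImplicit false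
set_option linter.unusedSectionVars false

open Subgroup
open scoped Classical

namespace CfsgLib.TripleNormal.Linear

open CfsgLib.TransLinear

universe u v

variable {q : ℕ} [Fact q.Prime] {V : Type v} [AddCommGroup V] [Module (ZMod q) V] [Finite V]
  [Nontrivial V] {G : Type u} [Group G] [Finite G] {ρ : G →* (V ≃ₗ[ZMod q] V)}

section Eigen

variable {E : Subgroup G}

theorem two_ne_zero_zmod (hq : q ≠ 2) : (2 : ZMod q) ≠ 0 := by
  intro h
  have h' : ((2 : ℕ) : ZMod q) = 0 := by exact_mod_cast h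
  rw [ZMod.natCast_eq_zero_iff] at h'
  exact hq ((Nat.prime_dvd_prime_iff_eq Fact.out Nat.prime_two).1 h')

theorem neg_ne_self (hq : q ≠ 2) {v : V} (hv : v ≠ 0) : -v ≠ v := fun h => by
  have h2 : (2 : ZMod q) • v = 0 := by rw [two_smul]; exact neg_eq_iff_add_eq_zero.1 h
  exact hv ((smul_eq_zero.1 h2).resolve_left (two_ne_zero_zmod hq))

variable (ρ E) in
/-- The common eigenvectors. -/
def joint : Set V := {v | ∀ x ∈ E, ρ x v = v ∨ ρ x v = -v}

/-- Common eigenvectors of commuting involutions span. -/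
theorem span_joint (hq : q ≠ 2) (hsq : ∀ x ∈ E, x * x = 1) (hcomm : ∀ x ∈ E, ∀ y ∈ E, x * y = y * x) :
    Submodule.span (ZMod q) (joint ρ E) = ⊤ := by
  haveI : Fintype G := Fintype.ofFinite G
  suffices h : ∀ l : Finset G, (∀ x ∈ l, x ∈ E) →
      Submodule.span (ZMod q) {v : V | ∀ x ∈ l, ρ x v = v ∨ ρ x v = -v} = ⊤ by
    have := h (Finset.univ.filter fun x => x ∈ E) fun x hx => (Finset.mem_filter.1 hx).2
    simpa [joint] using this
  intro l
  induction l using Finset.induction_on with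
  | empty => intro _; simp
  | insert u l hul ih =>
    intro hl
    rw [eq_top_iff, ← ih fun x hx => hl x (Finset.mem_insert_of_mem hx), Submodule.span_le]
    intro v hv
    have hu := hl u (Finset.mem_insert_self u l)
    have huu : ρ u (ρ u v) = v := by
      rw [← LinearEquiv.mul_apply, ← map_mul, hsq u hu, map_one]; rfl
    have hxu : ∀ x ∈ l, ρ x (ρ u v) = ρ u (ρ x v) := fun x hx => by
      rw [← LinearEquiv.mul_apply, ← LinearEquiv.mul_apply, ← map_mul, ← map_mul,
        hcomm x (hl x (Finset.mem_insert_of_mem hx)) u hu]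
    have hadd : v + ρ u v ∈ {w : V | ∀ x ∈ insert u l, ρ x w = w ∨ ρ x w = -w} := by
      intro x hx
      rcases Finset.mem_insert.1 hx with rfl | hx
      · exact Or.inl (by rw [map_add, huu, add_comm])
      · rcases hv x hx with h | h
        · exact Or.inl (by rw [map_add, hxu x hx, h])
        · exact Or.inr (by rw [map_add, hxu x hx, h, map_neg]; abel)
    have hsub : v - ρ u v ∈ {w : V | ∀ x ∈ insert u l, ρ x w = w ∨ ρ x w = -w} := by
      intro x hx
      rcases Finset.mem_insert.1 hx with rfl | hx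
      · exact Or.inr (by rw [map_sub, huu, neg_sub])
      · rcases hv x hx with h | h
        · exact Or.inl (by rw [map_sub, hxu x hx, h])
        · exact Or.inr (by rw [map_sub, hxu x hx, h, map_neg]; abel)
    have hmem := Submodule.smul_mem _ (2 : ZMod q)⁻¹ (Submodule.add_mem _
      (Submodule.subset_span (R := ZMod q) hadd) (Submodule.subset_span (R := ZMod q) hsub))
    rw [show v + ρ u v + (v - ρ u v) = (2 : ZMod q) • v by rw [two_smul]; abel, smul_smul,
      inv_mul_cancel₀ (two_ne_zero_zmod hq), one_smul] at hmem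
    exact hmem

/-- An elementary abelian 2-group acting faithfully in dimension `e` has order at most `2 ^ e`. -/
theorem card_le_two_pow (hρ : Function.Injective ρ) (hq : q ≠ 2) (hsq : ∀ x ∈ E, x * x = 1)
    (hcomm : ∀ x ∈ E, ∀ y ∈ E, x * y = y * x) :
    Nat.card E ≤ 2 ^ Module.finrank (ZMod q) V := by
  obtain ⟨B, hBsub, hBspan, hBli⟩ := exists_linearIndependent (ZMod q) (joint ρ E)
  rw [span_joint hq hsq hcomm] at hBspan
  haveI : Fintype B := Fintype.ofFinite B
  have hB : Fintype.card B ≤ Module.finrank (ZMod q) V := hBli.fintype_card_le_finrank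
  let sg : E → (B → Bool) := fun x b => decide (ρ (x : G) (b : V) = b)
  have hinj : Function.Injective sg := by
    intro x y hxy
    refine Subtype.ext (hρ (LinearEquiv.toLinearMap_injective (LinearMap.ext_on hBspan ?_)))
    intro b hb
    show ρ (x : G) b = ρ (y : G) b
    have h := congrFun hxy ⟨b, hb⟩
    simp only [sg, decide_eq_decide] at h
    by_cases hx : ρ (x : G) b = b
    · rw [hx, h.1 hx]
    · rw [(hBsub hb x x.2).resolve_left hx, (hBsub hb y y.2).resolve_left fun hy => hx (h.2 hy)]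
  calc Nat.card E ≤ Nat.card (B → Bool) := Nat.card_le_card_of_injective sg hinj
    _ = 2 ^ Fintype.card B := by rw [Nat.card_eq_fintype_card, Fintype.card_fun, Fintype.card_bool]
    _ ≤ 2 ^ Module.finrank (ZMod q) V := Nat.pow_le_pow_right two_pos hB

/-- The elements of `E` moving a vector. -/
def moved (ρ : G →* (V ≃ₗ[ZMod q] V)) (E : Subgroup G) (w : V) : Set G :=
  {x | x ∈ E ∧ ρ x w ≠ w}

/-- A group transitive on the involutions of `E` forces dimension at least `|E| - 1`. -/
theorem card_le_finrank (hρ : Function.Injective ρ) (hq : q ≠ 2) (hsq : ∀ x ∈ E, x * x = 1)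
    (hcomm : ∀ x ∈ E, ∀ y ∈ E, x * y = y * x) {h : G} (hh : ∀ x ∈ E, h * x * h⁻¹ ∈ E)
    (htrans : ∀ x ∈ E, x ≠ 1 → ∀ y ∈ E, y ≠ 1 → ∃ k : ℕ, h ^ k * x * (h ^ k)⁻¹ = y)
    {n : ℕ} (hn : 1 ≤ n) (hcard : Nat.card E = 2 ^ n) :
    2 ^ n - 1 ≤ Module.finrank (ZMod q) V := by
  haveI : Fintype G := Fintype.ofFinite G
  -- a moved common eigenvector
  obtain ⟨x₀, hx₀, hx₀1⟩ := (Subgroup.bot_or_exists_ne_one E).resolve_left (fun hb => by
    rw [hb, Subgroup.card_bot] at hcard
    have := Nat.pow_le_pow_right two_pos hn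
    omega)
  obtain ⟨w, hw, hwx⟩ : ∃ w ∈ joint ρ E, ρ x₀ w ≠ w := by
    by_contra hc
    push Not at hc
    refine hx₀1 (hρ (LinearEquiv.toLinearMap_injective
      (LinearMap.ext_on (span_joint (ρ := ρ) hq hsq hcomm) fun w hw => ?_)))
    rw [map_one]
    exact hc w hw
  have hw0 : w ≠ 0 := fun h0 => hwx (by rw [h0, map_zero])
  -- conjugates by powers of `h`
  have hhk : ∀ k : ℕ, ∀ x ∈ E, h ^ k * x * (h ^ k)⁻¹ ∈ E := by
    intro k
    induction k with
    | zero => intro x hx; simpa using hx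
    | succ k ih =>
      intro x hx
      rw [show h ^ (k + 1) * x * (h ^ (k + 1))⁻¹ = h * (h ^ k * x * (h ^ k)⁻¹) * h⁻¹ by
        rw [pow_succ']; group]
      exact hh _ (ih x hx)
  have hinv : ∀ k : ℕ, ∃ j : ℕ, h ^ j = (h ^ k)⁻¹ := fun k =>
    ⟨k * (orderOf h - 1), eq_inv_of_mul_eq_one_left (by
      rw [← pow_add, ← Nat.mul_succ, Nat.succ_eq_add_one, Nat.sub_add_cancel (orderOf_pos h), mul_comm,
        pow_mul, pow_orderOf_eq_one, one_pow])⟩
  have hhk' : ∀ k : ℕ, ∀ x ∈ E, (h ^ k)⁻¹ * x * h ^ k ∈ E := by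
    intro k x hx
    obtain ⟨j, hj⟩ := hinv k
    have := hhk j x hx
    rwa [hj, inv_inv] at this
  let vec : ℕ → V := fun k => ρ (h ^ k) w
  have hvec : ∀ (k : ℕ), ∀ x ∈ E, ρ x (vec k) = ρ (h ^ k) (ρ ((h ^ k)⁻¹ * x * h ^ k) w) := by
    intro k x hx
    simp only [vec]
    rw [← LinearEquiv.mul_apply, ← LinearEquiv.mul_apply, ← map_mul, ← map_mul]
    congr 2
    group
  have hjoint : ∀ k, vec k ∈ joint ρ E := by
    intro k x hx
    rw [hvec k x hx]
    rcases hw _ (hhk' k x hx) with e | e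
    · exact Or.inl (by rw [e])
    · exact Or.inr (by rw [e, map_neg])
  have hvec0 : ∀ k, vec k ≠ 0 := fun k h0 => hw0 ((ρ (h ^ k)).map_eq_zero_iff.1 h0)
  have hmoved : ∀ k, moved ρ E (vec k) = (fun x => h ^ k * x * (h ^ k)⁻¹) '' moved ρ E w := by
    intro k
    ext x
    constructor
    · rintro ⟨hx, hne⟩
      refine ⟨(h ^ k)⁻¹ * x * h ^ k, ⟨hhk' k x hx, fun e => hne ?_⟩, by group⟩
      rw [hvec k x hx, e]
    · rintro ⟨y, ⟨hy, hne⟩, rfl⟩
      refine ⟨hhk k y hy, fun e => hne ?_⟩
      rw [hvec k _ (hhk k y hy), show (h ^ k)⁻¹ * (h ^ k * y * (h ^ k)⁻¹) * h ^ k = y by group] at e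
      exact (ρ (h ^ k)).injective e
  -- the orbit of the moved sets
  let O : Finset (Set G) := (Finset.range (orderOf h)).image fun k => moved ρ E (vec k)
  have hOmem : ∀ S ∈ O, ∃ k, moved ρ E (vec k) = S := fun S hS => by
    obtain ⟨k, -, hk⟩ := Finset.mem_image.1 hS; exact ⟨k, hk⟩
  have hOall : ∀ k, moved ρ E (vec k) ∈ O := fun k => Finset.mem_image.2
    ⟨k % orderOf h, Finset.mem_range.2 (Nat.mod_lt _ (orderOf_pos h)), by
      simp only [vec]; rw [pow_mod_orderOf]⟩
  choose kk hkk using hOmem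
  -- distinct moved sets give independent vectors
  have hli : LinearIndependent (ZMod q) (fun S : O => vec (kk S S.2)) := by
    rw [linearIndependent_iff']
    intro s
    induction s using Finset.induction_on with
    | empty => intro g _ i hi; exact absurd hi (Finset.notMem_empty i)
    | insert a s has ih =>
      intro g hsum
      have key : ∀ i ∈ s, g i = 0 := by
        intro i hi
        have hne : moved ρ E (vec (kk a a.2)) ≠ moved ρ E (vec (kk i i.2)) := by
          rw [hkk, hkk]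
          exact fun e => has (by rw [Subtype.ext e]; exact hi)
        obtain ⟨x, hxE, hx⟩ : ∃ x ∈ E, ¬ (ρ x (vec (kk a a.2)) = vec (kk a a.2) ↔
            ρ x (vec (kk i i.2)) = vec (kk i i.2)) := by
          by_contra hc
          push Not at hc
          refine hne (Set.ext fun x => ?_)
          exact ⟨fun hx => ⟨hx.1, fun e => hx.2 ((hc x hx.1).2 e)⟩,
            fun hx => ⟨hx.1, fun e => hx.2 ((hc x hx.1).1 e)⟩⟩
        let ε : O → ZMod q := fun j => if ρ x (vec (kk j j.2)) = vec (kk j j.2) then 1 else -1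
        have hε : ∀ j : O, ρ x (vec (kk j j.2)) = ε j • vec (kk j j.2) := by
          intro j
          simp only [ε]
          split_ifs with e
          · rw [one_smul, e]
          · rw [neg_one_smul]; exact (hjoint _ x hxE).resolve_left e
        have h1 : ∑ j ∈ insert a s, (g j * ε j) • vec (kk j j.2) = 0 := by
          have := congrArg (ρ x) hsum
          rw [map_zero, map_sum] at this
          rw [← this]
          exact Finset.sum_congr rfl fun j _ => by rw [map_smul, hε j, smul_smul]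
        have h2 : ∑ j ∈ insert a s, (g j * ε a) • vec (kk j j.2) = 0 := by
          rw [← smul_zero (ε a), ← hsum, Finset.smul_sum]
          exact Finset.sum_congr rfl fun j _ => by rw [smul_smul, mul_comm]
        have h3 : ∑ j ∈ s, (g j * ε j - g j * ε a) • vec (kk j j.2) = 0 := by
          have := sub_eq_zero.2 (h1.trans h2.symm)
          rw [← Finset.sum_sub_distrib, Finset.sum_insert has] at this
          simpa [sub_smul] using this
        have h4 := ih (fun j => g j * ε j - g j * ε a) h3 i hi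
        simp only [← mul_sub] at h4
        refine (mul_eq_zero.1 h4).resolve_right fun e => hx ?_
        rw [sub_eq_zero] at e
        have h1ne : (1 : ZMod q) ≠ -1 := fun h' => two_ne_zero_zmod hq (by linear_combination h')
        simp only [ε] at e
        split_ifs at e with e1 e2 e2
        · exact iff_of_true e2 e1
        · exact absurd e h1ne
        · exact absurd e.symm h1ne
        · exact iff_of_false e2 e1
      intro i hi
      rcases Finset.mem_insert.1 hi with rfl | hi
      · rw [Finset.sum_insert has, Finset.sum_eq_zero (fun j hj => by rw [key j hj, zero_smul]),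
          add_zero] at hsum
        exact (smul_eq_zero.1 hsum).resolve_right (hvec0 _)
      · exact key i hi
  have hOle : O.card ≤ Module.finrank (ZMod q) V := by
    simpa using hli.fintype_card_le_finrank
  -- the incidence count
  let Es : Finset G := Finset.univ.filter fun x => x ∈ E ∧ x ≠ 1
  have hEs : Es.card = 2 ^ n - 1 := by
    have hset : ((Es : Finset G) : Set G) = (E : Set G) \ {1} := by ext x; simp [Es]
    rw [← Set.ncard_coe_finset, hset, Set.ncard_sdiff_singleton_of_mem (one_mem E), ← hcard,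
      ← Nat.card_coe_set_eq, SetLike.coe_sort_coe]
  let M : Set G := moved ρ E w
  have hMcard : M.ncard = 2 ^ (n - 1) := by
    let K : Subgroup E :=
      { carrier := {x | ρ (x : G) w = w}
        one_mem' := by simp
        mul_mem' := fun {a b} ha hb => by
          show ρ ((a : G) * b) w = w
          rw [map_mul, LinearEquiv.mul_apply, hb, ha]
        inv_mem' := fun {a} ha => by
          show ρ (((a⁻¹ : E) : G)) w = w
          rw [Subgroup.coe_inv, inv_eq_of_mul_eq_one_right (hsq a a.2)]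
          exact ha }
    have hK : K.index = 2 := by
      rw [Subgroup.index_eq_two_iff]
      refine ⟨⟨x₀, hx₀⟩, fun x => ?_⟩
      have hm : ρ ((x : G) * x₀) w = ρ (x : G) (-w) := by
        rw [map_mul, LinearEquiv.mul_apply, (hw x₀ hx₀).resolve_left hwx]
      rcases hw x x.2 with e | e
      · refine Or.inr ⟨e, fun hc => ?_⟩
        have hc' : ρ ((x : G) * x₀) w = w := hc
        rw [hm, map_neg, e] at hc'
        exact neg_ne_self hq hw0 hc'
      · refine Or.inl ⟨?_, fun hc => ?_⟩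
        · show ρ ((x : G) * x₀) w = w
          rw [hm, map_neg, e, neg_neg]
        · exact neg_ne_self hq hw0 (e.symm.trans hc)
    have hKc := K.card_mul_index
    rw [hK, hcard] at hKc
    have hMeq : M = Subtype.val '' ((K : Set E)ᶜ) := by
      ext x
      constructor
      · rintro ⟨hx, hne⟩; exact ⟨⟨x, hx⟩, hne, rfl⟩
      · rintro ⟨y, hy, rfl⟩; exact ⟨y.2, hy⟩
    rw [hMeq, Set.ncard_image_of_injective _ Subtype.val_injective, Set.ncard_compl, hcard,
      ← Nat.card_coe_set_eq, SetLike.coe_sort_coe]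
    have hp : 2 ^ n = 2 ^ (n - 1) * 2 := by rw [← pow_succ, Nat.sub_add_cancel hn]
    omega
  have hcount : O.card * 2 ^ (n - 1) =
      (2 ^ n - 1) * (O.bipartiteBelow (fun (S : Set G) (x : G) => x ∈ S) x₀).card := by
    rw [← hEs]
    refine Finset.card_mul_eq_card_mul (fun (S : Set G) (x : G) => x ∈ S) (fun S hS => ?_)
      (fun x hx => ?_)
    · rw [← hMcard, ← hkk S hS, hmoved, ← Set.ncard_coe_finset]
      rw [show ((Es.bipartiteAbove (fun (S : Set G) (x : G) => x ∈ S)
          ((fun x => h ^ kk S hS * x * (h ^ kk S hS)⁻¹) '' M) : Finset G) : Set G) =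
          (fun x => h ^ kk S hS * x * (h ^ kk S hS)⁻¹) '' M from ?_]
      · exact Set.ncard_image_of_injective _ fun a b e => mul_left_cancel (mul_right_cancel e)
      · ext x
        simp only [Finset.bipartiteAbove, Finset.coe_filter, Set.mem_setOf_eq, Es, Finset.mem_filter,
          Finset.mem_univ, true_and, and_iff_right_iff_imp]
        rintro ⟨y, ⟨hy, hne⟩, rfl⟩
        refine ⟨hhk _ y hy, fun e => hne ?_⟩
        rw [conj_eq_one_iff] at e
        simp [e]
    · obtain ⟨hxE, hx1⟩ := (Finset.mem_filter.1 hx).2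
      obtain ⟨k, hk⟩ := htrans x₀ hx₀ hx₀1 x hxE hx1
      refine (Finset.card_nbij' (fun S => (fun y => h ^ k * y * (h ^ k)⁻¹) '' S)
        (fun S => (fun y => (h ^ k)⁻¹ * y * h ^ k) '' S) ?_ ?_ ?_ ?_).symm
      · intro S hS
        simp only [Finset.coe_filter, Finset.bipartiteBelow, Set.mem_setOf_eq] at hS ⊢
        refine ⟨?_, x₀, hS.2, hk⟩
        rw [← hkk S hS.1, hmoved, Set.image_image]
        have := hOall (k + kk S hS.1)
        rw [hmoved] at this
        convert this using 2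
        rw [pow_add]; group
      · intro S hS
        simp only [Finset.coe_filter, Finset.bipartiteBelow, Set.mem_setOf_eq] at hS ⊢
        refine ⟨?_, x, hS.2, by rw [← hk]; group⟩
        rw [← hkk S hS.1, hmoved, Set.image_image]
        obtain ⟨j, hj⟩ : ∃ j : ℕ, h ^ j = (h ^ k)⁻¹ * h ^ kk S hS.1 := by
          obtain ⟨j, hj⟩ := hinv k
          exact ⟨j + kk S hS.1, by rw [pow_add, hj]⟩
        have := hOall j
        rw [hmoved, hj] at this
        convert this using 2
        group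
      · intro S _
        simp only [Set.image_image]
        exact (Set.image_congr fun y _ => by group).trans (Set.image_id' S)
      · intro S _
        simp only [Set.image_image]
        exact (Set.image_congr fun y _ => by group).trans (Set.image_id' S)
  have hdvd : 2 ^ n - 1 ∣ O.card * 2 ^ (n - 1) := ⟨_, hcount⟩
  have hcop : Nat.Coprime (2 ^ n - 1) (2 ^ (n - 1)) := by
    refine Nat.Coprime.pow_right _ (Nat.coprime_two_right.2 ?_)
    rw [Nat.odd_iff]
    have : 2 ^ n = 2 ^ (n - 1) * 2 := by rw [← pow_succ, Nat.sub_add_cancel hn]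
    have := Nat.one_le_two_pow (n := n - 1)
    omega
  exact (Nat.le_of_dvd (Finset.card_pos.2 ⟨_, hOall 0⟩) (hcop.dvd_of_dvd_mul_right hdvd)).trans hOle

end Eigen

/-- Elements of the derived group have determinant one, so are not `-1` in odd dimension. -/
theorem false_of_mem_commutator_neg (hq : q ≠ 2) (hodd : Odd (Module.finrank (ZMod q) V)) {x : G}
    (hx : x ∈ commutator G) (h : ∀ v : V, ρ x v = -v) : False := by
  have h1 : LinearEquiv.det (ρ x) = 1 :=
    Abelianization.commutator_subset_ker (LinearEquiv.det.comp ρ) hx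
  have h2 : ((ρ x : V ≃ₗ[ZMod q] V) : V →ₗ[ZMod q] V) = (-1 : ZMod q) • LinearMap.id :=
    LinearMap.ext fun v => by
      show ρ x v = (-1 : ZMod q) • v
      rw [h v]; simp
  have h3 := congrArg Units.val h1
  rw [LinearEquiv.coe_det, h2, LinearMap.det_smul, LinearMap.det_id, mul_one, hodd.neg_one_pow,
    Units.val_one] at h3
  haveI : Fact (2 < q) := ⟨lt_of_le_of_ne (Fact.out : q.Prime).two_le (Ne.symm hq)⟩
  exact ZMod.neg_one_ne_one h3

/-- The incidence of nonzero vectors with the conjugates of an element. -/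
theorem class_bound (htr : Trans ρ) {u : G} {c : ℕ}
    (hc : Nat.card {v : V // ρ u v = v} = q ^ c) :
    q ^ Module.finrank (ZMod q) V - 1 ∣ {x : G | IsConj u x}.ncard * (q ^ c - 1) := by
  haveI : Fintype G := Fintype.ofFinite G
  haveI : Fintype V := Fintype.ofFinite V
  let X : Finset G := Finset.univ.filter fun x => IsConj u x
  let W : Finset V := Finset.univ.filter fun v => v ≠ 0
  have hX : {x : G | IsConj u x}.ncard = X.card := by
    rw [← Set.ncard_coe_finset]; congr 1; ext x; simp [X]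
  have hW : W.card = q ^ Module.finrank (ZMod q) V - 1 := by
    simp only [W]
    rw [Finset.filter_ne' Finset.univ (0 : V), Finset.card_erase_of_mem (Finset.mem_univ _),
      Finset.card_univ, ← Nat.card_eq_fintype_card, Module.natCard_eq_pow_finrank (K := ZMod q),
      Nat.card_zmod]
  obtain ⟨v₀, hv₀⟩ := exists_ne (0 : V)
  refine ⟨(X.bipartiteAbove (fun v x => ρ x v = v) v₀).card, ?_⟩
  rw [hX, ← hW]
  refine (Finset.card_mul_eq_card_mul (fun (v : V) (x : G) => ρ x v = v) (fun v hv => ?_)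
    (fun x hx => ?_)).symm
  · obtain ⟨g, hg⟩ := htr v₀ v hv₀ (Finset.mem_filter.1 hv).2
    refine (Finset.card_equiv (MulAut.conj g).toEquiv fun x => ?_).symm
    simp only [Finset.bipartiteAbove, Finset.mem_filter, X, Finset.mem_univ, true_and,
      MulEquiv.toEquiv_eq_coe, MulEquiv.coe_toEquiv, MulAut.conj_apply]
    refine and_congr ⟨fun hx => hx.trans (isConj_iff.2 ⟨g, rfl⟩),
      fun hx => hx.trans (isConj_iff.2 ⟨g, rfl⟩ : IsConj x (g * x * g⁻¹)).symm⟩ ?_
    rw [map_mul, map_mul, LinearEquiv.mul_apply, LinearEquiv.mul_apply, ← hg,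
      show ρ g⁻¹ (ρ g v₀) = v₀ by rw [← LinearEquiv.mul_apply, ← map_mul, inv_mul_cancel, map_one]; rfl]
    exact ((ρ g).injective.eq_iff).symm
  · obtain ⟨g, rfl⟩ := isConj_iff.1 (Finset.mem_filter.1 hx).2
    have hfix : Nat.card {v : V // ρ (g * u * g⁻¹) v = v} = q ^ c := by
      rw [← hc]
      refine (Nat.card_congr ((ρ g).toEquiv.subtypeEquiv fun v => ?_)).symm
      show ρ u v = v ↔ ρ (g * u * g⁻¹) (ρ g v) = ρ g v
      rw [← LinearEquiv.mul_apply, ← map_mul, inv_mul_cancel_right, map_mul, LinearEquiv.mul_apply]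
      exact ((ρ g).injective.eq_iff).symm
    rw [show (W.bipartiteBelow (fun (v : V) (x : G) => ρ x v = v) (g * u * g⁻¹)) =
      (Finset.univ.filter fun v : V => ρ (g * u * g⁻¹) v = v).erase 0 by
        ext v; simp [Finset.bipartiteBelow, W],
      Finset.card_erase_of_mem (by simp), ← Fintype.card_subtype, ← Nat.card_eq_fintype_card, hfix]

/-- The arithmetic of the final bound. -/
theorem arith_bound {e g : ℕ} (he : Odd e) (he7 : 7 ≤ e) (hg : g ∣ e) (hge : g < e)
    (h : 5 ^ (e - g) ≤ e * (e + 1) ^ 3) : False := by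
  have h3 : 3 * g ≤ e := by
    obtain ⟨k, rfl⟩ := hg
    have hk : Odd k := (Nat.odd_mul.1 he).2
    rcases hk with ⟨j, rfl⟩
    rcases j with _ | j
    · omega
    · calc 3 * g = g * 3 := mul_comm _ _
        _ ≤ _ := Nat.mul_le_mul_left g (by omega)
  rcases Nat.lt_or_ge e 9 with h9 | h9
  · have : e = 7 := by obtain ⟨j, rfl⟩ := he; omega
    subst this
    have : g = 1 := ((Nat.dvd_prime (by norm_num : Nat.Prime 7)).1 hg).resolve_right (by omega)
    subst this
    norm_num at h
  · have hle : 25 ^ e ≤ e ^ 3 * (e + 1) ^ 9 := by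
      calc 25 ^ e = 5 ^ (2 * e) := by rw [pow_mul]; norm_num
        _ ≤ 5 ^ (3 * (e - g)) := Nat.pow_le_pow_right (by norm_num) (by omega)
        _ = (5 ^ (e - g)) ^ 3 := by rw [← pow_mul, mul_comm]
        _ ≤ (e * (e + 1) ^ 3) ^ 3 := Nat.pow_le_pow_left h 3
        _ = e ^ 3 * (e + 1) ^ 9 := by rw [mul_pow, ← pow_mul]
    have key : ∀ m : ℕ, 9 ≤ m → m ^ 3 * (m + 1) ^ 9 < 25 ^ m := by
      intro m hm
      induction m, hm using Nat.le_induction with
      | base => norm_num
      | succ m hm ih =>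
        have a1 : (9 * (m + 1)) ^ 3 ≤ (10 * m) ^ 3 := Nat.pow_le_pow_left (by omega) 3
        have a2 : (9 * (m + 1 + 1)) ^ 9 ≤ (10 * (m + 1)) ^ 9 := Nat.pow_le_pow_left (by omega) 9
        have a3 : 9 ^ 12 * ((m + 1) ^ 3 * (m + 1 + 1) ^ 9) ≤ 10 ^ 12 * (m ^ 3 * (m + 1) ^ 9) := by
          calc 9 ^ 12 * ((m + 1) ^ 3 * (m + 1 + 1) ^ 9) = (9 * (m + 1)) ^ 3 * (9 * (m + 1 + 1)) ^ 9 := by ring
            _ ≤ (10 * m) ^ 3 * (10 * (m + 1)) ^ 9 := Nat.mul_le_mul a1 a2
            _ = _ := by ring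
        rw [pow_succ 25 m]
        omega
    have := key e h9
    omega

/-- A Suzuki group with parameter `2 ^ n` has fewer than `(2 ^ n) ^ 3` involutions. -/
theorem ncard_invol_le {L : Type u} [Group L] [Finite L] {n : ℕ} {T : Sylow 2 L} {Z : Subgroup L} {h : L}
    (hd : ThreeFree.SzData L n T Z h) : {x : L | x * x = 1 ∧ x ≠ 1}.ncard ≤ (2 ^ n) ^ 3 := by
  haveI : Fact (Nat.Prime 2) := ⟨Nat.prime_two⟩
  set R := normalizer ((T : Subgroup L) : Set L) with hR
  let f : (L ⧸ R) × ↥((Z : Set L) \ {1}) → L := fun p => p.1.out * p.2.1 * p.1.out⁻¹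
  have hsub : {x : L | x * x = 1 ∧ x ≠ 1} ⊆ Set.range f := by
    rintro x ⟨hx2, hx1⟩
    obtain ⟨T', hT'⟩ := (IsPGroup.of_card (n := 1) (by
      rw [Nat.card_zpowers, pow_one]
      exact orderOf_eq_prime (by rw [sq]; exact hx2) hx1) : IsPGroup 2 (zpowers x)).exists_le_sylow
    obtain ⟨g, hg⟩ := MulAction.exists_smul_eq L T T'
    have hxT : g⁻¹ * x * g ∈ (T : Subgroup L) := by
      have hx' := hT' (mem_zpowers x)
      rw [← hg, Sylow.coe_subgroup_smul, Subgroup.mem_pointwise_smul_iff_inv_smul_mem] at hx'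
      simpa [MulAut.smul_def, mul_assoc] using hx'
    have hz : g⁻¹ * x * g ∈ Z := hd.invol_mem _ hxT (by
      rw [show g⁻¹ * x * g * (g⁻¹ * x * g) = g⁻¹ * (x * x) * g by group, hx2]; group)
    obtain ⟨⟨r, hr⟩, hgr⟩ := QuotientGroup.mk_out_eq_mul R g
    have hr' : r ∈ normalizer (Z : Set L) := by rw [hd.norm_Z]; exact hr
    refine ⟨⟨(g : L ⧸ R), ⟨r⁻¹ * (g⁻¹ * x * g) * r, ?_, ?_⟩⟩, ?_⟩
    · have := (mem_normalizer_iff.1 (inv_mem hr') (g⁻¹ * x * g)).1 hz
      simpa using this
    · intro e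
      rw [Set.mem_singleton_iff] at e
      apply hx1
      calc x = g * r * (r⁻¹ * (g⁻¹ * x * g) * r) * (g * r)⁻¹ := by group
        _ = 1 := by rw [e]; group
    · simp only [f]
      rw [hgr]
      group
  refine ((Set.ncard_le_ncard hsub (Set.finite_range f)).trans ?_)
  rw [← Set.image_univ]
  refine (Set.ncard_image_le (Set.toFinite _)).trans ?_
  rw [Set.ncard_univ, Nat.card_prod, ← index_eq_card, hd.index_R, Nat.card_coe_set_eq,
    Set.ncard_sdiff_singleton_of_mem (one_mem Z), ← Nat.card_coe_set_eq, SetLike.coe_sort_coe, hd.card_Z]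
  have hQ := Nat.one_le_two_pow (n := n)
  generalize 2 ^ n = Q at hQ ⊢
  obtain ⟨j, rfl⟩ := Nat.exists_eq_add_of_le hQ
  rw [Nat.add_sub_cancel_left]
  nlinarith

/-- Normal subgroups of order prime to three are solvable. -/
theorem isSolvable_of_three_free (hρ : Function.Injective ρ) (htr : Trans ρ) (hq : q ≠ 2)
    (hq3 : q % 3 = 2) (hodd : Odd (Module.finrank (ZMod q) V)) (R : Subgroup G) (hRn : R.Normal)
    (h3 : ¬ 3 ∣ Nat.card R) : Group.IsSolvable R := by
  by_contra hRs
  haveI : Fact (Nat.Prime 2) := ⟨Nat.prime_two⟩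
  set e := Module.finrank (ZMod q) V with he
  -- a perfect normal subgroup with solvable maximal part
  obtain ⟨K, ⟨hKn, hKR, hKs⟩, hKmin⟩ := Set.Finite.exists_minimal
    (Set.toFinite {N : Subgroup G | N.Normal ∧ N ≤ R ∧ ¬ Group.IsSolvable N}) ⟨R, hRn, le_rfl, hRs⟩
  haveI := hKn
  have hmem : ∀ M : Subgroup G, M.Normal → M ≤ K → Group.IsSolvable M ∨ M = K := fun M hM hle => by
    by_contra hc
    push Not at hc
    exact hc.2 (le_antisymm hle (hKmin ⟨hM, hle.trans hKR, hc.1⟩ hle))
  have hKK : ⁅K, K⁆ = K := by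
    refine (hmem ⁅K, K⁆ inferInstance (commutator_le_self K)).resolve_left fun hs => hKs ?_
    have hm : (commutator K).map K.subtype = ⁅K, K⁆ := by
      rw [commutator_def, map_commutator, ← MonoidHom.range_eq_map, range_subtype]
    haveI := hs
    refine Group.isSolvable_of_ker_le_range (Subgroup.inclusion (commutator_le_self K))
      (Abelianization.of (G := K)) fun x hx => ?_
    rw [Abelianization.ker_of] at hx
    exact ⟨⟨x, hm ▸ ⟨x, hx, rfl⟩⟩, Subtype.ext rfl⟩
  have hKG : K ≤ commutator G := by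
    rw [← hKK, commutator_def]; exact commutator_mono le_top le_top
  obtain ⟨Z, ⟨hZn, hZK, hZs⟩, hZmax⟩ := Set.Finite.exists_maximal
    (Set.toFinite {N : Subgroup G | N.Normal ∧ N ≤ K ∧ Group.IsSolvable N})
    ⟨⊥, inferInstance, bot_le, inferInstance⟩
  haveI := hZn
  obtain ⟨A, hAn, hAc, hAZ, hZA⟩ := exists_fit hρ htr hq hodd Z hZn hZs
  have hKA : K ≤ centralizer (A : Set G) := hKG.trans (commutator_le_centralizer hρ htr hAn hAc)
  have hZeq : Z = A := le_antisymm (fun z hz => hZA ⟨hz, hKA (hZK hz)⟩) hAZ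
  have hcent : ∀ z ∈ Z, ∀ k ∈ K, z * k = k * z := fun z hz k hk =>
    Subgroup.mem_centralizer_iff.1 (hKA hk) z (hZeq ▸ hz)
  have hZodd : ∀ z ∈ Z, z * z = 1 → z = 1 := by
    intro z hz hz2
    by_contra hz1
    exact false_of_mem_commutator_neg hq hodd (hKG (hZK hz))
      (eq_neg_of_involution hρ htr hAn hAc (hZeq ▸ hz) hz2 hz1)
  have hZcard : Odd (Nat.card Z) := by
    rw [← Nat.not_even_iff_odd, even_iff_two_dvd]
    intro h2
    obtain ⟨z, hz⟩ := exists_prime_orderOf_dvd_card' (G := Z) 2 h2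
    rw [← Subgroup.orderOf_coe] at hz
    have h1 := hZodd z z.2 (by rw [← sq, ← hz]; exact pow_orderOf_eq_one _)
    rw [h1, orderOf_one] at hz
    omega
  -- the quotient
  let π : G →* G ⧸ Z := QuotientGroup.mk' Z
  have hπ : ∀ x, π x = 1 ↔ x ∈ Z := fun x => QuotientGroup.eq_one_iff x
  have huniq : ∀ x ∈ K, ∀ y ∈ K, x * x = 1 → y * y = 1 → π x = π y → x = y := by
    intro x hx y hy hx2 hy2 hxy
    have hz : x⁻¹ * y ∈ Z := by rw [← hπ, map_mul, map_inv, hxy, inv_mul_cancel]
    have hc := hcent _ hz x hx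
    rw [mul_inv_cancel_left] at hc
    have h1 : x⁻¹ * y * (x⁻¹ * y) = 1 := by
      calc x⁻¹ * y * (x⁻¹ * y) = x⁻¹ * y * (x⁻¹ * y) * x * x⁻¹ := by group
        _ = x⁻¹ * y * (x⁻¹ * y * x) * x⁻¹ := by group
        _ = x⁻¹ * y * y * x⁻¹ := by rw [hc]
        _ = x⁻¹ * (y * y) * x⁻¹ := by group
        _ = (x * x)⁻¹ := by rw [hy2]; group
        _ = 1 := by rw [hx2, inv_one]
    exact inv_mul_eq_one.1 (hZodd _ hz h1)
  set N : Subgroup (G ⧸ Z) := K.map π with hNdef
  haveI hNn : N.Normal := hKn.map _ (QuotientGroup.mk'_surjective Z)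
  have hlift : ∀ x ∈ N, x * x = 1 → ∃ y ∈ K, y * y = 1 ∧ π y = x := by
    rintro _ ⟨k, hk, rfl⟩ hx2
    have hk2 : k * k ∈ Z := by rw [← hπ, map_mul]; exact hx2
    obtain ⟨j, hj⟩ := hZcard
    refine ⟨k ^ Nat.card Z, pow_mem hk _, ?_, ?_⟩
    · rw [← (Commute.refl k).mul_pow]
      exact congrArg Subtype.val (pow_card_eq_one' (x := (⟨k * k, hk2⟩ : Z)))
    · rw [hj, map_pow, pow_succ, pow_mul, sq, hx2, one_pow, one_mul]
  have hNns : ¬ Group.IsSolvable N := by
    intro hs
    refine hKs ?_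
    let f : K →* N := π.subgroupMap K
    haveI := hs
    haveI : Group.IsSolvable Z := hZs
    let j : Z.subgroupOf K →* K := (Z.subgroupOf K).subtype
    haveI : Group.IsSolvable (Z.subgroupOf K) :=
      Group.isSolvable_of_isSolvable_injective (f := (subgroupOfEquivOfLe hZK).toMonoidHom)
        (subgroupOfEquivOfLe hZK).injective
    refine Group.isSolvable_of_ker_le_range j f fun x hx => ?_
    rw [range_subtype, mem_subgroupOf, ← hπ]
    exact congrArg Subtype.val (MonoidHom.mem_ker.1 hx)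
  have hNmin : Structure.IsMinNormal N := by
    refine ⟨fun hb => hNns (hb ▸ inferInstance), hNn, fun M hM hMN => ?_⟩
    haveI := hM
    rcases hmem (M.comap π ⊓ K) inferInstance inf_le_right with hs | hs
    · refine Or.inl (eq_bot_iff.2 fun x hx => ?_)
      obtain ⟨k, hk, rfl⟩ := hMN hx
      have hle : Z ≤ M.comap π ⊓ K := le_inf (fun z hz => by
        rw [mem_comap, (hπ z).2 hz]; exact one_mem M) hZK
      have := hZmax ⟨inferInstance, inf_le_right, hs⟩ hle ⟨hx, hk⟩
      exact mem_bot.2 ((hπ k).2 this)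
    · refine Or.inr (le_antisymm hMN ?_)
      rintro _ ⟨k, hk, rfl⟩
      rw [← hs] at hk
      exact hk.1
  have hNna : ¬ IsMulCommutative N := fun hc =>
    hNns (Group.isSolvable_of_comm fun a b => hc.is_comm.comm a b)
  haveI : Nontrivial N := (nontrivial_iff_ne_bot N).2 hNmin.ne_bot
  obtain ⟨S, hS⟩ := Structure.exists_isMinNormal (G := N)
  have hSsimple : IsSimpleGroup S := hNmin.isSimpleGroup_minNormal hS
  have hSna : ¬ IsMulCommutative S := hNmin.not_isMulCommutative_minNormal hNna hS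
  have hS3 : ¬ 3 ∣ Nat.card S := fun h => h3 ((h.trans S.card_subgroup_dvd_card).trans
    ((Subgroup.card_map_dvd K π).trans (card_dvd_of_le hKR)))
  obtain ⟨T⟩ := (inferInstance : Nonempty (Sylow 2 S))
  obtain ⟨n, ZS, η, hd⟩ := ThreeFree.szFactsHold S (ThreeFree.threeFreeSimple S hSsimple hSna hS3) T
  let f : S →* G ⧸ Z := N.subtype.comp S.subtype
  have hf : Function.Injective f := N.subtype_injective.comp S.subtype_injective
  have hfN : ∀ s, f s ∈ N := fun s => (s : N).2
  -- the lift of the centre of the Sylow subgroup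
  let E : Subgroup G :=
    { carrier := {x | x ∈ K ∧ x * x = 1 ∧ π x ∈ ZS.map f}
      one_mem' := ⟨one_mem K, mul_one 1, by rw [map_one]; exact one_mem _⟩
      mul_mem' := fun {a b} ha hb => by
        refine ⟨mul_mem ha.1 hb.1, ?_, by rw [map_mul]; exact mul_mem ha.2.2 hb.2.2⟩
        have hab : a * b * a⁻¹ = b := by
          refine huniq _ (mul_mem (mul_mem ha.1 hb.1) (inv_mem ha.1)) b hb.1 ?_ hb.2.1 ?_
          · rw [show a * b * a⁻¹ * (a * b * a⁻¹) = a * (b * b) * a⁻¹ by group, hb.2.1]; group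
          · obtain ⟨za, hza, hea⟩ := ha.2.2
            obtain ⟨zb, hzb, heb⟩ := hb.2.2
            rw [map_mul, map_mul, map_inv, ← hea, ← heb, ← map_mul, hd.Z_comm za hza zb (hd.Z_le hzb),
              map_mul, mul_inv_cancel_right]
        have hab' : a * b = b * a := mul_inv_eq_iff_eq_mul.1 hab
        calc a * b * (a * b) = a * b * (b * a) := by rw [← hab']
          _ = a * (b * b) * a := by group
          _ = 1 := by rw [hb.2.1, mul_one, ha.2.1]
      inv_mem' := fun {a} ha => by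
        rw [Set.mem_setOf_eq, inv_eq_of_mul_eq_one_right ha.2.1]; exact ha }
  have hEsq : ∀ x ∈ E, x * x = 1 := fun x hx => hx.2.1
  have hEcomm : ∀ x ∈ E, ∀ y ∈ E, x * y = y * x := fun x hx y hy => by
    have := hEsq _ (mul_mem hx hy)
    calc x * y = (x * y)⁻¹ := (inv_eq_of_mul_eq_one_right this).symm
      _ = y⁻¹ * x⁻¹ := mul_inv_rev x y
      _ = y * x := by
        rw [inv_eq_of_mul_eq_one_right (hEsq x hx), inv_eq_of_mul_eq_one_right (hEsq y hy)]
  have hElift : ∀ z ∈ ZS, ∃ x ∈ E, π x = f z := fun z hz => by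
    obtain ⟨x, hxK, hx2, hxz⟩ := hlift (f z) (hfN z) (by rw [← map_mul, hd.Z_sq z hz, map_one])
    exact ⟨x, ⟨hxK, hx2, ⟨z, hz, hxz.symm⟩⟩, hxz⟩
  have hEcard : Nat.card E = 2 ^ n := by
    rw [← hd.card_Z, Nat.card_congr (ZS.equivMapOfInjective f hf).toEquiv]
    refine Nat.card_eq_of_bijective (fun x : E => (⟨π x, x.2.2.2⟩ : ZS.map f)) ⟨fun x y h => ?_, ?_⟩
    · exact Subtype.ext (huniq x x.2.1 y y.2.1 x.2.2.1 y.2.2.1 (congrArg Subtype.val h))
    · rintro ⟨_, z, hz, rfl⟩
      obtain ⟨x, hx, hxz⟩ := hElift z hz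
      exact ⟨⟨x, hx⟩, Subtype.ext hxz⟩
  -- the lifted torus
  obtain ⟨η', hη'K, hη'⟩ := Subgroup.mem_map.1 (hfN η)
  have hη'pow : ∀ k : ℕ, π (η' ^ k) = f (η ^ k) := fun k => by rw [map_pow, map_pow, hη']
  have hconjE : ∀ x ∈ E, η' * x * η'⁻¹ ∈ E := by
    rintro x ⟨hxK, hx2, z, hz, hzx⟩
    refine ⟨hKn.conj_mem x hxK η', ?_, η * z * η⁻¹, ?_, ?_⟩
    · rw [show η' * x * η'⁻¹ * (η' * x * η'⁻¹) = η' * (x * x) * η'⁻¹ by group, hx2]; group
    · have hη : η ∈ normalizer (ZS : Set S) := by rw [hd.norm_Z]; exact hd.h_mem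
      exact (mem_normalizer_iff.1 hη z).1 hz
    · rw [map_mul, map_mul, map_inv, hzx, map_mul, map_mul, map_inv, hη']
  have htransE : ∀ x ∈ E, x ≠ 1 → ∀ y ∈ E, y ≠ 1 → ∃ k : ℕ, η' ^ k * x * (η' ^ k)⁻¹ = y := by
    intro x hx hx1 y hy hy1
    obtain ⟨z, hz, hzx⟩ := hx.2.2
    obtain ⟨z', hz', hzy⟩ := hy.2.2
    have hz1 : z ≠ 1 := fun h => hx1 (huniq x hx.1 1 (one_mem K) hx.2.1 (one_mul 1)
      (by rw [← hzx, h, map_one, map_one]))
    have hz1' : z' ≠ 1 := fun h => hy1 (huniq y hy.1 1 (one_mem K) hy.2.1 (one_mul 1)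
      (by rw [← hzy, h, map_one, map_one]))
    obtain ⟨k, hk⟩ := hd.trans z hz z' hz' hz1 hz1'
    refine ⟨k, huniq _ (hKn.conj_mem x hx.1 _) y hy.1 ?_ hy.2.1 ?_⟩
    · rw [show η' ^ k * x * (η' ^ k)⁻¹ * (η' ^ k * x * (η' ^ k)⁻¹) = η' ^ k * (x * x) * (η' ^ k)⁻¹ by
        group, hx.2.1]; group
    · rw [map_mul, map_mul, map_inv, hη'pow, ← hzx, ← map_inv, ← map_mul, ← map_mul, hk, hzy]
  have hQe : 2 ^ n - 1 ≤ e := card_le_finrank hρ hq hEsq hEcomm hconjE htransE
    (le_trans (by norm_num) hd.three_le) hEcard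
  have he7 : 7 ≤ e := by
    have := Nat.pow_le_pow_right two_pos hd.three_le
    omega
  -- the simple factors
  haveI : Fintype (Subgroup N) := Fintype.ofFinite _
  let Fs : Finset (Subgroup N) := Finset.univ.filter fun A => Structure.IsMinNormal A
  have hinvS : ∀ A ∈ Fs, {x : N | x ∈ A ∧ x * x = 1 ∧ x ≠ 1}.ncard ≤ (2 ^ n) ^ 3 := by
    intro A hA
    obtain ⟨g, hg⟩ := hNmin.exists_conj_eq hNna hS (Finset.mem_filter.1 hA).2
    refine le_trans ?_ (ncard_invol_le hd)
    refine le_trans (Set.ncard_le_ncard ?_ (Set.toFinite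
      ((fun s : S => Structure.conjAut N g (s : N)) '' {x : S | x * x = 1 ∧ x ≠ 1})))
      (Set.ncard_image_le (Set.toFinite _))
    rintro x ⟨hxA, hx2, hx1⟩
    rw [← hg] at hxA
    obtain ⟨s, hs, rfl⟩ := hxA
    refine ⟨⟨s, hs⟩, ⟨Subtype.ext ((Structure.conjAut N g).injective ?_), fun h => hx1 ?_⟩, rfl⟩
    · rw [OneMemClass.coe_one, map_one, Subgroup.coe_mul, map_mul]; exact hx2
    · rw [show s = 1 from congrArg Subtype.val h, map_one]
  have hwit : ∀ A ∈ Fs, ∃ x : G, x ∈ K ∧ x * x = 1 ∧ x ≠ 1 ∧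
      ∃ a ∈ A, ((a : N) : G ⧸ Z) = π x := by
    intro A hA
    obtain ⟨g, hg⟩ := hNmin.exists_conj_eq hNna hS (Finset.mem_filter.1 hA).2
    obtain ⟨z, hz, hz1⟩ := (Subgroup.bot_or_exists_ne_one ZS).resolve_left (fun hb => by
      have := hd.card_Z
      rw [hb, Subgroup.card_bot] at this
      have := Nat.pow_le_pow_right two_pos hd.three_le
      omega)
    set a : N := Structure.conjAut N g (z : N) with ha
    have ha2 : a * a = 1 := by
      rw [ha, ← map_mul, ← Subgroup.coe_mul, hd.Z_sq z hz, OneMemClass.coe_one, map_one]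
    obtain ⟨x, hxK, hx2, hxa⟩ := hlift (a : G ⧸ Z) a.2 (congrArg Subtype.val ha2)
    refine ⟨x, hxK, hx2, fun h => hz1 ?_, a, hg ▸ ⟨_, z.2, rfl⟩, hxa.symm⟩
    rw [h, map_one] at hxa
    have h1 : a = 1 := Subtype.ext hxa.symm
    rw [ha, map_eq_one_iff _ (Structure.conjAut N g).injective] at h1
    exact Subtype.ext h1
  choose w hwK hw2 hw1 aw haw hwa using hwit
  have hclos : ∀ s : Finset Fs, 2 ^ s.card ≤
      Nat.card (closure ((fun A : Fs => w A.1 A.2) '' (s : Set Fs)) : Subgroup G) := by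
    intro s
    induction s using Finset.induction_on with
    | empty => simpa using Nat.card_pos
    | insert A s hAs ih =>
      set H₁ := closure ((fun A : Fs => w A.1 A.2) '' (s : Set Fs))
      set H₂ := closure ((fun A : Fs => w A.1 A.2) '' ((insert A s : Finset Fs) : Set Fs))
      have hle : H₁ ≤ H₂ := closure_mono (Set.image_mono (by simp))
      have hAm : Structure.IsMinNormal A.1 := (Finset.mem_filter.1 A.2).2
      have hne : w A.1 A.2 ∉ H₁ := by
        intro hmem₁
        have hc : π (w A.1 A.2) ∈ centralizer (((A.1).map N.subtype : Subgroup (G ⧸ Z)) : Set (G ⧸ Z)) := by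
          have hle' : H₁ ≤ (centralizer (((A.1).map N.subtype : Subgroup (G ⧸ Z)) : Set (G ⧸ Z))).comap π := by
            refine (closure_le _).2 ?_
            rintro _ ⟨B, hB, rfl⟩
            have hBA : B.1 ≠ A.1 := fun h => hAs (Subtype.ext h ▸ hB)
            refine Subgroup.mem_centralizer_iff.2 ?_
            rintro _ ⟨y, hy, rfl⟩
            rw [← hwa B.1 B.2]
            exact congrArg Subtype.val
              (hAm.commute (Finset.mem_filter.1 B.2).2 (Ne.symm hBA) y hy _ (haw B.1 B.2)).eq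
          exact hle' hmem₁
        haveI := hNmin.isSimpleGroup_minNormal hAm
        have hAna := hNmin.not_isMulCommutative_minNormal hNna hAm
        have hctr : (⟨aw A.1 A.2, haw A.1 A.2⟩ : A.1) ∈ center A.1 := by
          rw [mem_center_iff]
          intro y
          refine Subtype.ext (Subtype.ext ?_)
          have := Subgroup.mem_centralizer_iff.1 hc _ ⟨y, y.2, rfl⟩
          rw [← hwa A.1 A.2] at this
          exact this
        rcases (inferInstance : (center A.1).Normal).eq_bot_or_eq_top with hb | hb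
        · rw [hb, mem_bot] at hctr
          refine hw1 A.1 A.2 (huniq _ (hwK A.1 A.2) 1 (one_mem K) (hw2 A.1 A.2) (one_mul 1) ?_)
          have h1 : aw A.1 A.2 = 1 := congrArg Subtype.val hctr
          rw [← hwa A.1 A.2, h1, map_one]
          rfl
        · exact hAna ⟨⟨fun p r => (mem_center_iff.1 (hb ▸ mem_top r : r ∈ center A.1) p)⟩⟩
      have hdvd := card_dvd_of_le hle
      have hlt : Nat.card H₁ ≠ Nat.card H₂ := fun hc =>
        hne ((Subgroup.eq_of_le_of_card_ge hle hc.ge).symm ▸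
          subset_closure ⟨A, by simp, rfl⟩)
      obtain ⟨k, hk⟩ := hdvd
      have hk2 : 2 ≤ k := by
        have : 0 < Nat.card H₂ := Nat.card_pos
        rcases k with _ | _ | k
        · simp at hk; omega
        · simp at hk; exact absurd hk.symm hlt
        · omega
      rw [Finset.card_insert_of_notMem hAs, pow_succ, hk]
      exact Nat.mul_le_mul ih hk2
  have hb : Fs.card ≤ e := by
    let H := closure ((fun A : Fs => w A.1 A.2) '' ((Finset.univ : Finset Fs) : Set Fs))
    have hgen2 : ∀ A : Fs, ∀ B : Fs, w A.1 A.2 * w B.1 B.2 = w B.1 B.2 * w A.1 A.2 := by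
      intro A B
      refine mul_inv_eq_iff_eq_mul.1 (huniq _ (hKn.conj_mem _ (hwK B.1 B.2) _) _ (hwK B.1 B.2)
        ?_ (hw2 B.1 B.2) ?_)
      · rw [show w A.1 A.2 * w B.1 B.2 * (w A.1 A.2)⁻¹ * (w A.1 A.2 * w B.1 B.2 * (w A.1 A.2)⁻¹) =
          w A.1 A.2 * (w B.1 B.2 * w B.1 B.2) * (w A.1 A.2)⁻¹ by group, hw2]; group
      · rw [map_mul, map_mul, map_inv, mul_inv_eq_iff_eq_mul, ← hwa A.1 A.2, ← hwa B.1 B.2]
        by_cases hAB : A = B
        · subst hAB; rfl
        · exact congrArg Subtype.val ((Finset.mem_filter.1 A.2).2.commute (Finset.mem_filter.1 B.2).2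
            (fun h => hAB (Subtype.ext h)) _ (haw A.1 A.2) _ (haw B.1 B.2)).eq
    haveI : IsMulCommutative H := isMulCommutative_closure (by
      rintro _ ⟨A, -, rfl⟩ _ ⟨B, -, rfl⟩; exact hgen2 A B)
    have hHc : ∀ x ∈ H, ∀ y ∈ H, x * y = y * x := fun x hx y hy =>
      congrArg Subtype.val (mul_comm' (⟨x, hx⟩ : H) ⟨y, hy⟩)
    have hHsq : ∀ x ∈ H, x * x = 1 := by
      intro x hx
      induction hx using closure_induction with
      | mem x hx => obtain ⟨A, -, rfl⟩ := hx; exact hw2 A.1 A.2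
      | one => exact one_mul 1
      | mul x y hxm hym hx hy =>
        rw [show x * y * (x * y) = x * (y * x) * y by group, ← hHc x hxm y hym,
          show x * (x * y) * y = (x * x) * (y * y) by group, hx, hy, one_mul]
      | inv x _ hx => rw [← mul_inv_rev, hx, inv_one]
    have := (hclos Finset.univ).trans (card_le_two_pow hρ hq hHsq hHc)
    rw [Finset.card_univ, Fintype.card_coe] at this
    exact (Nat.pow_le_pow_iff_right (by norm_num)).1 this
  -- the class of one lifted involution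
  obtain ⟨u, huE, hu1⟩ := (Subgroup.bot_or_exists_ne_one E).resolve_left (fun hb' => by
    rw [hb', Subgroup.card_bot] at hEcard
    have := Nat.pow_le_pow_right two_pos hd.three_le
    omega)
  have hI : {x : G | IsConj u x}.ncard ≤ Fs.card * (2 ^ n) ^ 3 := by
    have hmaps : ∀ x ∈ {x : G | IsConj u x}, π x ∈
        Subtype.val '' (⋃ A ∈ Fs, {y : N | y ∈ A ∧ y * y = 1 ∧ y ≠ 1}) := by
      intro x hx
      obtain ⟨g, rfl⟩ := isConj_iff.1 hx
      obtain ⟨z, hz, hzu⟩ := huE.2.2
      have hz1 : z ≠ 1 := fun h => hu1 (huniq u huE.1 1 (one_mem K) huE.2.1 (one_mul 1)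
        (by rw [← hzu, h, map_one, map_one]))
      refine ⟨Structure.conjAut N (π g) (z : N), Set.mem_biUnion (Finset.mem_filter.2
        ⟨Finset.mem_univ _, hS.map_equiv (Structure.conjAut N (π g))⟩) ⟨⟨_, z.2, rfl⟩, ?_, ?_⟩, ?_⟩
      · rw [← map_mul, ← Subgroup.coe_mul, hd.Z_sq z hz, OneMemClass.coe_one, map_one]
      · rw [Ne, map_eq_one_iff _ (Structure.conjAut N (π g)).injective]
        exact fun h => hz1 (Subtype.ext h)
      · show π g * ((z : N) : G ⧸ Z) * (π g)⁻¹ = π (g * u * g⁻¹)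
        rw [show ((z : N) : G ⧸ Z) = π u from hzu, map_mul, map_mul, map_inv]
    have hinj : Set.InjOn π {x : G | IsConj u x} := by
      intro x hx y hy hxy
      obtain ⟨g, rfl⟩ := isConj_iff.1 hx
      obtain ⟨k, rfl⟩ := isConj_iff.1 hy
      have hsq' : ∀ g : G, g * u * g⁻¹ * (g * u * g⁻¹) = 1 := fun g => by
        rw [show g * u * g⁻¹ * (g * u * g⁻¹) = g * (u * u) * g⁻¹ by group, huE.2.1]; group
      exact huniq _ (hKn.conj_mem u huE.1 g) _ (hKn.conj_mem u huE.1 k) (hsq' g) (hsq' k) hxy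
    refine (Set.ncard_le_ncard_of_injOn π hmaps hinj).trans ?_
    rw [Set.ncard_image_of_injective _ Subtype.val_injective]
    refine (Finset.set_ncard_biUnion_le Fs _).trans ?_
    exact (Finset.sum_le_card_nsmul Fs _ _ hinvS).trans (le_of_eq (smul_eq_mul _ _))
  -- its fixed space
  let W : Submodule (ZMod q) V := LinearMap.ker (act ρ u - 1)
  have hWmem : ∀ v : V, v ∈ W ↔ ρ u v = v := fun v => by
    simp only [W, LinearMap.mem_ker, LinearMap.sub_apply, sub_eq_zero]
    rfl
  set c := Module.finrank (ZMod q) W with hc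
  have hcW : Nat.card {v : V // ρ u v = v} = q ^ c := by
    rw [← Nat.card_congr (Equiv.subtypeEquivRight hWmem)]
    show Nat.card W = _
    rw [Module.natCard_eq_pow_finrank (K := ZMod q), Nat.card_zmod]
  have hce : c < e := by
    refine Submodule.finrank_lt fun htop => hu1 (hρ ?_)
    rw [map_one]
    exact LinearEquiv.ext fun v => (hWmem v).1 (htop ▸ Submodule.mem_top)
  have hc0 : c ≠ 0 := by
    intro h0
    refine false_of_mem_commutator_neg (ρ := ρ) hq hodd (hKG huE.1) fun v => ?_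
    have hv : v + ρ u v ∈ W := by
      rw [hWmem, map_add, ← LinearEquiv.mul_apply, ← map_mul, huE.2.1, map_one]
      exact add_comm _ _
    rw [Submodule.finrank_eq_zero.1 h0, Submodule.mem_bot] at hv
    exact eq_neg_of_add_eq_zero_right hv
  have hdvd := class_bound htr hcW
  rw [← he] at hdvd
  set g := Nat.gcd e c with hg
  set I := {x : G | IsConj u x}.ncard with hIdef
  have hdvd' : q ^ e - 1 ∣ I * (q ^ g - 1) := by
    rw [hg, ← Nat.pow_sub_one_gcd_pow_sub_one, ← Nat.gcd_mul_left]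
    exact Nat.dvd_gcd (Dvd.intro_left I rfl) hdvd
  have hgpos : 0 < g := Nat.gcd_pos_of_pos_right _ (Nat.pos_of_ne_zero hc0)
  have hge : g < e := lt_of_le_of_lt (Nat.le_of_dvd (Nat.pos_of_ne_zero hc0) (Nat.gcd_dvd_right e c)) hce
  have hq5 : 5 ≤ q := by
    have := (Fact.out : q.Prime).two_le
    omega
  have hI0 : 0 < I := (Set.ncard_pos (Set.toFinite _)).2 ⟨u, IsConj.refl u⟩
  have hqg : 1 < q ^ g := Nat.one_lt_pow hgpos.ne' (by omega)
  have hle := Nat.le_of_dvd (Nat.mul_pos hI0 (by omega)) hdvd'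
  have hIlow : q ^ (e - g) ≤ I := by
    refine Nat.le_of_mul_le_mul_right ?_ (show 0 < q ^ g by omega)
    rw [← pow_add, Nat.sub_add_cancel hge.le]
    rw [Nat.mul_sub, mul_one] at hle
    have hIg : I ≤ I * q ^ g := Nat.le_mul_of_pos_right I (by omega)
    omega
  refine arith_bound hodd he7 (Nat.gcd_dvd_left e c) hge ?_
  calc 5 ^ (e - g) ≤ q ^ (e - g) := Nat.pow_le_pow_left hq5 _
    _ ≤ Fs.card * (2 ^ n) ^ 3 := hIlow.trans hI
    _ ≤ e * (e + 1) ^ 3 := Nat.mul_le_mul hb (Nat.pow_le_pow_left (by omega) 3)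

end CfsgLib.TripleNormal.Linear
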