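import Cfsg.Agent.Lib.TripleNormal.Affine
import Cfsg.Agent.Lib.SEModule.Main
import Cfsg.Agent.S1225
import Cfsg.Agent.S2903

/-!
# Odd degree

In odd degree the socle of a triply transitive group is triply transitive.
-/

set_option autoImplicit false

open Equiv Subgroup

namespace CfsgLib.TripleNormal

universe u

variable {Ω : Type u} [Finite Ω] {C : Ctx Ω}

namespace Ctx

theorem whole_of_odd_stab (hodd : Odd (Nat.card Ω)) (hn : 3 < Nat.card Ω)
    (hst : ∀ a b : Ω, a ≠ b → Odd (Nat.card (C.st2 a b))) : C.Whole := by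
  classical
  have := Fintype.ofFinite Ω
  haveI : Nontrivial Ω := Finite.one_lt_card_iff_nontrivial.1 (by omega)
  haveI := C.simple
  haveI := Fact.mk Nat.prime_two
  obtain ⟨a⟩ : Nonempty Ω := inferInstance
  obtain ⟨s, t, hs, ht, hst', hcomm⟩ := exists_commuting_pair C.L C.simple C.nc
  have hrank : Cfsg.PRankAtLeast 2 2 C.L := by
    have hs2 : s * s = 1 := by rw [← pow_two, ← hs, pow_orderOf_eq_one]
    have ht2 : t * t = 1 := by rw [← pow_two, ← ht, pow_orderOf_eq_one]
    let A : Subgroup C.L :=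
      { carrier := {1, s, t, s * t}
        one_mem' := by simp
        mul_mem' := by
          have e1 : t * s = s * t := hcomm.eq.symm
          have e2 : s * (s * t) = t := by rw [← mul_assoc, hs2, one_mul]
          have e3 : t * (s * t) = s := by rw [← mul_assoc, e1, mul_assoc, ht2, mul_one]
          have e4 : s * t * s = t := by rw [mul_assoc, e1, e2]
          have e5 : s * t * t = s := by rw [mul_assoc, ht2, mul_one]
          have e6 : s * t * (s * t) = 1 := by rw [mul_assoc, e3, hs2]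
          rintro x y (rfl | rfl | rfl | rfl) (rfl | rfl | rfl | rfl) <;>
            simp [hs2, ht2, e1, e2, e3, e4, e5, e6]
        inv_mem' := by
          have e6 : s * t * (s * t) = 1 := by
            rw [mul_assoc, ← mul_assoc t, hcomm.symm.eq, mul_assoc, ht2, mul_one, hs2]
          rintro x (rfl | rfl | rfl | rfl)
          · simp
          · rw [inv_eq_of_mul_eq_one_right hs2]; simp
          · rw [inv_eq_of_mul_eq_one_right ht2]; simp
          · rw [inv_eq_of_mul_eq_one_right e6]; simp }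
    refine ⟨A, ⟨⟨?_⟩⟩, ?_, ?_⟩
    · rintro ⟨x, hx⟩ ⟨y, hy⟩
      apply Subtype.ext
      show x * y = y * x
      have hst2 : Commute s (s * t) := (Commute.refl s).mul_right hcomm
      have htt2 : Commute t (s * t) := hcomm.symm.mul_right (Commute.refl t)
      rcases hx with rfl | rfl | rfl | rfl <;> rcases hy with rfl | rfl | rfl | rfl <;>
        first
          | exact Commute.one_left _ | exact Commute.one_right _ | exact Commute.refl _
          | exact hcomm | exact hcomm.symm | exact hst2 | exact hst2.symm | exact htt2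
          | exact htt2.symm
    · rintro x (rfl | rfl | rfl | rfl)
      · simp
      · rw [pow_two, hs2]
      · rw [pow_two, ht2]
      · rw [pow_two, mul_assoc, ← mul_assoc t, hcomm.symm.eq, mul_assoc, ht2, mul_one, hs2]
    · have hs1 : s ≠ 1 := fun h => by rw [h, orderOf_one] at hs; omega
      have ht1 : t ≠ 1 := fun h => by rw [h, orderOf_one] at ht; omega
      have hst1 : s * t ≠ 1 := fun h =>
        hst' ((eq_inv_of_mul_eq_one_left h).trans (inv_eq_of_mul_eq_one_right ht2))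
      show 2 ^ 2 ≤ Nat.card ({1, s, t, s * t} : Set C.L)
      rw [Nat.card_coe_set_eq, Set.ncard_insert_of_notMem, Set.ncard_insert_of_notMem,
        Set.ncard_pair]
      · norm_num
      · intro h; exact hs1 (right_eq_mul.1 h)
      · simp only [Set.mem_insert_iff, Set.mem_singleton_iff, not_or]
        exact ⟨hst', fun h => ht1 (left_eq_mul.1 h)⟩
      · simp only [Set.mem_insert_iff, Set.mem_singleton_iff, not_or]
        exact ⟨hs1.symm, ht1.symm, hst1.symm⟩
  -- the point stabiliser is strongly embedded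
  let Ha : Subgroup C.L := MulAction.stabilizer C.L a
  have hmemHa : ∀ x : C.L, x ∈ Ha ↔ (x : Perm Ω) a = a := fun x => Iff.rfl
  haveI := C.isPretransitive
  have htwo : ∃ i : C.L, orderOf i = 2 ∧ i ∈ Ha := by
    obtain ⟨x, hx⟩ : ∃ x : Ω, (s : Perm Ω) x = x := by
      by_contra hno; push Not at hno
      have hsq : (s : Perm Ω) ^ 2 = 1 := by
        have := congrArg Subtype.val (orderOf_dvd_iff_pow_eq_one.1 (dvd_of_eq hs) : s ^ 2 = 1)
        simpa using this
      have hR : IsPGroup 2 (Subgroup.zpowers (s : Perm Ω)) :=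
        IsPGroup.of_card (n := 1) (by rw [Nat.card_zpowers, pow_one, Subgroup.orderOf_coe, hs])
      have h2 := modEq_card_fixSet hR
      rw [show fixSet (Subgroup.zpowers (s : Perm Ω)) = ∅ from
        Set.eq_empty_iff_forall_notMem.2 fun x hx => hno x (hx _ (Subgroup.mem_zpowers _)),
        Set.ncard_empty] at h2
      exact Nat.not_even_iff_odd.2 hodd (even_iff_two_dvd.2 (Nat.modEq_zero_iff_dvd.1 h2))
    obtain ⟨y, hy⟩ := exists_ne x
    obtain ⟨b, hb⟩ := exists_ne a
    obtain ⟨l, hl, hla, -⟩ := C.two hy.symm hb.symm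
    refine ⟨⟨l, hl⟩ * s * ⟨l, hl⟩⁻¹, ?_, ?_⟩
    · rw [← MulAut.conj_apply, MulEquiv.orderOf_eq, hs]
    · rw [hmemHa]
      simp [← hla, hx]
  obtain ⟨i, hi, hiH⟩ := htwo
  have hHtop : Ha ≠ ⊤ := by
    intro h
    obtain ⟨b, hb⟩ := exists_ne a
    obtain ⟨g, hg⟩ := MulAction.exists_smul_eq C.L a b
    have hga : g ∈ Ha := h ▸ Subgroup.mem_top g
    exact hb (hg.symm.trans ((hmemHa g).1 hga))
  have hSE : Cfsg.IsStronglyEmbedded Ha := by
    refine ⟨hHtop, ?_, fun g hg => ?_⟩
    · rw [even_iff_two_dvd, ← hi]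
      have := orderOf_dvd_natCard (⟨i, hiH⟩ : Ha)
      rwa [Subgroup.orderOf_mk] at this
    · have hga : (g : Perm Ω) a ≠ a := fun h => hg ((hmemHa g).2 h)
      refine Odd.of_dvd_nat (hst a _ hga.symm) ?_
      refine Subgroup.card_dvd_of_injective
        ({ toFun := fun x => ⟨((x : C.L) : Perm Ω), C.mem_st2.2 ⟨(x : C.L).2, x.2.1, ?_⟩⟩
           map_one' := rfl
           map_mul' := fun _ _ => rfl } :
          (Ha ⊓ Ha.map (MulAut.conj g).toMonoidHom : Subgroup C.L) →* C.st2 a ((g : Perm Ω) a))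
        fun x y h => Subtype.ext (Subtype.ext (congrArg Subtype.val h :))
      obtain ⟨z, hz, hzx⟩ := x.2.2
      rw [← hzx]
      have hz' : (z : Perm Ω) a = a := hz
      simp [hz']
  have hsolv : IsSolvable Ha :=
    Cfsg.Agent.S2903.result hrank Ha (CfsgLib.SEModule.isStronglyPEmbedded_two hSE)
  -- the affine structure
  let H : Subgroup (Perm Ω) := Ha.map C.L.subtype
  have hHmem : ∀ {x : Perm Ω}, x ∈ H ↔ x ∈ C.L ∧ x a = a := fun {x} =>
    ⟨by rintro ⟨y, hy, rfl⟩; exact ⟨y.2, hy⟩, fun h => ⟨⟨x, h.1⟩, h.2, rfl⟩⟩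
  have hHs : Group.IsSolvable H := by
    haveI : Group.IsSolvable Ha := hsolv
    exact Group.isSolvable_of_surjective (f := C.L.subtype.subgroupMap Ha)
      (C.L.subtype.subgroupMap_surjective Ha)
  have hH1 : H ≠ ⊥ := by
    intro h
    have := hHmem.2 ⟨i.2, hiH⟩
    rw [h, Subgroup.mem_bot] at this
    have hi1 : i = 1 := Subtype.ext this
    rw [hi1, orderOf_one] at hi
    omega
  have hHn : ∀ g ∈ C.G, g a = a → ∀ x, x ∈ H ↔ g * x * g⁻¹ ∈ H := by
    intro g hg hga x
    have hga' : g⁻¹ a = a := Perm.inv_eq_iff_eq.2 hga.symm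
    rw [hHmem, hHmem]
    refine ⟨fun h => ⟨C.norm g hg x h.1, by rw [Perm.mul_apply, Perm.mul_apply, hga', h.2, hga]⟩,
      fun h => ⟨?_, ?_⟩⟩
    · have := C.norm g⁻¹ (inv_mem hg) _ h.1
      simpa [mul_assoc] using this
    · have h2 := h.2
      rw [Perm.mul_apply, Perm.mul_apply, hga'] at h2
      exact g.injective (h2.trans hga.symm)
  obtain ⟨A⟩ := exists_aff hn H (fun x hx => (hHmem.1 hx).1) (fun x hx => (hHmem.1 hx).2) hH1 hHs hHn
  obtain ⟨e, he, hcard⟩ := A.exists_card_eq (by omega)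
  have hr2 : A.r = 2 := by
    have h := A.card_W (by omega)
    rcases A.prime.eq_two_or_odd' with h2 | h2
    · exact h2
    · exfalso
      have : Odd (A.r ^ e) := h2.pow
      rw [← hcard] at this
      exact Nat.not_even_iff_odd.2 hodd (h ▸ this.add_one)
  -- an involution moving `a`
  obtain ⟨v, hv, hva⟩ : ∃ v : C.L, orderOf v = 2 ∧ (v : Perm Ω) a ≠ a := by
    by_contra hno; push Not at hno
    have hi1 : (i : Perm Ω) ≠ 1 := fun h => by
      have hi' : i = 1 := Subtype.ext h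
      rw [hi', orderOf_one] at hi; omega
    apply hi1
    ext x
    obtain ⟨g, hg⟩ := MulAction.exists_smul_eq C.L a x
    have h := hno (g⁻¹ * i * g) (by
      rw [show g⁻¹ * i * g = MulAut.conj g⁻¹ i by simp, MulEquiv.orderOf_eq, hi])
    have hg' : (g : Perm Ω) a = x := hg
    simp only [Subgroup.coe_mul, Subgroup.coe_inv, Perm.mul_apply, hg', Perm.inv_eq_iff_eq] at h
    simpa [hg'] using h
  have hab : a ≠ (v : Perm Ω) a := hva.symm
  obtain ⟨c, hc⟩ : ∃ c, c ∈ rest a ((v : Perm Ω) a) := by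
    apply Set.nonempty_of_ncard_ne_zero
    rw [ncard_rest hab]; omega
  refine whole_of_card hab hc.1.symm hc.2.symm ?_
  rw [← ncard_rest hab]
  refine Set.ncard_le_ncard ?_ (Set.toFinite _)
  intro y hy
  obtain ⟨wc, hwc, hwcb⟩ := A.trans ((v : Perm Ω) a) c hva hc.1
  obtain ⟨wy, hwy, hwyb⟩ := A.trans ((v : Perm Ω) a) y hva hy.1
  have hord : ∀ w : Perm Ω, ∀ hw : w ∈ A.W, w ≠ 1 →
      orderOf (⟨w, A.le hw⟩ : C.L) = 2 ∧ (⟨w, A.le hw⟩ : C.L) ∈ Ha := fun w hw hw1 =>
    ⟨orderOf_eq_prime (Subtype.ext (by simpa [hr2] using A.exp w hw))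
      (fun h => hw1 (congrArg Subtype.val h)), A.fix w hw⟩
  have hwc1 : wc ≠ 1 := fun h => hc.2 (by rw [← hwcb, h]; rfl)
  have hwy1 : wy ≠ 1 := fun h => hy.2 (by rw [← hwyb, h]; rfl)
  obtain ⟨d, hd, hdc⟩ := (Cfsg.Agent.S1225.result Ha hSE v hv (fun h => hva h) _ _ (hord wc hwc hwc1).1
    (hord wc hwc hwc1).2 (hord wy hwy hwy1).1 (hord wy hwy hwy1).2).1
  obtain ⟨hd1, z, hz, hzd⟩ := hd
  have hdb : (d : Perm Ω) ((v : Perm Ω) a) = (v : Perm Ω) a := by
    rw [← hzd]
    have hz' : (z : Perm Ω) a = a := hz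
    simp [hz']
  refine ⟨d, C.mem_st2.2 ⟨d.2, hd1, hdb⟩, ?_⟩
  have hdc' : (d : Perm Ω) * wc * (d : Perm Ω)⁻¹ = wy := congrArg Subtype.val hdc
  have hdb' : (d : Perm Ω)⁻¹ ((v : Perm Ω) a) = (v : Perm Ω) a := Perm.inv_eq_iff_eq.2 hdb.symm
  rw [← hwyb, ← hdc', Perm.mul_apply, Perm.mul_apply, hdb', hwcb]

/-- The pair stabiliser of `L` normalising a Sylow 2-subgroup of itself acts on the fixed set of
that subgroup as a group of odd order. -/
theorem odd_map_st2 {a b : Ω} {T : Subgroup (Perm Ω)} (hT : IsFull 2 T (C.st2 a b)) :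
    Odd (Nat.card (((C.st2 a b).subgroupOf (Subgroup.normalizer (T : Set (Perm Ω)))).map
      (resHom T))) := by
  classical
  let M := (C.st2 a b).subgroupOf (Subgroup.normalizer (T : Set (Perm Ω)))
  let f := (resHom T).subgroupMap M
  have hsurj := (resHom T).subgroupMap_surjective M
  have hTn : T ≤ Subgroup.normalizer (T : Set (Perm Ω)) := Subgroup.le_normalizer
  have hcard : Nat.card f.ker * Nat.card (M.map (resHom T)) = Nat.card M := by
    rw [← Subgroup.card_mul_index f.ker, Subgroup.index_ker, MonoidHom.range_eq_top.2 hsurj,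
      Subgroup.card_top]
  have hTk : Nat.card T ∣ Nat.card f.ker := by
    refine Subgroup.card_dvd_of_injective
      ({ toFun := fun t => ⟨⟨⟨t, hTn t.2⟩, hT.1 t.2⟩, Subtype.ext (Equiv.ext fun z =>
            Subtype.ext (z.2 t t.2))⟩
         map_one' := rfl
         map_mul' := fun _ _ => rfl } : T →* f.ker) fun t t' h => Subtype.ext ?_
    exact congrArg (fun z : f.ker => ((z.1 : Subgroup.normalizer (T : Set (Perm Ω))) : Perm Ω)) h
  have hMd : Nat.card M ∣ Nat.card (C.st2 a b) :=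
    Subgroup.card_dvd_of_injective
      ({ toFun := fun z => ⟨((z : Subgroup.normalizer (T : Set (Perm Ω))) : Perm Ω), z.2⟩
         map_one' := rfl
         map_mul' := fun _ _ => rfl } : M →* C.st2 a b) fun z z' h =>
      Subtype.ext (Subtype.ext (congrArg Subtype.val h :))
  rw [← Nat.not_even_iff_odd, even_iff_two_dvd]
  intro h2
  have : 2 ^ ((Nat.card (C.st2 a b)).factorization 2 + 1) ∣ Nat.card (C.st2 a b) := by
    refine dvd_trans ?_ hMd
    rw [← hcard, pow_succ, ← hT.2]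
    exact mul_dvd_mul hTk h2
  exact Nat.pow_succ_factorization_not_dvd Nat.card_pos.ne' Nat.prime_two this

/-- The pair stabiliser on the fixed set of a Sylow 2-subgroup of a pair stabiliser has odd order. -/
theorem odd_st2_sub {a b : Ω} {T : Subgroup (Perm Ω)} (hT : IsFull 2 T (C.st2 a b))
    {C' : Ctx (fixSet T)} (ha : a ∈ fixSet T) (hb : b ∈ fixSet T)
    (hLle : C'.L ≤ resImage T C.L) :
    Odd (Nat.card (C'.st2 ⟨a, ha⟩ ⟨b, hb⟩)) := by
  refine (odd_map_st2 (C := C) hT).of_dvd_nat (Subgroup.card_dvd_of_le fun σ hσ => ?_)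
  obtain ⟨hσL, hσa, hσb⟩ := C'.mem_st2.1 hσ
  obtain ⟨g, hg, rfl⟩ := hLle hσL
  exact ⟨g, C.mem_st2.2 ⟨hg, congrArg Subtype.val hσa, congrArg Subtype.val hσb⟩, rfl⟩

theorem exists_third (h : 2 < Nat.card Ω) {a b : Ω} (hab : a ≠ b) :
    ∃ c, c ∈ rest a b := by
  apply Set.nonempty_of_ncard_ne_zero
  rw [ncard_rest hab]; omega

theorem whole_of_odd (hodd : Odd (Nat.card Ω)) (hn : 3 < Nat.card Ω) : C.Whole := by
  classical
  haveI := Fact.mk Nat.prime_two
  haveI : Nontrivial Ω := Finite.one_lt_card_iff_nontrivial.1 (by omega)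
  obtain ⟨a, b, hab⟩ := exists_pair_ne Ω
  obtain ⟨T, hT⟩ := exists_isFull 2 (C.st2 a b)
  obtain ⟨c, hc⟩ := exists_third (by omega) hab
  have hm : ∀ x ∈ rest a b, ¬ 2 ∣ (C.orb a b x).ncard := fun x hx h => by
    have := h.trans (ncard_orb_dvd (C := C) hab hx.1.symm hx.2.symm)
    obtain ⟨k, hk⟩ := hodd
    omega
  have hmeet : ∀ x ∈ rest a b, ∃ y ∈ C.orb a b x, y ∈ fixSet T := fun x hx =>
    exists_fixed_in_orb hT.1 hT.isPGroup (hm x hx)
  have ha : a ∈ fixSet T := fun r hr => (C.mem_st2.1 (hT.1 hr)).2.1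
  have hb : b ∈ fixSet T := fun r hr => (C.mem_st2.1 (hT.1 hr)).2.2
  have hFodd : Odd (fixSet T).ncard := by
    have := modEq_card_fixSet hT.isPGroup
    rw [Nat.ModEq, Nat.odd_iff.1 hodd] at this
    exact Nat.odd_iff.2 this.symm
  obtain ⟨c', hc'o, hc'F⟩ := hmeet c hc
  have hc' := orb_subset_rest hc.1 hc.2 hc'o
  -- transfer to an arbitrary pair
  suffices hkey : ∀ y ∈ rest a b, y ∈ C.orb a b c' by
    intro a' b' x y hab' hx hy
    obtain ⟨l, hl, hla, hlb⟩ := C.two hab' hab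
    have hrest : ∀ w ∈ rest a' b', l w ∈ rest a b := fun w hw =>
      ⟨fun h => hw.1 (l.injective (h.trans hla.symm)), fun h => hw.2 (l.injective (h.trans hlb.symm))⟩
    have h : l y ∈ C.orb a b (l x) := by
      rw [orb_eq_of_mem (hkey _ (hrest x hx))]; exact hkey _ (hrest y hy)
    rw [← hla, ← hlb, ← image_orb (C.le hl)] at h
    obtain ⟨w, hw, he⟩ := h
    exact l.injective he ▸ hw
  intro y hy
  obtain ⟨y', hy'o, hy'F⟩ := hmeet y hy
  have hy' := orb_subset_rest hy.1 hy.2 hy'o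
  suffices y' ∈ C.orb a b c' by
    rw [← orb_eq_of_mem this, orb_eq_of_mem hy'o]; exact mem_orb_self _ _ _
  by_cases h3 : (fixSet T).ncard = 3
  · suffices y' = c' by rw [this]; exact mem_orb_self _ _ _
    have hsub : ({a, b, c'} : Set Ω) = fixSet T :=
      Set.eq_of_subset_of_ncard_le (by rintro x (rfl | rfl | rfl) <;> assumption)
        (by rw [h3, Set.ncard_eq_three.2 ⟨a, b, c', hab, hc'.1.symm, hc'.2.symm, rfl⟩]) (Set.toFinite _)
    rw [← hsub] at hy'F
    rcases hy'F with h | h | h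
    · exact absurd h hy'.1
    · exact absurd h hy'.2
    · exact h
  have hF3 : 3 < (fixSet T).ncard := by
    have hge : ({a, b} : Set Ω).ncard ≤ (fixSet T).ncard :=
      Set.ncard_le_ncard (by rintro x (rfl | rfl) <;> assumption) (Set.toFinite _)
    rw [Set.ncard_pair hab] at hge
    obtain ⟨k, hk⟩ := hFodd
    omega
  have hTle : T ≤ C.st3 a b c' := fun t ht =>
    C.mem_st3.2 ⟨(C.mem_st2.1 (hT.1 ht)).1, (C.mem_st2.1 (hT.1 ht)).2.1, (C.mem_st2.1 (hT.1 ht)).2.2, hc'F t ht⟩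
  have hT3 : IsFull 2 T (C.st3 a b c') := by
    refine ⟨hTle, ?_⟩
    have h1 := ncard_orb_mul (C := C) a b c'
    have h2 : ¬ 2 ∣ (C.orb a b c').ncard := hm c' hc'
    rw [hT.2, ← h1, Nat.factorization_mul (fun h => h2 (by rw [h]; exact dvd_zero 2)) Nat.card_pos.ne',
      Finsupp.add_apply, Nat.factorization_eq_zero_of_not_dvd h2, zero_add]
  obtain ⟨C', hG, hLle⟩ := exists_sub (threeFix_of_full hab hc'.1.symm hc'.2.symm hT3) hF3
    (fun k hk => by
      rcases Nat.eq_zero_or_pos k with rfl | hk0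
      · rw [pow_zero] at hk; omega
      · exact Nat.not_even_iff_odd.2 hFodd (hk ▸ (Nat.even_pow.2 ⟨even_two, hk0.ne'⟩)))
    (by
      obtain ⟨l, hl, hln, hla, -⟩ := twoFix_of_full hab hT ha hb hb ha hab hab.symm
      exact ⟨l, hl, hln, a, ha, fun h => hab (h.symm.trans hla)⟩)
  have hodd' : ∀ x y : fixSet T, x ≠ y → Odd (Nat.card (C'.st2 x y)) := fun x y hxy => by
    rw [card_st2_eq (C := C') hxy
      (show (⟨a, ha⟩ : fixSet T) ≠ ⟨b, hb⟩ from fun h => hab (congrArg Subtype.val h))]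
    exact odd_st2_sub (C := C) hT ha hb hLle
  have hW := whole_of_odd_stab (C := C') (by rwa [Nat.card_coe_set_eq])
    (by rwa [Nat.card_coe_set_eq]) hodd'
  have hsub := @mem_orb_of_sub _ C T C' hLle ⟨a, ha⟩ ⟨b, hb⟩ ⟨c', hc'F⟩ ⟨y', hy'F⟩
  exact hsub (hW ⟨a, ha⟩ ⟨b, hb⟩ ⟨c', hc'F⟩ ⟨y', hy'F⟩
    (fun h => hab (congrArg Subtype.val h))
    ⟨fun h => hc'.1 (congrArg Subtype.val h), fun h => hc'.2 (congrArg Subtype.val h)⟩
    ⟨fun h => hy'.1 (congrArg Subtype.val h), fun h => hy'.2 (congrArg Subtype.val h)⟩)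

end Ctx

end CfsgLib.TripleNormal
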