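import Cfsg.Agent.Lib.TripleNormal.Zass
import Cfsg.Agent.Lib.TwoGroups.DihedralSylowPSL
import Cfsg.Agent.Lib.PF.OddOrder

/-!
# Even degree divisible by three, odd two-point stabiliser

Here the point stabiliser of `L` has odd order, hence is solvable, and `L` is `PSL₂(K)` in its
natural action with `|K| + 1` points.
-/

set_option autoImplicit false

open Equiv Subgroup

namespace CfsgLib.TripleNormal

universe u

variable {Ω : Type u} [Finite Ω] {C : Ctx Ω}

theorem pow_add_one_eq {r : ℕ} (hr : Odd r) (j : ℕ) :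
    ∃ m, Odd m ∧ r ^ (2 * j + 1) + 1 = (r + 1) * m := by
  induction j with
  | zero => exact ⟨1, odd_one, by simp⟩
  | succ j ih =>
    obtain ⟨m, hm, he⟩ := ih
    have h1 : 1 ≤ m := hm.pos
    have hr1 : 1 ≤ r := hr.pos
    have hle : r - 1 ≤ r ^ 2 * m := by
      calc r - 1 ≤ r := Nat.sub_le _ _
        _ ≤ r ^ 2 * m := by nlinarith
    have hodd : Odd (r ^ 2 * m - (r - 1)) :=
      Nat.Odd.sub_even hle ((hr.pow).mul hm) (Nat.Odd.sub_odd hr odd_one)
    refine ⟨r ^ 2 * m - (r - 1), hodd, ?_⟩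
    obtain ⟨s, rfl⟩ : ∃ s, r = s + 1 := ⟨r - 1, by omega⟩
    simp only [Nat.add_sub_cancel] at hle ⊢
    zify [hle]
    have he' : ((s : ℤ) + 1) ^ (2 * j + 1) + 1 = ((s : ℤ) + 1 + 1) * m := by exact_mod_cast he
    rw [show 2 * (j + 1) + 1 = 2 * j + 1 + 2 by ring, pow_add]
    linear_combination ((s : ℤ) + 1) ^ 2 * he'

theorem two_part_pow_add_one {r d : ℕ} (hr : Odd r) (hd : Odd d) :
    (r ^ d + 1).factorization 2 = (r + 1).factorization 2 := by
  obtain ⟨j, rfl⟩ := hd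
  obtain ⟨m, hm, he⟩ := pow_add_one_eq hr j
  have : ¬ 2 ∣ m := by rw [← even_iff_two_dvd]; exact Nat.not_even_iff_odd.2 hm
  rw [he, Nat.factorization_mul (by omega) hm.pos.ne', Finsupp.add_apply,
    Nat.factorization_eq_zero_of_not_dvd this, add_zero]

/-- All elements of odd order: odd order. -/
theorem odd_card_of_forall {X : Type u} [Group X] [Finite X] (h : ∀ x : X, Odd (orderOf x)) :
    Odd (Nat.card X) := by
  haveI := Fact.mk Nat.prime_two
  rw [← Nat.not_even_iff_odd, even_iff_two_dvd]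
  intro h2
  obtain ⟨x, hx⟩ := exists_prime_orderOf_dvd_card' (G := X) 2 h2
  have := h x
  rw [hx] at this
  exact absurd this (by decide)

/-- Dihedral Sylow 2-subgroups of `PSL₂(q)`, `q ≡ 3 (mod 4)`. -/
theorem psl_sylow_dihedral {K : Type} [Field K] [Fintype K] (hK : Fintype.card K % 4 = 3)
    (S : Sylow 2 (Matrix.ProjectiveSpecialLinearGroup (Fin 2) K)) :
    ∃ n : ℕ, 2 ≤ n ∧
      Nonempty ((S : Subgroup (Matrix.ProjectiveSpecialLinearGroup (Fin 2) K)) ≃* DihedralGroup n) := by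
  have hodd : Odd (Fintype.card K) := by rw [Nat.odd_iff]; omega
  by_cases h8 : Fintype.card K % 8 = 3
  · haveI := CfsgLib.ClassicalGroups.SL2.psl_sylow_two_klein rfl (Or.inl h8) S
    exact ⟨2, le_rfl, IsKleinFour.nonempty_mulEquiv⟩
  · have h7 : Fintype.card K % 8 = 7 := by omega
    have h16 : 16 ∣ Fintype.card K ^ 2 - 1 := by
      obtain ⟨k, hk⟩ : ∃ k, Fintype.card K = 8 * k + 7 := ⟨Fintype.card K / 8, by omega⟩
      rw [hk, show (8 * k + 7) ^ 2 = 16 * (4 * k ^ 2 + 7 * k + 3) + 1 by ring, Nat.add_sub_cancel]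
      exact dvd_mul_right _ _
    obtain ⟨n, hn, he⟩ := CfsgLib.TwoGroups.DihedralSylowPSL.sylow_dihedral hodd h16 S
    exact ⟨n, by omega, he⟩

namespace Ctx

/-- The point stabiliser of `L` as a subgroup of the symmetric group. -/
def stab (C : Ctx Ω) (a : Ω) : Subgroup (Perm Ω) := C.L ⊓ MulAction.stabilizer (Perm Ω) a

omit [Finite Ω] in
theorem mem_stab {a : Ω} {x : Perm Ω} : x ∈ C.stab a ↔ x ∈ C.L ∧ x a = a := by
  simp [stab, Subgroup.mem_inf, MulAction.mem_stabilizer_iff]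

theorem card_stab {a b : Ω} (hab : a ≠ b) :
    Nat.card (C.stab a) = (Nat.card Ω - 1) * Nat.card (C.st2 a b) := by
  haveI : Nontrivial Ω := ⟨a, b, hab⟩
  haveI := C.isPretransitive
  have h1 := Subgroup.index_mul_card (MulAction.stabilizer C.L a)
  rw [MulAction.index_stabilizer_of_transitive, card_L (C := C) hab, mul_assoc] at h1
  have h2 := Nat.eq_of_mul_eq_mul_left Nat.card_pos h1
  rw [← h2]
  exact (Nat.card_eq_of_bijective
    (fun x : MulAction.stabilizer C.L a =>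
      (⟨((x : C.L) : Perm Ω), mem_stab.2 ⟨(x : C.L).2, x.2⟩⟩ : C.stab a))
    ⟨fun _ _ h => Subtype.ext (Subtype.ext (congrArg Subtype.val h :)),
      fun y => ⟨⟨⟨y, (mem_stab.1 y.2).1⟩, (mem_stab.1 y.2).2⟩, rfl⟩⟩).symm

omit [Finite Ω] in
theorem stab_norm {a : Ω} : ∀ g ∈ C.G, g a = a → ∀ x, x ∈ C.stab a ↔ g * x * g⁻¹ ∈ C.stab a := by
  intro g hg hga x
  have hga' : g⁻¹ a = a := Perm.inv_eq_iff_eq.2 hga.symm
  refine ⟨fun hx => mem_stab.2 ⟨C.norm g hg x (mem_stab.1 hx).1, ?_⟩, fun hx => ?_⟩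
  · rw [Perm.mul_apply, Perm.mul_apply, hga', (mem_stab.1 hx).2, hga]
  · obtain ⟨h1, h2⟩ := mem_stab.1 hx
    refine mem_stab.2 ⟨?_, ?_⟩
    · simpa [mul_assoc] using C.norm g⁻¹ (inv_mem hg) _ h1
    · simp only [Perm.mul_apply, hga'] at h2
      exact g.injective (h2.trans hga.symm)

theorem stab_ne_bot (hn : 2 ≤ Nat.card Ω) {a b : Ω} (hab : a ≠ b) : C.stab a ≠ ⊥ := fun h =>
  st2_ne_bot (C := C) hn hab (eq_bot_iff.2 fun _ hx =>
    h ▸ mem_stab.2 ⟨(C.mem_st2.1 hx).1, (C.mem_st2.1 hx).2.1⟩)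

/-- A point stabiliser of odd order is solvable and gives an affine structure. -/
theorem exists_aff_of_odd (hn : 3 < Nat.card Ω) (heven : Even (Nat.card Ω)) {a b : Ω} (hab : a ≠ b)
    (hodd : Odd (Nat.card (C.st2 a b))) : Nonempty (Aff C a) := by
  have hc : Odd (Nat.card (C.stab a)) := by
    rw [card_stab hab]
    exact (Nat.Even.sub_odd (by omega) heven odd_one).mul hodd
  exact exists_aff hn (C.stab a) inf_le_left (fun h hh => (mem_stab.1 hh).2)
    (stab_ne_bot (by omega) hab) (CfsgLib.PF.oddSolvable _ hc) stab_norm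

omit [Finite Ω] in
theorem mem_fixSet_st3_self (a b c : Ω) :
    a ∈ fixSet (C.st3 a b c) ∧ b ∈ fixSet (C.st3 a b c) ∧ c ∈ fixSet (C.st3 a b c) :=
  ⟨fun _ h => (C.mem_st3.1 h).2.1, fun _ h => (C.mem_st3.1 h).2.2.1,
    fun _ h => (C.mem_st3.1 h).2.2.2⟩

theorem st3_eq_of_fixed {a b c x y z : Ω} (hab : a ≠ b) (hac : a ≠ c) (hbc : b ≠ c)
    (hx : x ∈ fixSet (C.st3 a b c)) (hy : y ∈ fixSet (C.st3 a b c))
    (hz : z ∈ fixSet (C.st3 a b c)) (hxy : x ≠ y) (hxz : x ≠ z) (hyz : y ≠ z) :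
    C.st3 a b c = C.st3 x y z :=
  Subgroup.eq_of_le_of_card_ge
    (fun r hr => C.mem_st3.2 ⟨(C.mem_st3.1 hr).1, hx r hr, hy r hr, hz r hr⟩)
    (card_st3_eq (C := C) hab hac hbc hxy hxz hyz).ge

theorem threeFix_st3 {a b c : Ω} (hab : a ≠ b) (hac : a ≠ c) (hbc : b ≠ c) :
    C.ThreeFix (C.st3 a b c) := by
  intro x y z x' y' z' hx hy hz hx' hy' hz' hxy hxz hyz hxy' hxz' hyz'
  obtain ⟨g, hg, hgx, hgy, hgz⟩ := C.three hxy hxz hyz hxy' hxz' hyz'
  refine ⟨g, hg, mem_normalizer_iff'.2 fun r => ⟨fun hr => ?_, fun hr => ?_⟩, hgx, hgy, hgz⟩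
  · have h1 := conj_mem_st3 (C := C) hg
      ((st3_eq_of_fixed hab hac hbc hx hy hz hxy hxz hyz).le hr)
    rw [hgx, hgy, hgz] at h1
    exact (st3_eq_of_fixed hab hac hbc hx' hy' hz' hxy' hxz' hyz').ge h1
  · have h1 := conj_mem_st3 (C := C) (inv_mem hg)
      ((st3_eq_of_fixed hab hac hbc hx' hy' hz' hxy' hxz' hyz').le hr)
    rw [Perm.inv_eq_iff_eq.2 hgx.symm, Perm.inv_eq_iff_eq.2 hgy.symm,
      Perm.inv_eq_iff_eq.2 hgz.symm] at h1
    have := (st3_eq_of_fixed hab hac hbc hx hy hz hxy hxz hyz).ge h1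
    simpa [mul_assoc] using this

/-- If `L` moves a fixed point of `R` inside `N(R)`, a preimage gives a Sylow 2-subgroup of `L`
isomorphic to one of the group on the fixed set, provided the orders have the same 2-part and the
kernel is odd. -/
theorem exists_sylow_iso {R : Subgroup (Perm Ω)} {C' : Ctx (fixSet R)}
    (hle : C'.L ≤ resImage R C.L) (hker : ∀ g ∈ C.L, (∀ x ∈ fixSet R, g x = x) → g ∈ R)
    (hR : Odd (Nat.card R))
    (h2 : (Nat.card C.L).factorization 2 = (Nat.card C'.L).factorization 2) :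
    ∃ (S : Sylow 2 C.L) (S' : Sylow 2 C'.L),
      Nonempty ((S : Subgroup C.L) ≃* (S' : Subgroup C'.L)) := by
  haveI := Fact.mk Nat.prime_two
  let N := (Subgroup.normalizer (R : Set (Perm Ω))).subgroupOf C.L
  let g : N →* Perm (fixSet R) := (resHom R).comp
    { toFun := fun x => ⟨((x : C.L) : Perm Ω), x.2⟩
      map_one' := rfl
      map_mul' := fun _ _ => rfl }
  let f := g.subgroupComap C'.L
  have hf : Function.Surjective f := by
    rintro ⟨σ, hσ⟩
    obtain ⟨l, hl, hln, hls⟩ := mem_resImage.1 (hle hσ)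
    have he : g ⟨⟨l, hl⟩, hln⟩ = σ := Equiv.ext fun x => Subtype.ext (hls x).symm
    exact ⟨⟨⟨⟨l, hl⟩, hln⟩, by show g _ ∈ C'.L; rw [he]; exact hσ⟩, Subtype.ext he⟩
  obtain ⟨P⟩ : Nonempty (Sylow 2 (C'.L.comap g)) := inferInstance
  let S' := P.mapSurjective hf
  have hinj : Function.Injective (f.comp (P : Subgroup (C'.L.comap g)).subtype) := by
    rw [injective_iff_map_eq_one]
    intro x hx
    obtain ⟨k, hk⟩ := P.2 x
    have hxR : ((((x : C'.L.comap g) : N) : C.L) : Perm Ω) ∈ R := by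
      refine hker _ (((x : C'.L.comap g) : N) : C.L).2 fun y hy => ?_
      exact congrArg Subtype.val (Equiv.ext_iff.1 (congrArg Subtype.val hx) ⟨y, hy⟩)
    have hkk : ((((x : C'.L.comap g) : N) : C.L) : Perm Ω) ^ 2 ^ k = 1 := by
      simpa using congrArg (fun z : (P : Subgroup (C'.L.comap g)) =>
        ((((z : C'.L.comap g) : N) : C.L) : Perm Ω)) hk
    have h1 : orderOf ((((x : C'.L.comap g) : N) : C.L) : Perm Ω) ∣ 2 ^ k :=
      orderOf_dvd_of_pow_eq_one hkk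
    have h2 : orderOf ((((x : C'.L.comap g) : N) : C.L) : Perm Ω) ∣ Nat.card R :=
      Subgroup.orderOf_dvd_natCard _ hxR
    exact Subtype.ext (Subtype.ext (Subtype.ext (Subtype.ext (orderOf_eq_one_iff.1
      (Nat.eq_one_of_dvd_coprimes ((Nat.coprime_two_left.2 hR).pow_left k) h1 h2)))))
  let φ : (C'.L.comap g) →* C.L := (N.subtype).comp (C'.L.comap g).subtype
  have hφ : Function.Injective φ := fun x y h => Subtype.ext (Subtype.ext h)
  have hcardS' : Nat.card (P : Subgroup (C'.L.comap g)) = Nat.card (S' : Subgroup C'.L) := by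
    refine Nat.card_eq_of_bijective
      (fun x => ⟨f x, ⟨x, x.2, rfl⟩⟩) ⟨fun x y h => hinj (congrArg Subtype.val h :), ?_⟩
    rintro ⟨_, x, hx, rfl⟩
    exact ⟨⟨x, hx⟩, rfl⟩
  let S : Sylow 2 C.L := Sylow.ofCard ((P : Subgroup (C'.L.comap g)).map φ) (by
    rw [← Nat.card_congr ((P : Subgroup _).equivMapOfInjective φ hφ).toEquiv, hcardS',
      S'.card_eq_multiplicity, h2])
  let F₀ : (P : Subgroup (C'.L.comap g)) →* (S' : Subgroup C'.L) :=
    (f.comp (P : Subgroup (C'.L.comap g)).subtype).codRestrict (S' : Subgroup C'.L)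
      fun x => ⟨x, x.2, rfl⟩
  refine ⟨S, S', ⟨((P : Subgroup (C'.L.comap g)).equivMapOfInjective φ hφ).symm.trans
    (MulEquiv.ofBijective F₀ ⟨fun x y h => hinj (congrArg Subtype.val h :), ?_⟩)⟩⟩
  rintro ⟨_, x, hx, rfl⟩
  exact ⟨⟨x, hx⟩, rfl⟩

/-- Even degree divisible by three and odd two-point stabiliser. -/
theorem odd_stab (hn : 3 < Nat.card Ω) (heven : Even (Nat.card Ω)) (h3 : 3 ∣ Nat.card Ω)
    {a b : Ω} (hab : a ≠ b) (hodd : Odd (Nat.card (C.st2 a b))) :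
    C.Few ∧ ∃ (K : Type) (_ : Field K) (_ : Fintype K), Fintype.card K + 1 = Nat.card Ω ∧
      Nonempty (C.L ≃* Matrix.ProjectiveSpecialLinearGroup (Fin 2) K) := by
  classical
  obtain ⟨A⟩ := exists_aff_of_odd hn heven hab hodd
  have h4 := four_dvd_of_odd_stab (C := C) heven hn hab hodd
  have hcard := A.card_omega (by omega)
  haveI := A.nontrivial_vec (by omega)
  set e := Module.finrank (ZMod A.r) A.Vec with hedef
  have hmod4 : A.r ^ e % 4 = 3 := by omega
  have hrodd : Odd A.r := by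
    rcases A.prime.eq_two_or_odd' with h | h
    · exfalso
      have h2 : 2 ∣ A.r ^ e ∨ e = 0 := by
        rcases Nat.eq_zero_or_pos e with h0 | h0
        · exact Or.inr h0
        · exact Or.inl (by rw [h]; exact dvd_pow_self 2 h0.ne')
      rcases h2 with h2 | h2
      · omega
      · rw [h2, pow_zero] at hcard; omega
    · exact h
  have he_odd : Odd e := by
    rw [← Nat.not_even_iff_odd]
    rintro ⟨k, hk⟩
    obtain ⟨j, hj⟩ := hrodd
    rw [hk, ← two_mul, pow_mul, hj, show (2 * j + 1) ^ 2 = 4 * (j ^ 2 + j) + 1 by ring,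
      Nat.pow_mod, Nat.mul_add_mod_self_left] at hmod4
    norm_num at hmod4
  have hr3 : A.r % 3 = 2 := by
    obtain ⟨k, hk⟩ := he_odd
    have h : (A.r ^ e + 1) % 3 = 0 := by rw [← hcard]; exact Nat.dvd_iff_mod_eq_zero.1 h3
    rw [hk, pow_succ, pow_mul, Nat.add_mod, Nat.mul_mod, Nat.pow_mod, Nat.pow_mod A.r] at h
    rcases (by omega : A.r % 3 = 0 ∨ A.r % 3 = 1 ∨ A.r % 3 = 2) with h' | h' | h'
    · rw [h'] at h; norm_num at h
    · rw [h'] at h; norm_num at h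
    · exact h'
  have hr5 : 5 ≤ A.r := by
    obtain ⟨j, hj⟩ := hrodd
    omega
  have hr4 : A.r % 4 = 3 := by
    obtain ⟨k, hk⟩ := he_odd
    obtain ⟨j, hj⟩ := hrodd
    rw [hk, pow_succ, pow_mul, Nat.mul_mod, Nat.pow_mod, hj,
      show (2 * j + 1) ^ 2 = 4 * (j ^ 2 + j) + 1 by ring, Nat.mul_add_mod_self_left] at hmod4
    norm_num at hmod4
    omega
  set G₂ := C.gst2 a b
  set R := (C.st2 a b).subgroupOf G₂ with hR
  have hRs : Group.IsSolvable R := CfsgLib.PF.oddSolvable R (by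
    rw [Nat.card_congr (Subgroup.subgroupOfEquivOfLe (st2_le_gst2 (C := C) a b)).toEquiv]
    exact hodd)
  suffices hsemi : ∀ x ∈ R, ∀ v : A.Vec, v ≠ 0 → A.rep b x v = v → x = 1 by
    obtain ⟨h1, -, h2⟩ :=
      A.psl_of_semiregular hn heven hab (fun hxy hxz hyz => A.st3_eq_bot hab hsemi hxy hxz hyz) hodd
    exact ⟨h1, h2⟩
  rcases Linear.semiregular_or_semilinear (A.rep_injective hab) (A.rep_trans hab)
      (fun h => by omega) he_odd R (st2_normal a b) hRs with h | ⟨F, _, _, ee, hs⟩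
  · exact h
  by_contra hnot
  push Not at hnot
  obtain ⟨x, hxR, v, hv, hxv, hx1⟩ := hnot
  have he3 : 3 ≤ e := by
    by_contra h
    have he1 : e = 1 := by obtain ⟨k, hk⟩ := he_odd; omega
    refine hx1 (A.rep_injective hab ?_)
    rw [map_one]
    refine LinearEquiv.ext fun w => ?_
    obtain ⟨c, rfl⟩ := exists_smul_eq_of_finrank_eq_one he1 hv w
    rw [map_smul, hxv]; rfl
  set c := A.pt b v with hc
  have hac : a ≠ c := (A.pt_ne hab v).symm
  have hbc : b ≠ c := fun h => hv (A.pt_injective hab ((A.pt_zero b).trans h)).symm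
  set R3 := C.st3 a b c with hR3
  obtain ⟨hFa, hFb, hFc⟩ := mem_fixSet_st3_self (C := C) a b c
  -- the fixed set
  let S : Set G₂ := {g | (g : Perm Ω) ∈ R3}
  obtain ⟨d, hde, hd⟩ := Linear.card_fixed (ρ := A.rep b) (e := ee) hs S hv
    fun s hs' => (A.rep_fix_iff hab s v).2 (hFc _ hs')
  have hFeq : fixSet R3 = insert a (A.pt b '' {w | ∀ s ∈ S, A.rep b s w = w}) := by
    ext y
    constructor
    · intro hy
      by_cases hya : y = a
      · exact Or.inl hya
      · obtain ⟨w, rfl⟩ := A.exists_pt hab hya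
        exact Or.inr ⟨w, fun s hs' => (A.rep_fix_iff hab s w).2 (hy _ hs'), rfl⟩
    · rintro (rfl | ⟨w, hw, rfl⟩)
      · exact hFa
      · intro r hr
        have hmem : r ∈ G₂ := mem_gst2.2
          ⟨C.le (C.mem_st3.1 hr).1, (C.mem_st3.1 hr).2.1, (C.mem_st3.1 hr).2.2.1⟩
        exact (A.rep_fix_iff hab ⟨r, hmem⟩ w).1 (hw ⟨r, hmem⟩ hr)
  have hFcard : (fixSet R3).ncard = A.r ^ d + 1 := by
    rw [hFeq, Set.ncard_insert_of_notMem ?_ (Set.toFinite _),
      Set.ncard_image_of_injective _ (A.pt_injective hab), hd]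
    rintro ⟨w, -, hw⟩
    exact A.pt_ne hab w hw
  have hd_odd : Odd d := he_odd.of_dvd_nat hde
  have hF3 : 3 ∣ (fixSet R3).ncard := by
    obtain ⟨k, rfl⟩ := hd_odd
    rw [hFcard, Nat.dvd_iff_mod_eq_zero, pow_succ, pow_mul, Nat.add_mod, Nat.mul_mod,
      Nat.pow_mod, Nat.pow_mod A.r, hr3]
    norm_num
  have hFbig : 3 < (fixSet R3).ncard := by
    rw [hFcard]
    have : A.r ≤ A.r ^ d := Nat.le_self_pow hd_odd.pos.ne' _
    omega
  have hFeven : Even (fixSet R3).ncard := by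
    rw [hFcard]; exact (hrodd.pow).add_one
  have hFpow : ∀ k, (fixSet R3).ncard ≠ 2 ^ k := fun k hk => by
    rw [hk] at hF3
    have := Nat.prime_three.dvd_of_dvd_pow hF3
    omega
  obtain ⟨l, hl, hla, hlb, hlc⟩ := exists_cycle (C := C) h3 hab hac hbc
  have hln : l ∈ Subgroup.normalizer (R3 : Set (Perm Ω)) := by
    have hperm : ∀ r, r ∈ R3 ↔ r ∈ C.st3 b c a := fun r => by
      rw [hR3, C.mem_st3, C.mem_st3]; tauto
    refine mem_normalizer_iff'.2 fun r => ⟨fun hr => ?_, fun hr => ?_⟩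
    · have h1 := conj_mem_st3 (C := C) (C.le hl) hr
      rw [hla, hlb, hlc] at h1
      exact (hperm _).2 h1
    · have h1 := conj_mem_st3 (C := C) (inv_mem (C.le hl)) ((hperm _).1 hr)
      rw [Perm.inv_eq_iff_eq.2 hla.symm, Perm.inv_eq_iff_eq.2 hlb.symm,
        Perm.inv_eq_iff_eq.2 hlc.symm] at h1
      simpa [mul_assoc] using h1
  obtain ⟨C', -, hC'⟩ := exists_sub (C := C) (threeFix_st3 hab hac hbc) hFbig hFpow
    ⟨l, hl, hln, a, hFa, by rw [hla]; exact hab.symm⟩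
  have hFn : Nat.card (fixSet R3) = (fixSet R3).ncard := Nat.card_coe_set_eq _
  let a' : fixSet R3 := ⟨a, hFa⟩
  let b' : fixSet R3 := ⟨b, hFb⟩
  have hab' : a' ≠ b' := fun h => hab (congrArg Subtype.val h)
  have hst2' : Odd (Nat.card (C'.st2 a' b')) := by
    refine odd_card_of_forall fun σ => ?_
    obtain ⟨hσ, hσa, hσb⟩ := C'.mem_st2.1 σ.2
    obtain ⟨g, hg, hgn, hgs⟩ := mem_resImage.1 (hC' hσ)
    have hga : g a = a := ((hgs a').symm.trans (congrArg Subtype.val hσa) :)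
    have hgb : g b = b := ((hgs b').symm.trans (congrArg Subtype.val hσb) :)
    have hgst : g ∈ C.st2 a b := C.mem_st2.2 ⟨hg, hga, hgb⟩
    have hres : (σ : Perm (fixSet R3)) = resHom R3 ⟨g, hgn⟩ :=
      Equiv.ext fun y => Subtype.ext (hgs y)
    refine hodd.of_dvd_nat (Dvd.dvd.trans ?_ (Subgroup.orderOf_dvd_natCard _ hgst))
    rw [← Subgroup.orderOf_coe σ, hres]
    have := orderOf_map_dvd (resHom R3) ⟨g, hgn⟩
    rwa [Subgroup.orderOf_mk] at this
  have hst3' : ∀ {p q t : fixSet R3}, p ≠ q → p ≠ t → q ≠ t → C'.st3 p q t = ⊥ := by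
    intro p q t hpq hpt hqt
    rw [eq_bot_iff]
    intro σ hσ
    obtain ⟨hσL, hp, hq, ht⟩ := C'.mem_st3.1 hσ
    obtain ⟨g, hg, -, hgs⟩ := mem_resImage.1 (hC' hσL)
    have hgR : g ∈ R3 := by
      rw [hR3, st3_eq_of_fixed hab hac hbc p.2 q.2 t.2 (fun h => hpq (Subtype.ext h))
        (fun h => hpt (Subtype.ext h)) (fun h => hqt (Subtype.ext h))]
      exact C.mem_st3.2 ⟨hg, (hgs p).symm.trans (congrArg Subtype.val hp),
        (hgs q).symm.trans (congrArg Subtype.val hq), (hgs t).symm.trans (congrArg Subtype.val ht)⟩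
    exact Subgroup.mem_bot.2 (Equiv.ext fun y => Subtype.ext ((hgs y).trans (y.2 g hgR)))
  obtain ⟨A'⟩ := exists_aff_of_odd (C := C') (by rwa [hFn]) (by rwa [hFn]) hab' hst2'
  obtain ⟨-, -, K, _, _, hK, ⟨f⟩⟩ :=
    A'.psl_of_semiregular (by rwa [hFn]) (by rwa [hFn]) hab' hst3' hst2'
  rw [hFn, hFcard] at hK
  -- 2-parts
  have h2part : ∀ {Ω' : Type u} [Finite Ω'] (D : Ctx Ω') {p q : Ω'} (_ : p ≠ q),
      Odd (Nat.card (D.st2 p q)) → Even (Nat.card Ω') → 2 ≤ Nat.card Ω' →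
      (Nat.card D.L).factorization 2 = (Nat.card Ω').factorization 2 := by
    intro Ω' _ D p q hpq ho he' h2'
    have hm : Odd ((Nat.card Ω' - 1) * Nat.card (D.st2 p q)) :=
      (Nat.Even.sub_odd (by omega) he' odd_one).mul ho
    have hz : ((Nat.card Ω' - 1) * Nat.card (D.st2 p q)).factorization 2 = 0 :=
      Nat.factorization_eq_zero_of_not_dvd
        (by rw [← even_iff_two_dvd]; exact Nat.not_even_iff_odd.2 hm)
    rw [card_L (C := D) hpq, mul_assoc, Nat.factorization_mul (by omega) hm.pos.ne',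
      Finsupp.add_apply, hz, add_zero]
  obtain ⟨S, S', ⟨φ⟩⟩ := exists_sylow_iso (C := C) hC' (fun g hg hfix =>
      C.mem_st3.2 ⟨hg, hfix a hFa, hfix b hFb, hfix c hFc⟩)
    (hodd.of_dvd_nat (Subgroup.card_dvd_of_le (inf_le_left : C.st3 a b c ≤ C.st2 a b)))
    (by
      rw [h2part C hab hodd heven (by omega),
        h2part C' hab' hst2' (by rwa [hFn])
          ((show 2 ≤ 4 by norm_num).trans (show 3 < Nat.card (fixSet R3) by rwa [hFn])), hFn, hFcard, hcard,
        two_part_pow_add_one hrodd he_odd, two_part_pow_add_one hrodd hd_odd])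
  have hK4 : Fintype.card K % 4 = 3 := by
    obtain ⟨k, rfl⟩ := hd_odd
    obtain ⟨j, hj⟩ := hrodd
    have : A.r ^ (2 * k + 1) % 4 = 3 := by
      rw [pow_succ, pow_mul, Nat.mul_mod, Nat.pow_mod, Nat.pow_mod A.r, hr4]
      norm_num
    omega
  haveI := Fact.mk Nat.prime_two
  let T := S'.mapSurjective (f := f.toMonoidHom) f.surjective
  obtain ⟨k, hk, ⟨ψ⟩⟩ := psl_sylow_dihedral hK4 T
  let eT : (S' : Subgroup C'.L) ≃* (T : Subgroup (Matrix.ProjectiveSpecialLinearGroup (Fin 2) K)) :=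
    f.subgroupMap (S' : Subgroup C'.L)
  have hshape := shape_of_dihedral C.simple C.nc S hk ⟨φ.trans (eT.trans ψ)⟩
  exact hx1 (A.semiregular_of_shape (by omega) hr5 he3 hshape hab x hxR v hv hxv)

end Ctx

end CfsgLib.TripleNormal
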