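import Cfsg.Agent.Lib.ClassicalGroups.SL2

/-!
# Self-centralising elementary abelian subgroups of `PSL₂(q)` and `A₇`

In `PSL₂(q)`, `q` odd, a non-cyclic self-centralising elementary abelian subgroup of odd exponent
is a Sylow subgroup for the characteristic, and its normaliser is abelian modulo it.
-/

set_option autoImplicit false

open Subgroup Matrix
open scoped Pointwise MatrixGroups

namespace CfsgLib.TripleNormal.PSLFacts

variable (F : Type*) [Field F]

local notation "SL" => Matrix.SpecialLinearGroup (Fin 2) F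
local notation "PSL" => Matrix.ProjectiveSpecialLinearGroup (Fin 2) F

/-- The upper unitriangular subgroup of `SL₂`. -/
def uni : Subgroup SL where
  carrier := {A | A.1 1 0 = 0 ∧ A.1 0 0 = 1 ∧ A.1 1 1 = 1}
  one_mem' := by simp
  mul_mem' := by
    rintro A B ⟨a1, a2, a3⟩ ⟨b1, b2, b3⟩
    simp [Matrix.mul_apply, Fin.sum_univ_two, a1, a2, a3, b1, b2, b3]
  inv_mem' := by
    rintro A ⟨a1, a2, a3⟩
    simp [Matrix.SpecialLinearGroup.coe_inv, Matrix.adjugate_fin_two, a1, a2, a3]

variable {F}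

/-- Unitriangular matrices by their parameter. -/
def uEl (b : F) : SL := ⟨!![1, b; 0, 1], by simp [Matrix.det_fin_two]⟩

theorem uEl_mem (b : F) : uEl b ∈ uni F := ⟨rfl, rfl, rfl⟩

@[simp] theorem uEl_val (b : F) : (uEl b).1 = !![1, b; 0, 1] := rfl

theorem eq_uEl {A : SL} (hA : A ∈ uni F) : A = uEl (A.1 0 1) := by
  obtain ⟨a1, a2, a3⟩ := hA
  refine Subtype.ext ?_
  ext i j
  fin_cases i <;> fin_cases j <;> simp [uEl, a1, a2, a3]

theorem card_uni [Fintype F] : Nat.card (uni F) = Fintype.card F := by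
  rw [← Nat.card_eq_fintype_card]
  refine Nat.card_eq_of_bijective (fun A : uni F => A.1.1 0 1) ⟨fun A B h => ?_, fun b => ?_⟩
  · apply Subtype.ext
    rw [eq_uEl A.2, eq_uEl B.2]
    exact congrArg uEl h
  · exact ⟨⟨uEl b, uEl_mem b⟩, rfl⟩

theorem uni_comm {A B : SL} (hA : A ∈ uni F) (hB : B ∈ uni F) : A * B = B * A := by
  rw [eq_uEl hA, eq_uEl hB]
  refine Subtype.ext ?_
  ext i j
  fin_cases i <;> fin_cases j <;> simp [Matrix.SpecialLinearGroup.coe_mul, Matrix.mul_apply, Fin.sum_univ_two, add_comm]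

/-- A matrix normalising the unitriangular group modulo the centre is upper triangular. -/
theorem entry_eq_zero {A B Z : SL} (hB : B ∈ uni F) (hZ : Z ∈ center SL)
    (h : A * uEl 1 * A⁻¹ = B * Z) : A.1 1 0 = 0 := by
  obtain ⟨r, -, hr⟩ := Matrix.SpecialLinearGroup.mem_center_iff.1 hZ
  have hZ10 : Z.1 1 0 = 0 := by rw [← hr]; simp
  have hR : (B * Z).1 1 0 = 0 := by
    obtain ⟨b1, -, b3⟩ := hB
    simp [Matrix.mul_apply, Fin.sum_univ_two, b1, hZ10]
  have hL : (A * uEl 1 * A⁻¹).1 1 0 = -(A.1 1 0 * A.1 1 0) := by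
    simp [Matrix.SpecialLinearGroup.coe_mul, Matrix.mul_apply, Fin.sum_univ_two,
      Matrix.SpecialLinearGroup.coe_inv, Matrix.adjugate_fin_two]
    ring
  rw [h, hR] at hL
  exact mul_self_eq_zero.1 (neg_eq_zero.1 hL.symm)

/-- Commutators of upper triangular matrices are unitriangular. -/
theorem commutator_mem_uni {A B : SL} (hA : A.1 1 0 = 0) (hB : B.1 1 0 = 0) :
    A * B * A⁻¹ * B⁻¹ ∈ uni F := by
  have hdA : A.1 0 0 * A.1 1 1 = 1 := by
    have := A.2; rw [Matrix.det_fin_two, hA] at this; simpa using this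
  have hdB : B.1 0 0 * B.1 1 1 = 1 := by
    have := B.2; rw [Matrix.det_fin_two, hB] at this; simpa using this
  refine ⟨?_, ?_, ?_⟩ <;>
    simp [Matrix.mul_apply, Fin.sum_univ_two, Matrix.SpecialLinearGroup.coe_inv,
      Matrix.adjugate_fin_two, hA, hB]
  · linear_combination (B.1 0 0 * B.1 1 1) * hdA + hdB
  · linear_combination (B.1 0 0 * B.1 1 1) * hdA + hdB

theorem normalizer_facts [Fintype F] (hodd : Odd (Fintype.card F)) {r k : ℕ} (hr : r.Prime)
    (hr2 : r ≠ 2) (hk : 2 ≤ k) (W : Subgroup PSL) (hexp : ∀ w ∈ W, w ^ r = 1)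
    (hcard : Nat.card W = r ^ k) (hcen : centralizer (W : Set PSL) ≤ W) :
    Nat.card W = Fintype.card F ∧
      ∀ x ∈ normalizer (W : Set PSL), ∀ y ∈ normalizer (W : Set PSL), x * y * x⁻¹ * y⁻¹ ∈ W := by
  classical
  obtain ⟨p, hc⟩ := CharP.exists F
  obtain ⟨f, hp, hf⟩ := FiniteField.card F p
  haveI := Fact.mk hp
  haveI := Fact.mk hr
  have hWp : IsPGroup r W := IsPGroup.of_card hcard
  let π : SL →* PSL := QuotientGroup.mk' _
  have hπ : Function.Surjective π := QuotientGroup.mk'_surjective _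
  by_cases hrp : r = p
  swap
  · exfalso
    obtain ⟨R, hR⟩ := hWp.exists_le_sylow
    obtain ⟨R', rfl⟩ := Sylow.mapSurjective_surjective hπ r R
    haveI := CfsgLib.ClassicalGroups.SL2.isCyclic_sylow_odd (F := F) p r hr2 hrp R'
    rw [Sylow.coe_mapSurjective] at hR
    haveI : IsCyclic ((R' : Subgroup SL).map π) :=
      isCyclic_of_surjective (π.subgroupMap R') (π.subgroupMap_surjective R')
    haveI : IsCyclic W :=
      isCyclic_of_injective (Subgroup.inclusion hR) (Subgroup.inclusion_injective hR)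
    obtain ⟨g, hg⟩ := IsCyclic.exists_generator (α := W)
    have h1 : orderOf g = r ^ k := by rw [orderOf_eq_card_of_forall_mem_zpowers hg, hcard]
    have h2 : orderOf g ∣ r := orderOf_dvd_of_pow_eq_one (Subtype.ext (by simpa using hexp g g.2))
    rw [h1] at h2
    have h3 := Nat.le_of_dvd hr.pos h2
    have h4 : r ^ 2 ≤ r ^ k := Nat.pow_le_pow_right hr.pos hk
    have h5 := hr.two_le
    nlinarith
  subst hrp
  have hUcard : Nat.card (uni F) = r ^ (f : ℕ) := by rw [card_uni, hf]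
  have hUfac : Nat.card (uni F) = r ^ (Nat.card SL).factorization r := by
    rw [hUcard, CfsgLib.ClassicalGroups.slTwo_card, hf]
    have hs2 : 2 ≤ r ^ (f : ℕ) := le_trans hr.two_le (Nat.le_self_pow f.pos.ne' r)
    have hd : r ∣ r ^ (f : ℕ) := dvd_pow_self r f.pos.ne'
    have h1 : ¬ r ∣ (r ^ (f : ℕ) - 1) := fun h => hr.not_dvd_one (by
      have := Nat.dvd_sub hd h
      rwa [Nat.sub_sub_self (by omega : 1 ≤ r ^ (f : ℕ))] at this)
    have h2 : ¬ r ∣ (r ^ (f : ℕ) + 1) := fun h => hr.not_dvd_one ((Nat.dvd_add_right hd).1 h)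
    rw [Nat.factorization_mul (Nat.mul_ne_zero (by omega) (by omega)) (by omega),
      Nat.factorization_mul (by omega) (by omega), Finsupp.add_apply, Finsupp.add_apply,
      Nat.factorization_eq_zero_of_not_dvd h1, Nat.factorization_eq_zero_of_not_dvd h2,
      hr.factorization_pow]
    simp
  let P : Sylow r PSL := (Sylow.ofCard (uni F) hUfac).mapSurjective hπ
  let U : Subgroup PSL := (uni F).map π
  have hPU : (P : Subgroup PSL) = U := rfl
  have hUc : ∀ x ∈ U, ∀ y ∈ U, x * y = y * x := by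
    rintro _ ⟨A, hA, rfl⟩ _ ⟨B, hB, rfl⟩
    rw [← map_mul, ← map_mul, uni_comm hA hB]
  obtain ⟨Q, hWQ⟩ := hWp.exists_le_sylow
  obtain ⟨g, hg⟩ := MulAction.exists_smul_eq PSL Q P
  have hmem : ∀ x, x ∈ (Q : Subgroup PSL) ↔ g * x * g⁻¹ ∈ U := by
    intro x
    rw [← hPU, ← hg, Sylow.coe_subgroup_smul]
    show x ∈ (Q : Subgroup PSL) ↔ MulAut.conj g • x ∈ MulAut.conj g • (Q : Subgroup PSL)
    exact Subgroup.smul_mem_pointwise_smul_iff.symm
  have hQc : ∀ x ∈ (Q : Subgroup PSL), ∀ y ∈ (Q : Subgroup PSL), x * y = y * x := by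
    intro x hx y hy
    have := hUc _ ((hmem x).1 hx) _ ((hmem y).1 hy)
    have h' : g * (x * y) * g⁻¹ = g * (y * x) * g⁻¹ := by
      calc g * (x * y) * g⁻¹ = g * x * g⁻¹ * (g * y * g⁻¹) := by group
        _ = g * y * g⁻¹ * (g * x * g⁻¹) := this
        _ = g * (y * x) * g⁻¹ := by group
    exact mul_left_cancel (mul_right_cancel h')
  have hWeq : W = (Q : Subgroup PSL) :=
    le_antisymm hWQ fun x hx => hcen (mem_centralizer_iff.2 fun w hw => hQc w (hWQ hw) x hx)
  refine ⟨?_, fun x hx y hy => ?_⟩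
  · rw [hWeq, Sylow.card_eq_multiplicity Q, ← Sylow.card_eq_multiplicity P, hPU, hf, ← hUcard]
    refine (Nat.card_congr (Equiv.ofBijective (π.subgroupMap (uni F))
      ⟨?_, π.subgroupMap_surjective _⟩)).symm
    rw [injective_iff_map_eq_one]
    intro A hA
    have hA' : (A : SL) ∈ center SL := (QuotientGroup.eq_one_iff _).1 (congrArg Subtype.val hA)
    obtain ⟨r', -, hr'⟩ := Matrix.SpecialLinearGroup.mem_center_iff.1 hA'
    refine Subtype.ext ?_
    show (A : SL) = 1
    have h01 : (A : SL).1 0 1 = 0 := by rw [← hr']; simp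
    rw [eq_uEl A.2, h01]
    refine Subtype.ext ?_
    ext i j
    fin_cases i <;> fin_cases j <;> simp [uEl]
  -- normalisers are upper triangular
  have key : ∀ z ∈ normalizer (W : Set PSL), ∃ A : SL, A.1 1 0 = 0 ∧ π A = g * z * g⁻¹ := by
    intro z hz
    obtain ⟨A, hA⟩ := hπ (g * z * g⁻¹)
    refine ⟨A, ?_, hA⟩
    have hu : g⁻¹ * π (uEl 1) * g ∈ W := by
      rw [hWeq, hmem]
      rw [show g * (g⁻¹ * π (uEl 1) * g) * g⁻¹ = π (uEl 1) by group]
      exact ⟨uEl 1, uEl_mem 1, rfl⟩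
    have hz' := (Subgroup.mem_normalizer_iff.1 hz _).1 hu
    rw [hWeq, hmem] at hz'
    obtain ⟨B, hB, hBe⟩ := hz'
    have he : π B = π (A * uEl 1 * A⁻¹) := by
      rw [hBe, map_mul, map_mul, map_inv, hA]
      group
    refine entry_eq_zero (Z := B⁻¹ * (A * uEl 1 * A⁻¹)) hB ?_ (mul_inv_cancel_left B _).symm
    exact QuotientGroup.eq.1 he
  obtain ⟨A, hA0, hA⟩ := key x hx
  obtain ⟨B, hB0, hB⟩ := key y hy
  rw [hWeq, hmem]
  refine ⟨A * B * A⁻¹ * B⁻¹, commutator_mem_uni hA0 hB0, ?_⟩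
  rw [map_mul, map_mul, map_mul, map_inv, map_inv, hA, hB]
  group

/-- The same facts for a group isomorphic to `PSL₂` or to `A₇`. -/
theorem facts_of_shape {X : Type*} [Group X] [Finite X] {r k : ℕ} (hr : r.Prime) (hr5 : 5 ≤ r)
    (hk : 3 ≤ k) (W : Subgroup X) (hexp : ∀ w ∈ W, w ^ r = 1) (hcard : Nat.card W = r ^ k)
    (hcen : centralizer (W : Set X) ≤ W)
    (hshape : (∃ (K : Type) (_ : Field K) (_ : Fintype K), Odd (Fintype.card K) ∧
        Nonempty (X ≃* Matrix.ProjectiveSpecialLinearGroup (Fin 2) K)) ∨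
      Nonempty (X ≃* alternatingGroup (Fin 7))) :
    ∀ x ∈ normalizer (W : Set X), ∀ y ∈ normalizer (W : Set X), x * y * x⁻¹ * y⁻¹ ∈ W := by
  rcases hshape with ⟨K, _, _, hodd, ⟨e⟩⟩ | he
  · let W' := W.map e.toMonoidHom
    have hmem : ∀ z, e z ∈ W' ↔ z ∈ W := fun z =>
      Subgroup.mem_map_equiv.trans (by rw [e.symm_apply_apply])
    have h := normalizer_facts hodd hr (by omega) (by omega : 2 ≤ k) W'
      (fun w hw => by
        obtain ⟨z, hz, rfl⟩ := hw
        rw [← map_pow, hexp z hz, map_one])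
      (by rw [← Nat.card_congr (W.equivMapOfInjective e.toMonoidHom e.injective).toEquiv, hcard])
      (fun z hz => by
        obtain ⟨z', rfl⟩ := e.surjective z
        rw [hmem]
        refine hcen (mem_centralizer_iff.2 fun w hw => e.injective ?_)
        rw [map_mul, map_mul]
        exact mem_centralizer_iff.1 hz (e w) ((hmem w).2 hw))
    have hn : ∀ z ∈ normalizer (W : Set X), e z ∈ normalizer (W' : Set _) := by
      intro z hz
      rw [Subgroup.mem_normalizer_iff]
      intro w'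
      obtain ⟨w, rfl⟩ := e.surjective w'
      rw [← map_inv, ← map_mul, ← map_mul, hmem, hmem]
      exact Subgroup.mem_normalizer_iff.1 hz w
    intro x hx y hy
    rw [← hmem, map_mul, map_mul, map_mul, map_inv, map_inv]
    exact h.2 _ (hn x hx) _ (hn y hy)
  · obtain ⟨e⟩ := he
    exfalso
    have h1 : r ^ k ∣ Nat.card X := hcard ▸ Subgroup.card_subgroup_dvd_card W
    rw [Nat.card_congr e.toEquiv, nat_card_alternatingGroup, Nat.card_fin] at h1
    have h2 : r ^ 3 ∣ 2520 := (pow_dvd_pow r hk).trans (by rwa [show Nat.factorial 7 / 2 = 2520 by decide] at h1)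
    have hr7 : r ∣ 2520 := (dvd_pow_self r (by norm_num)).trans h2
    have : r = 5 ∨ r = 7 := by
      have hle : r ≤ 7 := by
        by_contra hgt
        push Not at hgt
        have hcop : r.Coprime (2 ^ 3 * 3 ^ 2 * 5 * 7) := by
          refine Nat.Coprime.mul_right (Nat.Coprime.mul_right (Nat.Coprime.mul_right
            (Nat.Coprime.pow_right _ ?_) (Nat.Coprime.pow_right _ ?_)) ?_) ?_ <;>
          · refine (Nat.coprime_primes hr (by norm_num)).2 ?_; omega
        exact hr.ne_one (Nat.eq_one_of_dvd_coprimes hcop dvd_rfl (by norm_num; exact hr7))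
      interval_cases r <;> first | omega | (exfalso; revert hr; norm_num)
    rcases this with rfl | rfl <;> norm_num at h2

end CfsgLib.TripleNormal.PSLFacts
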