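import Cfsg.Agent.Lib.TripleNormal.Semilinear
import Cfsg.Agent.Lib.TripleNormal.PSLFacts
import Cfsg.Agent.S0680

/-!
# The linear representation of a two-point stabiliser

When a point stabiliser has an abelian regular normal subgroup `W`, the two-point stabiliser of `G`
acts linearly on `W`, transitively on the nonzero vectors.
-/

set_option autoImplicit false

open Equiv Subgroup

namespace CfsgLib.TripleNormal

universe u

variable {Ω : Type u} {C : Ctx Ω}

namespace Ctx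

/-- Stabiliser in `G` of two points. -/
def gst2 (C : Ctx Ω) (a b : Ω) : Subgroup (Perm Ω) :=
  C.G ⊓ MulAction.stabilizer (Perm Ω) a ⊓ MulAction.stabilizer (Perm Ω) b

theorem mem_gst2 {a b : Ω} {x : Perm Ω} : x ∈ C.gst2 a b ↔ x ∈ C.G ∧ x a = a ∧ x b = b := by
  simp [gst2, Subgroup.mem_inf, MulAction.mem_stabilizer_iff, and_assoc]

theorem st2_le_gst2 (a b : Ω) : C.st2 a b ≤ C.gst2 a b := fun x hx =>
  mem_gst2.2 ⟨C.le (C.mem_st2.1 hx).1, (C.mem_st2.1 hx).2.1, (C.mem_st2.1 hx).2.2⟩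

theorem st2_normal (a b : Ω) : ((C.st2 a b).subgroupOf (C.gst2 a b)).Normal := by
  refine ⟨fun x hx g => ?_⟩
  obtain ⟨hg, hga, hgb⟩ := mem_gst2.1 g.2
  have h := C.conj_mem_st2 hg hx
  rw [hga, hgb] at h
  exact h

/-- No two-point stabiliser of `L` is trivial. -/
theorem st2_ne_bot [Finite Ω] (hn : 2 ≤ Nat.card Ω) {a b : Ω} (hab : a ≠ b) : C.st2 a b ≠ ⊥ := by
  classical
  intro hbot
  have := Fintype.ofFinite Ω
  haveI := C.simple
  haveI : MulAction.IsMultiplyPretransitive C.L Ω 2 := by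
    rw [MulAction.is_two_pretransitive_iff]
    intro x y z w hxy hzw
    obtain ⟨l, hl, h1, h2⟩ := C.two hxy hzw
    exact ⟨⟨l, hl⟩, h1, h2⟩
  have hsharp : ∀ x : Fin 2 ↪ Ω, MulAction.stabilizer C.L x = ⊥ := fun x => by
    have hne : x 0 ≠ x 1 := fun h => absurd (x.injective h) (by decide)
    rw [eq_bot_iff]
    intro l hl
    have hc : Nat.card (C.st2 (x 0) (x 1)) = 1 := by
      rw [card_st2_eq (C := C) hne hab, hbot, Subgroup.card_bot]
    have h0 : (l : Perm Ω) (x 0) = x 0 := congrArg (fun f : Fin 2 ↪ Ω => f 0) hl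
    have h1 : (l : Perm Ω) (x 1) = x 1 := congrArg (fun f : Fin 2 ↪ Ω => f 1) hl
    have hm : (l : Perm Ω) ∈ C.st2 (x 0) (x 1) := C.mem_st2.2 ⟨l.2, h0, h1⟩
    rw [Subgroup.card_eq_one.1 hc, Subgroup.mem_bot] at hm
    exact Subgroup.mem_bot.2 (Subtype.ext hm)
  obtain ⟨p, j, hp, hj, hcard, hP⟩ :=
    Cfsg.Agent.S0680.result C.L hsharp (by rwa [← Nat.card_eq_fintype_card])
  obtain ⟨P⟩ : Nonempty (Sylow p C.L) := inferInstance
  obtain ⟨hPn, hPc, -, hPt, -⟩ := hP ⟨hp⟩ P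
  rcases hPn.eq_bot_or_eq_top with h | h
  · obtain ⟨x, y, hxy⟩ : ∃ x y : Ω, x ≠ y := ⟨a, b, hab⟩
    obtain ⟨g, hg⟩ := hPt.exists_smul_eq x y
    apply hxy
    rw [← hg, show g = 1 from Subtype.ext (Subgroup.mem_bot.1 (h ▸ g.2)), one_smul]
  · refine C.nc ⟨⟨fun x y => ?_⟩⟩
    exact congrArg Subtype.val (hPc.is_comm.comm (⟨x, h ▸ Subgroup.mem_top x⟩ : (P : Subgroup C.L))
      ⟨y, h ▸ Subgroup.mem_top y⟩)

/-- The order of `L`. -/
theorem card_L [Finite Ω] {a b : Ω} (hab : a ≠ b) :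
    Nat.card C.L = Nat.card Ω * (Nat.card Ω - 1) * Nat.card (C.st2 a b) := by
  haveI : Nontrivial Ω := ⟨a, b, hab⟩
  haveI := C.isPretransitive
  let Ha := MulAction.stabilizer C.L a
  have h1 := Subgroup.index_mul_card Ha
  rw [MulAction.index_stabilizer_of_transitive] at h1
  let St := (C.st2 a b).subgroupOf C.L
  have hle : St.subgroupOf Ha = MulAction.stabilizer Ha b := by
    ext x
    refine ⟨fun hx => (C.mem_st2.1 hx).2.2, fun hx => C.mem_st2.2 ⟨(x : C.L).2, x.2, hx⟩⟩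
  have horb : MulAction.orbit Ha b = {a}ᶜ := by
    ext y
    constructor
    · rintro ⟨g, rfl⟩ (h : ((g : C.L) : Perm Ω) b = a)
      exact hab.symm (((g : C.L) : Perm Ω).injective (h.trans (g.2 : ((g : C.L) : Perm Ω) a = a).symm))
    · intro (hy : y ≠ a)
      obtain ⟨l, hl, hla, hlb⟩ := C.two hab hy.symm
      exact ⟨⟨⟨l, hl⟩, hla⟩, hlb⟩
  have h2 := Subgroup.index_mul_card (MulAction.stabilizer Ha b)
  rw [MulAction.index_stabilizer, horb, Set.ncard_compl, Set.ncard_singleton, ← hle,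
    Nat.card_congr (Subgroup.subgroupOfEquivOfLe (show St ≤ Ha from fun x hx => (C.mem_st2.1 hx).2.1)).toEquiv,
    Nat.card_congr (Subgroup.subgroupOfEquivOfLe (fun x hx => (C.mem_st2.1 hx).1 : C.st2 a b ≤ C.L)).toEquiv] at h2
  rw [← h1, ← h2, mul_assoc]

end Ctx

namespace Aff

variable {a : Ω} (A : Aff C a)

/-- The regular abelian subgroup written additively. -/
abbrev Vec : Type u := Additive A.W

instance : AddCommGroup A.Vec :=
  { (inferInstance : AddGroup (Additive A.W)) with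
    add_comm := fun x y => Additive.toMul.injective (Subtype.ext (A.comm _ x.toMul.2 _ y.toMul.2)) }

instance : Fact A.r.Prime := ⟨A.prime⟩

instance : Module (ZMod A.r) A.Vec :=
  AddCommGroup.zmodModule fun x => Additive.toMul.injective (Subtype.ext (by
    show ((x.toMul ^ A.r : A.W) : Perm Ω) = 1
    rw [Subgroup.coe_pow]; exact A.exp _ x.toMul.2))

/-- Conjugation of vectors by an element fixing `a` and `b`. -/
def conjHom {b : Ω} (g : C.gst2 a b) : A.Vec →+ A.Vec where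
  toFun v := Additive.ofMul ⟨(g : Perm Ω) * (v.toMul : Perm Ω) * (g : Perm Ω)⁻¹,
    A.norm _ (Ctx.mem_gst2.1 g.2).1 (Ctx.mem_gst2.1 g.2).2.1 _ v.toMul.2⟩
  map_zero' := Additive.toMul.injective (Subtype.ext (by simp))
  map_add' v w := Additive.toMul.injective (Subtype.ext (by
    simp [mul_assoc]))

theorem conjHom_apply {b : Ω} (g : C.gst2 a b) (v : A.Vec) :
    ((A.conjHom g v).toMul : Perm Ω) = (g : Perm Ω) * (v.toMul : Perm Ω) * (g : Perm Ω)⁻¹ := rfl

/-- The linear representation. -/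
def rep (b : Ω) : C.gst2 a b →* (A.Vec ≃ₗ[ZMod A.r] A.Vec) where
  toFun g :=
    { ((A.conjHom g).toZModLinearMap A.r : A.Vec →ₗ[ZMod A.r] A.Vec) with
      invFun := A.conjHom g⁻¹
      left_inv := fun v => Additive.toMul.injective (Subtype.ext (by
        show ((A.conjHom g⁻¹ (A.conjHom g v)).toMul : Perm Ω) = _
        rw [conjHom_apply, conjHom_apply]; simp [mul_assoc]))
      right_inv := fun v => Additive.toMul.injective (Subtype.ext (by
        show ((A.conjHom g (A.conjHom g⁻¹ v)).toMul : Perm Ω) = _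
        rw [conjHom_apply, conjHom_apply]; simp [mul_assoc])) }
  map_one' := LinearEquiv.ext fun v => Additive.toMul.injective (Subtype.ext (by
    show ((A.conjHom 1 v).toMul : Perm Ω) = _
    rw [conjHom_apply]; simp))
  map_mul' g h := LinearEquiv.ext fun v => Additive.toMul.injective (Subtype.ext (by
    show ((A.conjHom (g * h) v).toMul : Perm Ω) = ((A.conjHom g (A.conjHom h v)).toMul : Perm Ω)
    rw [conjHom_apply, conjHom_apply, conjHom_apply]; simp [mul_assoc]))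

/-- The point attached to a vector. -/
def pt (b : Ω) (v : A.Vec) : Ω := (v.toMul : Perm Ω) b

theorem rep_pt {b : Ω} (g : C.gst2 a b) (v : A.Vec) :
    A.pt b (A.rep b g v) = (g : Perm Ω) (A.pt b v) := by
  show ((A.conjHom g v).toMul : Perm Ω) b = _
  rw [conjHom_apply]
  have hgb : (g : Perm Ω) b = b := (Ctx.mem_gst2.1 g.2).2.2
  have : (g : Perm Ω)⁻¹ b = b := Perm.inv_eq_iff_eq.2 hgb.symm
  rw [Perm.mul_apply, Perm.mul_apply, this]; rfl

theorem pt_zero (b : Ω) : A.pt b 0 = b := rfl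

theorem pt_injective {b : Ω} (hab : a ≠ b) : Function.Injective (A.pt b) := by
  intro v w h
  have h' : (v.toMul : Perm Ω) b = (w.toMul : Perm Ω) b := h
  refine Additive.toMul.injective (Subtype.ext (inv_mul_eq_one.1
    (A.reg _ (mul_mem (inv_mem v.toMul.2) w.toMul.2) b hab.symm (by simp [← h']))))

theorem pt_ne {b : Ω} (hab : a ≠ b) (v : A.Vec) : A.pt b v ≠ a := fun h =>
  hab.symm ((v.toMul : Perm Ω).injective (h.trans (A.fix _ v.toMul.2).symm))

theorem exists_pt {b : Ω} (hab : a ≠ b) {x : Ω} (hx : x ≠ a) : ∃ v, A.pt b v = x := by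
  obtain ⟨w, hw, hwx⟩ := A.trans b x hab.symm hx
  exact ⟨Additive.ofMul ⟨w, hw⟩, hwx⟩

theorem rep_fix_iff {b : Ω} (hab : a ≠ b) (g : C.gst2 a b) (v : A.Vec) :
    A.rep b g v = v ↔ (g : Perm Ω) (A.pt b v) = A.pt b v := by
  rw [← A.rep_pt g v, (A.pt_injective hab).eq_iff]

theorem rep_injective {b : Ω} (hab : a ≠ b) : Function.Injective (A.rep b) := by
  rw [injective_iff_map_eq_one]
  intro g hg
  refine Subtype.ext (Equiv.ext fun x => ?_)
  by_cases hx : x = a
  · rw [hx, (Ctx.mem_gst2.1 g.2).2.1]; rfl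
  · obtain ⟨v, rfl⟩ := A.exists_pt hab hx
    exact (A.rep_fix_iff hab g v).1 (by rw [hg]; rfl)

theorem rep_trans {b : Ω} (hab : a ≠ b) : TransLinear.Trans (A.rep b) := by
  intro v w hv hw
  have hne : ∀ {v : A.Vec}, v ≠ 0 → b ≠ A.pt b v := fun hv h =>
    hv (A.pt_injective hab ((A.pt_zero b).trans h)).symm
  obtain ⟨g, hg, hga, hgb, hgv⟩ := C.three hab (A.pt_ne hab v).symm (hne hv) hab
    (A.pt_ne hab w).symm (hne hw)
  refine ⟨⟨g, Ctx.mem_gst2.2 ⟨hg, hga, hgb⟩⟩, A.pt_injective hab ?_⟩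
  rw [A.rep_pt]; exact hgv

theorem card_vec [Finite Ω] (hn : 1 < Nat.card Ω) : Nat.card A.Vec + 1 = Nat.card Ω := by
  rw [Nat.card_congr Additive.toMul]; exact A.card_W hn

theorem nontrivial_vec [Finite Ω] (hn : 2 < Nat.card Ω) : Nontrivial A.Vec := by
  rw [← Finite.one_lt_card_iff_nontrivial]
  have := A.card_vec (by omega); omega

theorem card_omega [Finite Ω] (hn : 1 < Nat.card Ω) :
    Nat.card Ω = A.r ^ Module.finrank (ZMod A.r) A.Vec + 1 := by
  rw [← A.card_vec hn, Module.natCard_eq_pow_finrank (K := ZMod A.r) (V := A.Vec), Nat.card_zmod]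

/-- `W` is its own centraliser in `L`. -/
theorem centralizer_le [Finite Ω] (hn : 2 < Nat.card Ω) {x : Perm Ω} (hx : x ∈ C.L)
    (hc : ∀ w ∈ A.W, x * w = w * x) : x ∈ A.W := by
  classical
  haveI : Nontrivial Ω := Finite.one_lt_card_iff_nontrivial.1 (by omega)
  obtain ⟨b, hb⟩ := exists_ne a
  have hxa : x a = a := by
    by_contra h
    obtain ⟨c, hc'⟩ : ∃ c, c ∈ rest a (x a) := by
      apply Set.nonempty_of_ncard_ne_zero
      rw [ncard_rest (Ne.symm h)]; omega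
    obtain ⟨w, hw, hwx⟩ := A.trans (x a) c h hc'.1
    have : w (x a) = x a := by
      rw [← Perm.mul_apply, ← hc w hw, Perm.mul_apply, A.fix w hw]
    exact hc'.2 (hwx.symm.trans this)
  have hxb : x b ≠ a := fun h => hb (x.injective (h.trans hxa.symm))
  obtain ⟨w, hw, hwb⟩ := A.trans b (x b) hb hxb
  suffices x = w by rwa [this]
  refine Equiv.ext fun y => ?_
  by_cases hy : y = a
  · rw [hy, hxa, A.fix w hw]
  · obtain ⟨v, hv, rfl⟩ := A.trans b y hb hy
    rw [← Perm.mul_apply, hc v hv, Perm.mul_apply, ← hwb, ← Perm.mul_apply, A.comm v hv w hw,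
      Perm.mul_apply]

/-- If commutators of elements of `L` normalising `W` lie in `W`, the pair stabiliser is abelian,
hence semiregular. -/
theorem semiregular_of_shape [Finite Ω] (hn : 2 < Nat.card Ω) (hr5 : 5 ≤ A.r)
    (hdim : 3 ≤ Module.finrank (ZMod A.r) A.Vec)
    (hshape : (∃ (K : Type) (_ : Field K) (_ : Fintype K), Odd (Fintype.card K) ∧
        Nonempty (C.L ≃* Matrix.ProjectiveSpecialLinearGroup (Fin 2) K)) ∨
      Nonempty (C.L ≃* alternatingGroup (Fin 7)))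
    {b : Ω} (hab : a ≠ b) :
    ∀ x ∈ (C.st2 a b).subgroupOf (C.gst2 a b), ∀ v : A.Vec, v ≠ 0 → A.rep b x v = v → x = 1 := by
  let W' := A.W.subgroupOf C.L
  have hcardW : Nat.card W' = A.r ^ Module.finrank (ZMod A.r) A.Vec := by
    rw [Nat.card_congr (Subgroup.subgroupOfEquivOfLe A.le).toEquiv, ← Nat.card_congr Additive.toMul,
      Module.natCard_eq_pow_finrank (K := ZMod A.r) (V := A.Vec), Nat.card_zmod]
  have h := PSLFacts.facts_of_shape A.prime hr5 hdim W'
    (fun w hw => Subtype.ext (by rw [Subgroup.coe_pow]; exact A.exp _ hw)) hcardW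
    (fun x hx => A.centralizer_le hn x.2 fun w hw =>
      (congrArg Subtype.val (Subgroup.mem_centralizer_iff.1 hx ⟨w, A.le hw⟩ hw)).symm) hshape
  have hnorm : ∀ x : C.gst2 a b, ∀ hxL : (x : Perm Ω) ∈ C.L,
      (⟨x, hxL⟩ : C.L) ∈ normalizer (W' : Set C.L) := by
    intro x hxL
    obtain ⟨hxG, hxa, -⟩ := Ctx.mem_gst2.1 x.2
    rw [Subgroup.mem_normalizer_iff]
    intro w
    refine ⟨fun hw => A.norm _ hxG hxa _ hw, fun hw => ?_⟩
    have h1 := A.norm _ (inv_mem hxG) (Perm.inv_eq_iff_eq.2 hxa.symm) _ hw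
    have e : (x : Perm Ω)⁻¹ * ((x : Perm Ω) * (w : Perm Ω) * (x : Perm Ω)⁻¹) * (x : Perm Ω)⁻¹⁻¹ =
        (w : Perm Ω) := by group
    show (w : Perm Ω) ∈ A.W
    rw [← e]; exact h1
  set R := (C.st2 a b).subgroupOf (C.gst2 a b) with hR
  have hcomm : IsMulCommutative R := by
    refine ⟨⟨fun x y => Subtype.ext (Subtype.ext ?_)⟩⟩
    obtain ⟨hxL, hxa, hxb⟩ := C.mem_st2.1 x.2
    obtain ⟨hyL, hya, hyb⟩ := C.mem_st2.1 y.2
    have hm := h _ (hnorm (x : C.gst2 a b) hxL) _ (hnorm (y : C.gst2 a b) hyL)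
    show ((x : C.gst2 a b) : Perm Ω) * ((y : C.gst2 a b) : Perm Ω) = _ * _
    set X := ((x : C.gst2 a b) : Perm Ω)
    set Y := ((y : C.gst2 a b) : Perm Ω)
    have hxy : X * Y * X⁻¹ * Y⁻¹ ∈ A.W := hm
    have hone := A.reg _ hxy b hab.symm (by
      have h1 : X⁻¹ b = b := Perm.inv_eq_iff_eq.2 hxb.symm
      have h2 : Y⁻¹ b = b := Perm.inv_eq_iff_eq.2 hyb.symm
      have hX : X b = b := hxb
      have hY : Y b = b := hyb
      rw [Perm.mul_apply, Perm.mul_apply, Perm.mul_apply, h2, h1, hY, hX])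
    exact mul_inv_eq_iff_eq_mul.1 (mul_inv_eq_one.1 hone)
  haveI := A.nontrivial_vec hn
  intro x hx v hv hxv
  exact Linear.semiregular_of_abelian (A.rep_injective hab) (A.rep_trans hab)
    (Ctx.st2_normal a b) hcomm hx hv hxv

/-- Semiregularity on vectors says that three-point stabilisers are trivial. -/
theorem st3_eq_bot [Finite Ω] {b : Ω} (hab : a ≠ b)
    (h : ∀ x ∈ (C.st2 a b).subgroupOf (C.gst2 a b), ∀ v : A.Vec, v ≠ 0 → A.rep b x v = v → x = 1)
    {x y z : Ω} (hxy : x ≠ y) (hxz : x ≠ z) (hyz : y ≠ z) : C.st3 x y z = ⊥ := by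
  obtain ⟨c, hc⟩ : ∃ c, c ∈ rest a b := by
    obtain ⟨g, -, rfl, rfl⟩ := C.two hxy hab
    exact ⟨g z, fun e => hxz (g.injective e).symm, fun e => hyz (g.injective e).symm⟩
  rw [← Subgroup.card_eq_one, ← Ctx.card_st3_eq (C := C) hab hc.1.symm hc.2.symm hxy hxz hyz,
    Subgroup.card_eq_one, eq_bot_iff]
  intro l hl
  obtain ⟨hlL, hla, hlb, hlc⟩ := C.mem_st3.1 hl
  obtain ⟨v, rfl⟩ := A.exists_pt hab hc.1
  have hmem : l ∈ C.gst2 a b := Ctx.mem_gst2.2 ⟨C.le hlL, hla, hlb⟩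
  have := h ⟨l, hmem⟩ (C.mem_st2.2 ⟨hlL, hla, hlb⟩) v
    (fun h0 => hc.2 (by rw [h0]; exact A.pt_zero b)) ((A.rep_fix_iff hab _ v).2 hlc)
  exact Subgroup.mem_bot.2 (congrArg Subtype.val this)

end Aff

end CfsgLib.TripleNormal
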