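import Cfsg.Agent.Lib.TripleNormal.Linear
import Cfsg.Agent.Lib.TransLinear.Huppert

/-!
# One-dimensional semilinear groups of odd degree

In odd degree the 2-elements are scalars, a transitive group contains `-1`, and the vectors fixed by
a set of elements that fix one of them form a translate of a subfield.
-/

set_option autoImplicit false

open Subgroup

namespace CfsgLib.TripleNormal.Linear

open CfsgLib.TransLinear

universe u v

variable {q : ℕ} [Fact q.Prime] {V : Type v} [AddCommGroup V] [Module (ZMod q) V] [Finite V]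
  [Nontrivial V] {G : Type u} [Group G] [Finite G] {ρ : G →* (V ≃ₗ[ZMod q] V)}
  {F : Type} [Field F] [Fintype F] {e : V ≃+ F}

/-- The action is semilinear with respect to `e`. -/
def IsSemi (ρ : G →* (V ≃ₗ[ZMod q] V)) (e : V ≃+ F) : Prop :=
  ∀ g : G, ∃ (a : F) (σ : F ≃+* F), ∀ v : V, e (ρ g v) = a * σ (e v)

/-- `g` acts as a scalar. -/
def IsScalar (ρ : G →* (V ≃ₗ[ZMod q] V)) (e : V ≃+ F) (g : G) : Prop :=
  ∃ a : F, ∀ v : V, e (ρ g v) = a * e v

theorem charP_of_equiv (e : V ≃+ F) : CharP F q := by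
  have hz : ((q : ℕ) : F) = 0 := by
    have h : q • (e.symm 1 : V) = 0 := by
      rw [← Nat.cast_smul_eq_nsmul (ZMod q), ZMod.natCast_self, zero_smul]
    have := congrArg e h
    rwa [map_nsmul, e.apply_symm_apply, map_zero, nsmul_one] at this
  exact (CharP.charP_iff_prime_eq_zero (Fact.out : q.Prime)).2 hz

theorem card_field (e : V ≃+ F) : Fintype.card F = q ^ Module.finrank (ZMod q) V := by
  rw [← Nat.card_eq_fintype_card, ← Nat.card_congr e.toEquiv,
    Module.natCard_eq_pow_finrank (K := ZMod q), Nat.card_zmod]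

theorem pow_eq_one_of_odd (hodd : Odd (Module.finrank (ZMod q) V)) (e : V ≃+ F) (σ : F ≃+* F)
    {k : ℕ} (hk : σ ^ (2 ^ k) = 1) : σ = 1 := by
  haveI := charP_of_equiv (q := q) e
  letI := ZMod.algebra F q
  let toAlg : (F ≃+* F) →* (F ≃ₐ[ZMod q] F) :=
    { toFun := fun τ => AlgEquiv.ofRingEquiv (f := τ) fun x => by
        obtain ⟨n, rfl⟩ := ZMod.natCast_zmod_surjective x
        simp
      map_one' := rfl
      map_mul' := fun _ _ => rfl }
  have hinj : Function.Injective toAlg := fun τ τ' h => RingEquiv.ext fun x =>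
    congrArg (fun f : F ≃ₐ[ZMod q] F => f x) h
  have hdeg : Module.finrank (ZMod q) F = Module.finrank (ZMod q) V := by
    have h := Module.natCard_eq_pow_finrank (K := ZMod q) (V := F)
    rw [Nat.card_eq_fintype_card, card_field (q := q) e, Nat.card_zmod] at h
    exact (Nat.pow_right_injective (Fact.out : q.Prime).two_le h).symm
  apply hinj
  rw [map_one]
  rw [← orderOf_eq_one_iff]
  have h1 : orderOf (toAlg σ) ∣ 2 ^ k := orderOf_dvd_of_pow_eq_one (by rw [← map_pow, hk, map_one])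
  have h2 : orderOf (toAlg σ) ∣ Module.finrank (ZMod q) F :=
    (IsGalois.card_aut_eq_finrank (ZMod q) F) ▸ orderOf_dvd_natCard _
  rw [hdeg] at h2
  exact Nat.eq_one_of_dvd_coprimes ((Nat.coprime_two_left.2 hodd).pow_left k) h1 h2

theorem exists_scalar (hodd : Odd (Module.finrank (ZMod q) V)) (hs : IsSemi ρ e) {g : G} {k : ℕ}
    (hg : g ^ (2 ^ k) = 1) : IsScalar ρ e g := by
  obtain ⟨a, σ, h⟩ := hs g
  refine ⟨a, fun v => ?_⟩
  have hpow : ∀ m : ℕ, ∃ b : F, ∀ v : V, e (ρ (g ^ m) v) = b * (σ ^ m) (e v) := by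
    intro m
    induction m with
    | zero => exact ⟨1, fun v => by simp⟩
    | succ m ih =>
      obtain ⟨b, hb⟩ := ih
      refine ⟨a * σ b, fun v => ?_⟩
      rw [pow_succ' g, map_mul, LinearEquiv.mul_apply, h, hb, map_mul, pow_succ' σ]
      rw [mul_assoc]; rfl
  obtain ⟨b, hb⟩ := hpow (2 ^ k)
  rw [hg] at hb
  have hb1 : b = 1 := by
    have := hb (e.symm 1)
    simpa using this.symm
  have hσ : σ ^ (2 ^ k) = 1 := RingEquiv.ext fun x => by
    have := hb (e.symm x)
    rw [hb1] at this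
    simpa using this.symm
  rw [h v, pow_eq_one_of_odd (q := q) hodd e σ hσ]; rfl

theorem scalar_eq_one (hρ : Function.Injective ρ) {g : G} (hg : IsScalar ρ e g) {v : V} (hv : v ≠ 0)
    (hfix : ρ g v = v) : g = 1 := by
  obtain ⟨a, ha⟩ := hg
  have ha1 : a = 1 := by
    have := ha v
    rw [hfix] at this
    have hev : e v ≠ 0 := fun h => hv (e.map_eq_zero_iff.1 h)
    exact (mul_left_eq_self₀.1 this.symm).resolve_right hev
  refine hρ (LinearEquiv.ext fun w => e.injective ?_)
  rw [ha, ha1, one_mul, map_one]; rfl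

theorem scalar_commute (hρ : Function.Injective ρ) {g h : G} (hg : IsScalar ρ e g)
    (hh : IsScalar ρ e h) : g * h = h * g := by
  obtain ⟨a, ha⟩ := hg
  obtain ⟨b, hb⟩ := hh
  refine hρ (LinearEquiv.ext fun w => e.injective ?_)
  simp only [map_mul, LinearEquiv.mul_apply, ha, hb]
  ring

theorem two_elements_commute (hρ : Function.Injective ρ) (hodd : Odd (Module.finrank (ZMod q) V))
    (hs : IsSemi ρ e) {g h : G} {k l : ℕ} (hg : g ^ (2 ^ k) = 1) (hh : h ^ (2 ^ l) = 1) :
    g * h = h * g :=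
  scalar_commute hρ (exists_scalar hodd hs hg) (exists_scalar hodd hs hh)

theorem scalar_two_neg (hρ : Function.Injective ρ) {g : G} (hg : IsScalar ρ e g) (h2 : g * g = 1)
    (h1 : g ≠ 1) (v : V) : ρ g v = -v := by
  by_contra h
  have hne : v + ρ g v ≠ 0 := fun h0 => h (eq_neg_of_add_eq_zero_right h0)
  refine h1 (scalar_eq_one hρ hg hne ?_)
  rw [map_add, ← LinearEquiv.mul_apply, ← map_mul, h2, map_one]
  exact add_comm _ _

theorem exists_neg (htr : Trans ρ) (hodd : Odd (Module.finrank (ZMod q) V))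
    (hs : IsSemi ρ e) : ∃ g : G, ∀ v : V, ρ g v = -v := by
  obtain ⟨v₀, hv₀⟩ := exists_ne (0 : V)
  obtain ⟨g, hg⟩ := htr v₀ (-v₀) hv₀ (neg_ne_zero.2 hv₀)
  obtain ⟨k, o, ho, hko⟩ := Nat.exists_eq_two_pow_mul_odd (orderOf_pos g).ne'
  have hm : ∀ m : ℕ, ρ (g ^ m) v₀ = (-1 : ZMod q) ^ m • v₀ := by
    intro m
    induction m with
    | zero => simp
    | succ m ih => rw [pow_succ' g, map_mul, LinearEquiv.mul_apply, ih, map_smul, hg, pow_succ]; simp
  have hg2 : (g ^ o) ^ (2 ^ k) = 1 := by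
    rw [← pow_mul, mul_comm, ← hko, pow_orderOf_eq_one]
  obtain ⟨a, ha⟩ := exists_scalar hodd hs hg2
  refine ⟨g ^ o, fun v => e.injective ?_⟩
  have ha1 : a = -1 := by
    have := ha v₀
    rw [hm, ho.neg_one_pow, neg_smul, one_smul, map_neg] at this
    have hev : e v₀ ≠ 0 := fun h => hv₀ (e.map_eq_zero_iff.1 h)
    exact mul_right_cancel₀ hev (by rw [← this, neg_one_mul])
  rw [ha, ha1, map_neg, neg_one_mul]

theorem card_fixed (hs : IsSemi ρ e) (S : Set G) {v₀ : V} (hv₀ : v₀ ≠ 0)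
    (hfix : ∀ s ∈ S, ρ s v₀ = v₀) :
    ∃ d, d ∣ Module.finrank (ZMod q) V ∧ {v : V | ∀ s ∈ S, ρ s v = v}.ncard = q ^ d := by
  classical
  haveI := charP_of_equiv (q := q) e
  set c := e v₀ with hc
  have hc0 : c ≠ 0 := fun h => hv₀ (e.map_eq_zero_iff.1 h)
  choose a σ hσ using hs
  have hiff : ∀ s ∈ S, ∀ x : F, ρ s (e.symm (x * c)) = e.symm (x * c) ↔ σ s x = x := by
    intro s hsS x
    have h0 : a s * σ s c = c := by rw [hc, ← hσ, hfix s hsS]
    rw [← e.injective.eq_iff, hσ, e.apply_symm_apply, map_mul, mul_left_comm, h0]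
    exact ⟨fun h => mul_right_cancel₀ hc0 h, fun h => by rw [h]⟩
  let K : Subfield F :=
    { carrier := {x | ∀ s ∈ S, σ s x = x}
      mul_mem' := fun {x y} hx hy s hsS => by rw [map_mul, hx s hsS, hy s hsS]
      one_mem' := fun s _ => map_one _
      add_mem' := fun {x y} hx hy s hsS => by rw [map_add, hx s hsS, hy s hsS]
      zero_mem' := fun s _ => map_zero _
      neg_mem' := fun {x} hx s hsS => by rw [map_neg, hx s hsS]
      inv_mem' := fun x hx s hsS => by rw [map_inv₀, hx s hsS] }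
  have hcard : {v : V | ∀ s ∈ S, ρ s v = v}.ncard = Nat.card K := by
    rw [← Nat.card_coe_set_eq]
    refine (Nat.card_congr (Equiv.subtypeEquiv ((Equiv.mulRight₀ c hc0).trans e.toEquiv.symm)
      fun x => ?_)).symm
    exact ⟨fun hx s hsS => (hiff s hsS x).2 (hx s hsS), fun hx s hsS => (hiff s hsS x).1 (hx s hsS)⟩
  haveI : CharP K q := (RingHom.charP_iff_charP K.subtype q).2 inferInstance
  letI := Fintype.ofFinite K
  obtain ⟨d, hq', hd⟩ := FiniteField.card K q
  have hj : Nat.card F = Nat.card K ^ Module.finrank K F :=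
    Module.natCard_eq_pow_finrank (K := K) (V := F)
  rw [Nat.card_eq_fintype_card, Nat.card_eq_fintype_card, card_field (q := q) e, hd, ← pow_mul] at hj
  refine ⟨d, ⟨_, Nat.pow_right_injective (Fact.out : q.Prime).two_le hj⟩, ?_⟩
  rw [hcard, Nat.card_eq_fintype_card, hd]

theorem sylow_two_props (hρ : Function.Injective ρ) (htr : Trans ρ)
    (hodd : Odd (Module.finrank (ZMod q) V)) (hs : IsSemi ρ e) (P : Sylow 2 G) :
    IsCyclic (P : Subgroup G) ∧
      2 ^ (q ^ Module.finrank (ZMod q) V - 1).factorization 2 ∣ Nat.card (P : Subgroup G) := by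
  classical
  haveI := Fact.mk Nat.prime_two
  obtain ⟨v₀, hv₀⟩ := exists_ne (0 : V)
  have hsc : ∀ g : (P : Subgroup G), IsScalar ρ e (g : G) := fun g => by
    obtain ⟨k, hk⟩ := P.2 g
    exact exists_scalar hodd hs (k := k) (by simpa using congrArg Subtype.val hk)
  choose a ha using hsc
  have hev : e v₀ ≠ 0 := fun h => hv₀ (e.map_eq_zero_iff.1 h)
  let f : (P : Subgroup G) →* F :=
    { toFun := a
      map_one' := mul_right_cancel₀ hev (by rw [← ha, one_mul]; simp)
      map_mul' := fun g h => mul_right_cancel₀ hev (by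
        rw [← ha, Subgroup.coe_mul, map_mul, LinearEquiv.mul_apply, ha, ha, mul_assoc]) }
  refine ⟨isCyclic_of_subgroup_isDomain f (fun g h he => ?_), ?_⟩
  · refine Subtype.ext (hρ (LinearEquiv.ext fun w => e.injective ?_))
    rw [ha, ha, show a g = a h from he]
  · refine P.pow_dvd_card_of_pow_dvd_card ?_
    exact (Nat.ordProj_dvd _ 2).trans (pow_sub_one_dvd htr)

end CfsgLib.TripleNormal.Linear
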