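import Cfsg.Agent.Lib.ThreeFree.SzFacts

/-!
# Primitive actions of odd degree of Suzuki groups

They are doubly transitive: the point stabiliser is the normaliser of a Sylow 2-subgroup.
-/

set_option autoImplicit false

open Subgroup

namespace CfsgLib.TripleNormal

universe u v

/-- A primitive action of odd degree of a Suzuki group is doubly transitive. -/
theorem suzuki_two_trans {N : Type u} [Group N] [Finite N] (hN : Cfsg.Lie.IsoSuzuki N) {X : Type v}
    [Finite X] [Nontrivial X] [MulAction N X] (hprim : MulAction.IsPreprimitive N X)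
    (hodd : Odd (Nat.card X)) : MulAction.IsMultiplyPretransitive N X 2 := by
  classical
  haveI : Fact (Nat.Prime 2) := ⟨Nat.prime_two⟩
  haveI := hprim
  haveI : IsSimpleGroup N := by
    obtain ⟨F, _, _, m, hm, hF, ⟨ψ⟩⟩ := id hN
    obtain ⟨hC, ⟨P⟩⟩ := SuzukiGroup.exists_params hF
    haveI := hC
    haveI := SuzukiGroup.isSimple P (e := 2 ^ (m + 1)) (by
      rw [hF]
      calc 2 = 2 ^ 1 := rfl
        _ < 2 ^ (2 * m + 1) := Nat.pow_lt_pow_right (by norm_num) (by omega))
    exact ψ.isSimpleGroup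
  obtain ⟨T⟩ := (inferInstance : Nonempty (Sylow 2 N))
  obtain ⟨n, Z, h, hd⟩ := ThreeFree.szFactsHold N hN T
  set R := normalizer ((T : Subgroup N) : Set N) with hR
  obtain ⟨a, ha⟩ := T.2.nonempty_fixed_point_of_prime_not_dvd_card (α := X)
    (Nat.two_dvd_ne_zero.2 (Nat.odd_iff.1 hodd))
  set M := MulAction.stabilizer N a with hMdef
  have hM : IsCoatom M := MulAction.IsPreprimitive.isCoatom_stabilizer_of_isPreprimitive (G := N) a
  have hTM : (T : Subgroup N) ≤ M := fun t ht => ha ⟨t, ht⟩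
  -- the Sylow subgroup is regular on the cosets of its normaliser other than the trivial one
  have htrans : ∀ g ∉ R, ∀ x ∉ R, ∃ t ∈ (T : Subgroup N), (t * g)⁻¹ * x ∈ R := by
    intro g hg x hx
    let f : ↥(T : Subgroup N) → {c : N ⧸ R // c ≠ ((1 : N) : N ⧸ R)} := fun t =>
      ⟨(((t : N) * g : N) : N ⧸ R), fun e => hg (by
        rw [QuotientGroup.eq, mul_one, inv_mem_iff] at e
        have := mul_mem (inv_mem (Subgroup.le_normalizer t.2)) e
        rwa [inv_mul_cancel_left] at this)⟩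
    have hinj : Function.Injective f := by
      intro t t' e
      have e' : ((((t : N) * g : N)) : N ⧸ R) = (((t' : N) * g : N) : N ⧸ R) := congrArg Subtype.val e
      rw [QuotientGroup.eq] at e'
      set y := ((t : N))⁻¹ * (t' : N) with hy
      have hyT : y ∈ (T : Subgroup N) := mul_mem (inv_mem t.2) t'.2
      have hyR : g⁻¹ * y * g ∈ R := by rw [hy]; simpa [mul_assoc] using e'
      have hzT : g⁻¹ * y * g ∈ (T : Subgroup N) := by
        let Q : Subgroup N := (T : Subgroup N).map (MulAut.conj g⁻¹).toMonoidHom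
        have hQ : IsPGroup 2 Q := T.2.map _
        have hmem : g⁻¹ * y * g ∈ Q ⊓ R := ⟨⟨y, hyT, by simp⟩, hyR⟩
        exact ((SetLike.ext_iff.1 (hQ.inf_normalizer_sylow T) _).1 hmem).2
      exact Subtype.ext (inv_mul_eq_one.1 (hd.ti g hg y hyT hzT))
    have hcard : Nat.card ↥(T : Subgroup N) = Nat.card {c : N ⧸ R // c ≠ ((1 : N) : N ⧸ R)} := by
      haveI : Fintype (N ⧸ R) := Fintype.ofFinite _
      rw [hd.card_T, Nat.card_eq_fintype_card (α := {c : N ⧸ R // c ≠ ((1 : N) : N ⧸ R)}),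
        Fintype.card_subtype_compl, Fintype.card_subtype_eq, ← Nat.card_eq_fintype_card,
        ← Subgroup.index_eq_card, hd.index_R, Nat.add_sub_cancel]
    obtain ⟨t, ht⟩ := ((Nat.bijective_iff_injective_and_card f).2 ⟨hinj, hcard⟩).2
      ⟨(x : N ⧸ R), fun e => hx (by rwa [QuotientGroup.eq, mul_one, inv_mem_iff] at e)⟩
    exact ⟨t, t.2, QuotientGroup.eq.1 (congrArg Subtype.val ht)⟩
  have hRtop : R ≠ ⊤ := fun e => by
    have h1 := hd.index_R
    rw [← hR, e, index_top] at h1
    have := pow_pos (two_pos : (0 : ℕ) < 2) n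
    have := pow_pos this 2
    omega
  -- the stabiliser is the normaliser
  have hMR : M = R := by
    by_cases hle : M ≤ R
    · exact ((eq_or_lt_of_le hle).resolve_right fun hlt => hRtop (hM.2 R hlt))
    exfalso
    obtain ⟨g, hgM, hgR⟩ := SetLike.not_le_iff_exists.1 hle
    have hnc : normalClosure ((T : Subgroup N) : Set N) ≤ M := by
      refine (closure_le _).2 fun c hc => ?_
      obtain ⟨y, hy, hyc⟩ := Group.mem_conjugatesOfSet_iff.1 hc
      obtain ⟨x, rfl⟩ := isConj_iff.1 hyc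
      show x * y * x⁻¹ ∈ M
      by_cases hx : x ∈ R
      · exact hTM ((mem_normalizer_iff.1 hx y).1 hy)
      obtain ⟨t, ht, htr⟩ := htrans g hgR x hx
      set r := (t * g)⁻¹ * x with hr
      have hx' : x = t * g * r := by rw [hr, mul_inv_cancel_left]
      have h1 : r * y * r⁻¹ ∈ M := hTM ((mem_normalizer_iff.1 htr y).1 hy)
      have h2 := mul_mem (hTM ht) hgM
      rw [hx', show t * g * r * y * (t * g * r)⁻¹ = t * g * (r * y * r⁻¹) * (t * g)⁻¹ by group]
      exact mul_mem (mul_mem h2 h1) (inv_mem h2)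
    rcases (normalClosure_normal (s := ((T : Subgroup N) : Set N))).eq_bot_or_eq_top with e | e
    · have hT : (T : Subgroup N) = ⊥ := le_bot_iff.1 (e ▸ le_normalClosure)
      have h1 := hd.card_T
      rw [hT, card_bot] at h1
      have h3 := Nat.pow_le_pow_right two_pos hd.three_le
      nlinarith
    · exact hM.1 (top_le_iff.1 (e ▸ hnc))
  have hstab : ∀ x : X, x ≠ a → ∀ y : X, y ≠ a → ∃ t : N, t • a = a ∧ t • x = y := by
    intro x hx y hy
    obtain ⟨g, rfl⟩ := MulAction.exists_smul_eq N a x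
    obtain ⟨g', rfl⟩ := MulAction.exists_smul_eq N a y
    obtain ⟨t, ht, htr⟩ := htrans g (hMR ▸ hx) g' (hMR ▸ hy)
    rw [← hMR, hMdef, MulAction.mem_stabilizer_iff, mul_smul, inv_smul_eq_iff, mul_smul] at htr
    exact ⟨t, hTM ht, htr.symm⟩
  rw [MulAction.is_two_pretransitive_iff]
  intro b c b' c' hbc hbc'
  obtain ⟨g₁, hg₁⟩ := MulAction.exists_smul_eq N b a
  obtain ⟨g₂, hg₂⟩ := MulAction.exists_smul_eq N b' a
  obtain ⟨t, hta, ht⟩ := hstab (g₁ • c) (fun e => hbc (MulAction.injective g₁ (hg₁.trans e.symm)))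
    (g₂ • c') (fun e => hbc' (MulAction.injective g₂ (hg₂.trans e.symm)))
  refine ⟨g₂⁻¹ * t * g₁, ?_, ?_⟩
  · rw [mul_smul, mul_smul, hg₁, hta, inv_smul_eq_iff, hg₂]
  · rw [mul_smul, mul_smul, ht, inv_smul_smul]

end CfsgLib.TripleNormal
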