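import Cfsg.Agent.Lib.TripleNormal.Rep
import Cfsg.Agent.Lib.GW.Done
import Cfsg.Agent.Lib.CoreKill.Applications
import Cfsg.Agent.Lib.Recognition.TwoTransTwoModFour
import Cfsg.Agent.Lib.PSL2.Basic
import Cfsg.Agent.S0885
import Cfsg.Agent.S0731
import Cfsg.Agent.S0741

/-!
# The Zassenhaus case, and general facts on the simple socle
-/

set_option autoImplicit false

open Equiv Subgroup
open scoped commutatorElement

namespace CfsgLib.TripleNormal

universe u

/-- A simple group with dihedral Sylow 2-subgroups is `PSL₂(q)` or `A₇`. -/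
theorem shape_of_dihedral {X : Type u} [Group X] [Finite X] (hs : IsSimpleGroup X)
    (hnc : ¬ IsMulCommutative X) (S : Sylow 2 X) {n : ℕ} (hn : 2 ≤ n)
    (e : Nonempty ((S : Subgroup X) ≃* DihedralGroup n)) :
    (∃ (K : Type) (_ : Field K) (_ : Fintype K), Odd (Fintype.card K) ∧
        Nonempty (X ≃* Matrix.ProjectiveSpecialLinearGroup (Fin 2) K)) ∨
      Nonempty (X ≃* alternatingGroup (Fin 7)) := by
  haveI := hs
  obtain ⟨t, -, ht, -⟩ := exists_commuting_pair X hs hnc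
  have hO : Cfsg.oddCore X = ⊥ := CfsgLib.CoreKill.oddCore_eq_bot_of_simple ht
  haveI : Group.IsPerfect X := by
    refine ⟨(((inferInstance : (commutator X).Normal).eq_bot_or_eq_top).resolve_left fun h => hnc ?_)⟩
    refine ⟨⟨fun x y => ?_⟩⟩
    have hm : ⁅x, y⁆ ∈ commutator X :=
      Subgroup.commutator_mem_commutator (Subgroup.mem_top x) (Subgroup.mem_top y)
    rw [h, Subgroup.mem_bot] at hm
    exact commutatorElement_eq_one_iff_mul_comm.1 hm
  let e0 : X ⧸ Cfsg.oddCore X ≃* X :=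
    (QuotientGroup.quotientMulEquivOfEq hO).trans QuotientGroup.quotientBot
  rcases CfsgLib.GW.Done.classification X S n hn e with ⟨K, hK, hKt, hodd, -, ⟨f⟩⟩ | h
  · exact Or.inl ⟨K, hK, hKt, hodd, ⟨e0.symm.trans f⟩⟩
  · obtain ⟨f⟩ := h
    exact Or.inr ⟨e0.symm.trans f⟩

namespace Ctx

variable {Ω : Type u} [Finite Ω] {C : Ctx Ω}

/-- Every triple is cycled by an element of `L` when three divides the degree. -/
theorem exists_cycle (h3 : 3 ∣ Nat.card Ω) {x y z : Ω} (hxy : x ≠ y) (hxz : x ≠ z) (hyz : y ≠ z) :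
    ∃ l ∈ C.L, l x = y ∧ l y = z ∧ l z = x := by
  classical
  haveI := Fact.mk Nat.prime_three
  haveI : Nontrivial Ω := ⟨x, y, hxy⟩
  haveI := C.isPretransitive
  have h3L : 3 ∣ Nat.card C.L := by
    refine h3.trans ?_
    rw [← MulAction.index_stabilizer_of_transitive C.L x]
    exact (MulAction.stabilizer C.L x).index_dvd_card
  obtain ⟨g, hg⟩ := exists_prime_orderOf_dvd_card' (G := C.L) 3 h3L
  have hg3 : (g : Perm Ω) * ((g : Perm Ω) * (g : Perm Ω)) = 1 := by
    have := pow_orderOf_eq_one g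
    rw [hg, pow_succ', pow_two] at this
    exact congrArg Subtype.val this
  obtain ⟨a, ha⟩ : ∃ a, (g : Perm Ω) a ≠ a := by
    by_contra h; push Not at h
    rw [Subtype.ext (Equiv.ext h : (g : Perm Ω) = ((1 : C.L) : Perm Ω)), orderOf_one] at hg
    exact absurd hg (by norm_num)
  have hgga : (g : Perm Ω) ((g : Perm Ω) ((g : Perm Ω) a)) = a := by
    rw [← Perm.mul_apply, ← Perm.mul_apply, mul_assoc, hg3, Perm.one_apply]
  have h2 : (g : Perm Ω) ((g : Perm Ω) a) ≠ a := fun h => ha (by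
    have := hgga; rw [h] at this; exact this)
  have h2' : (g : Perm Ω) ((g : Perm Ω) a) ≠ (g : Perm Ω) a := fun h => ha ((g : Perm Ω).injective h)
  obtain ⟨f, hf, rfl, rfl, rfl⟩ := C.three (Ne.symm ha) h2.symm h2'.symm hxy hxz hyz
  exact ⟨f * g * f⁻¹, C.norm f hf g g.2, by simp, by simp, by simp [hgga]⟩

/-- An odd two-point stabiliser and even degree force degree divisible by four. -/
theorem four_dvd_of_odd_stab (heven : Even (Nat.card Ω)) (hn : 3 < Nat.card Ω) {a b : Ω}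
    (hab : a ≠ b) (hst : Odd (Nat.card (C.st2 a b))) : 4 ∣ Nat.card Ω := by
  by_contra h4
  haveI := C.simple
  have h2 : 2 ∣ Nat.card C.L := by
    rw [card_L (C := C) hab]
    exact Dvd.dvd.mul_right (Dvd.dvd.mul_right heven.two_dvd _) _
  have h4' : ¬ 4 ∣ Nat.card C.L := by
    rw [card_L (C := C) hab, mul_assoc]
    intro h
    have hc : Nat.Coprime 4 ((Nat.card Ω - 1) * Nat.card (C.st2 a b)) := by
      rw [show (4 : ℕ) = 2 ^ 2 by norm_num]
      refine Nat.Coprime.pow_left 2 (Nat.coprime_two_left.2 (Odd.mul ?_ hst))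
      exact Nat.Even.sub_odd (by omega) heven odd_one
    exact h4 (hc.dvd_of_dvd_mul_right h)
  obtain ⟨K, hK, hmem⟩ := Recognition.exists_index_two_of_two_mul_odd h2 h4'
  have hKn : (Subgroup.closure {w : C.L | Odd (orderOf w)}).Normal := by
    refine ⟨fun x hx g => ?_⟩
    induction hx using Subgroup.closure_induction with
    | mem w hw =>
      exact Subgroup.subset_closure (show Odd (orderOf (g * w * g⁻¹)) by rw [← MulAut.conj_apply, MulEquiv.orderOf_eq]; exact hw)
    | one => simp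
    | mul x y _ _ hx hy => simpa [mul_assoc] using mul_mem hx hy
    | inv x _ hx => simpa [mul_assoc] using inv_mem hx
  rcases hKn.eq_bot_or_eq_top with h | h
  · haveI := Fact.mk Nat.prime_three
    obtain ⟨c, hc⟩ : ∃ c, c ∈ rest a b := by
      apply Set.nonempty_of_ncard_ne_zero; rw [ncard_rest hab]; omega
    -- an element of odd order exists
    obtain ⟨p, hp, hpd⟩ := Nat.exists_prime_and_dvd (n := Nat.card Ω - 1) (by omega)
    have hp2 : p ≠ 2 := fun e => by
      have : Odd (Nat.card Ω - 1) := Nat.Even.sub_odd (by omega) heven odd_one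
      exact Nat.not_even_iff_odd.2 this (even_iff_two_dvd.2 (e ▸ hpd))
    haveI := Fact.mk hp
    obtain ⟨w, hw⟩ := exists_prime_orderOf_dvd_card' (G := C.L) p (by
      rw [card_L (C := C) hab]; exact Dvd.dvd.mul_right (Dvd.dvd.mul_left hpd _) _)
    have hwm : w ∈ Subgroup.closure {w : C.L | Odd (orderOf w)} :=
      Subgroup.subset_closure (show Odd (orderOf w) by rw [hw]; exact hp.odd_of_ne_two hp2)
    rw [h, Subgroup.mem_bot] at hwm
    rw [hwm, orderOf_one] at hw
    exact hp.one_lt.ne hw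
  · have hle : Subgroup.closure {w : C.L | Odd (orderOf w)} ≤ K := (Subgroup.closure_le K).2 hmem
    rw [h, top_le_iff] at hle
    rw [hle, Subgroup.card_top] at hK
    exact Nat.not_even_iff_odd.2 hK (even_iff_two_dvd.2 h2)

/-- Trivial three-point stabilisers make `L` a Zassenhaus group. -/
theorem isZassenhaus (hn : 2 ≤ Nat.card Ω) {a b : Ω} (hab : a ≠ b)
    (h3 : ∀ {x y z : Ω}, x ≠ y → x ≠ z → y ≠ z → C.st3 x y z = ⊥) :
    Cfsg.IsZassenhausGroup C.L Ω := by
  haveI := C.simple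
  refine ⟨⟨fun {g h} e => Subtype.ext (Equiv.ext e)⟩, ?_, ?_, ?_, ?_⟩
  · rw [MulAction.is_two_pretransitive_iff]
    intro x y z w hxy hzw
    obtain ⟨l, hl, h1, h2⟩ := C.two hxy hzw
    exact ⟨⟨l, hl⟩, h1, h2⟩
  · intro g x y z hxy hyz hxz hx hy hz
    have hm : (g : Perm Ω) ∈ C.st3 x y z := C.mem_st3.2 ⟨g.2, hx, hy, hz⟩
    rw [h3 hxy hxz hyz, Subgroup.mem_bot] at hm
    exact Subtype.ext hm
  · obtain ⟨g, hg, hg1⟩ : ∃ g ∈ C.st2 a b, g ≠ 1 := by
      by_contra h; push Not at h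
      exact st2_ne_bot hn hab (eq_bot_iff.2 fun x hx => Subgroup.mem_bot.2 (h x hx))
    exact ⟨⟨g, (C.mem_st2.1 hg).1⟩, fun h => hg1 (congrArg Subtype.val h), a, b, hab,
      (C.mem_st2.1 hg).2.1, (C.mem_st2.1 hg).2.2⟩
  · intro N hN hNt
    refine ⟨a, fun h => ?_⟩
    rcases hN.eq_bot_or_eq_top with h0 | h0
    · obtain ⟨g, hg⟩ := hNt.exists_smul_eq a b
      refine hab ?_
      rw [← hg, show g = 1 from Subtype.ext (Subgroup.mem_bot.1 (h0 ▸ g.2)), one_smul]
    · obtain ⟨g, hg, hg1⟩ : ∃ g ∈ C.st2 a b, g ≠ 1 := by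
        by_contra h; push Not at h
        exact st2_ne_bot hn hab (eq_bot_iff.2 fun x hx => Subgroup.mem_bot.2 (h x hx))
      have hgN : (⟨g, (C.mem_st2.1 hg).1⟩ : C.L) ∈ N := h0 ▸ Subgroup.mem_top _
      have : (⟨_, hgN⟩ : N) ∈ MulAction.stabilizer N a := (C.mem_st2.1 hg).2.1
      rw [h, Subgroup.mem_bot] at this
      exact hg1 (congrArg (fun x : N => ((x : C.L) : Perm Ω)) this)

theorem card_zst {a b : Ω} :
    Nat.card ↥(MulAction.stabilizer C.L a ⊓ MulAction.stabilizer C.L b : Subgroup C.L) =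
      Nat.card (C.st2 a b) :=
  Nat.card_eq_of_bijective
    (fun x => ⟨((x : C.L) : Perm Ω), C.mem_st2.2 ⟨(x : C.L).2, x.2.1, x.2.2⟩⟩)
    ⟨fun _ _ h => Subtype.ext (Subtype.ext (congrArg Subtype.val h :)),
      fun y => ⟨⟨⟨y, (C.mem_st2.1 y.2).1⟩, (C.mem_st2.1 y.2).2.1, (C.mem_st2.1 y.2).2.2⟩, rfl⟩⟩

/-- Zassenhaus case with an even two-point stabiliser: at most two orbits. -/
theorem few_of_semiregular_even (hn : 3 < Nat.card Ω) {a b : Ω} (hab : a ≠ b)
    (h3 : ∀ {x y z : Ω}, x ≠ y → x ≠ z → y ≠ z → C.st3 x y z = ⊥)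
    (heven : Even (Nat.card (C.st2 a b))) : C.Few := by
  classical
  have := Fintype.ofFinite Ω
  obtain ⟨c, hc⟩ : ∃ c, c ∈ rest a b := by
    apply Set.nonempty_of_ncard_ne_zero; rw [ncard_rest hab]; omega
  have h := Cfsg.Agent.S0741.result (isZassenhaus (by omega) hab h3) hab (by rwa [card_zst])
  rw [card_zst, ← Nat.card_eq_fintype_card] at h
  refine few_of_card hab hc.1.symm hc.2.symm ?_
  have hm := ncard_orb_mul (C := C) a b c
  rw [h3 hab hc.1.symm hc.2.symm, Subgroup.card_bot, mul_one] at hm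
  rwa [hm]

end Ctx

namespace Aff

variable {Ω : Type u} [Finite Ω] {C : Ctx Ω} {a : Ω} (A : Aff C a)

include A in
/-- Zassenhaus case with an odd two-point stabiliser. -/
theorem psl_of_semiregular (hn : 3 < Nat.card Ω) (heven : Even (Nat.card Ω)) {b : Ω} (hab : a ≠ b)
    (h3 : ∀ {x y z : Ω}, x ≠ y → x ≠ z → y ≠ z → C.st3 x y z = ⊥)
    (hodd : Odd (Nat.card (C.st2 a b))) :
    C.Few ∧ 2 * Nat.card (C.st2 a b) = Nat.card Ω - 2 ∧
      ∃ (K : Type) (_ : Field K) (_ : Fintype K), Fintype.card K + 1 = Nat.card Ω ∧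
        Nonempty (C.L ≃* Matrix.ProjectiveSpecialLinearGroup (Fin 2) K) := by
  classical
  have := Fintype.ofFinite Ω
  have hZ := Ctx.isZassenhaus (C := C) (by omega) hab h3
  obtain ⟨c, hc⟩ : ∃ c, c ∈ rest a b := by
    apply Set.nonempty_of_ncard_ne_zero; rw [ncard_rest hab]; omega
  have hm := Ctx.ncard_orb_mul (C := C) a b c
  rw [h3 hab hc.1.symm hc.2.symm, Subgroup.card_bot, mul_one] at hm
  have hdvd := Ctx.ncard_orb_dvd (C := C) hab hc.1.symm hc.2.symm
  rw [hm] at hdvd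
  let H : Subgroup C.L := A.W.subgroupOf C.L
  have hHa : H ≤ MulAction.stabilizer C.L a := fun x hx => A.fix _ hx
  have hHc : Nat.card H + 1 = Fintype.card Ω := by
    rw [Nat.card_congr (Subgroup.subgroupOfEquivOfLe A.le).toEquiv, A.card_W (by omega),
      Nat.card_eq_fintype_card]
  have hfix : ∀ u ∈ H, u ≠ 1 → ∀ x : Ω, u • x = x → x = a := fun u hu hu1 x hx => by
    by_contra hxa
    exact hu1 (Subtype.ext (A.reg _ hu x hxa hx))
  have hcomm : ∀ u v : H, u * v = v * u := fun u v => Subtype.ext (Subtype.ext (A.comm _ u.2 _ v.2))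
  rcases Cfsg.Agent.S0885.result hZ hab (Nat.card Ω - 1) _
      (by rw [← Nat.card_eq_fintype_card]; omega) Ctx.card_zst hodd H hHa hHc hfix with
    hF | ⟨-, ⟨u, v, huv⟩, -⟩
  swap
  · exact absurd (hcomm u v) huv
  have hfew : C.Few := Ctx.few_of_card hab hc.1.symm hc.2.symm (by rw [hm]; omega)
  have h2d : 2 * Nat.card (C.st2 a b) = Nat.card Ω - 2 := by
    obtain ⟨k, hk⟩ := hdvd
    have hd1 : 1 ≤ Nat.card (C.st2 a b) := Nat.card_pos
    rcases Nat.lt_or_ge k 2 with hk2 | hk2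
    · interval_cases k
      · omega
      · have h1 : Even (Nat.card Ω - 2) := (Nat.even_sub (by omega)).2 ⟨fun _ => even_two, fun _ => heven⟩
        rw [hk, mul_one] at h1
        exact absurd h1 (Nat.not_even_iff_odd.2 hodd)
    · have := Nat.mul_le_mul_left (Nat.card (C.st2 a b)) hk2
      omega
  refine ⟨hfew, h2d, ?_⟩
  let x := a
  have hreg : ∀ y z : Ω, y ≠ a → z ≠ a → ∃! u : H, (u : C.L) • y = z := by
    intro y z hy hz
    obtain ⟨w, hw, hwy⟩ := A.trans y z hy hz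
    refine ⟨⟨⟨w, A.le hw⟩, hw⟩, hwy, fun u hu => ?_⟩
    have hu' : ((u : C.L) : Perm Ω) y = z := hu
    have := A.reg (((u : C.L) : Perm Ω)⁻¹ * w) (mul_mem (inv_mem u.2) hw) y hy (by
      rw [Perm.mul_apply, hwy, ← hu']; simp)
    exact Subtype.ext (Subtype.ext (inv_mul_eq_one.1 this))
  have hHn : (H.subgroupOf (MulAction.stabilizer C.L a)).Normal :=
    ⟨fun w hw g => A.norm _ (C.le (g : C.L).2) g.2 _ hw⟩
  rcases Cfsg.Agent.S0731.result hZ a H hHa hHn
      ⟨⟨fun u v => hcomm u v⟩⟩ hreg with ⟨ht, -⟩ | ⟨K, hK, hKt, hchar, ⟨f⟩⟩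
  · exfalso
    -- sharply triply transitive groups have two-point stabilisers of even order
    have horb : C.orb a b c = rest a b := by
      refine Set.Subset.antisymm (Ctx.orb_subset_rest hc.1 hc.2) fun y hy => ?_
      have hba := hab.symm
      let X : Fin 3 ↪ Ω := ⟨![a, b, c], by
        have := hc.1.symm; have := hc.2.symm
        intro i j h; fin_cases i <;> fin_cases j <;> simp_all [rest]⟩
      let Y : Fin 3 ↪ Ω := ⟨![a, b, y], by
        have := hy.1.symm; have := hy.2.symm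
        intro i j h; fin_cases i <;> fin_cases j <;> simp_all [rest]⟩
      obtain ⟨g, hg⟩ := MulAction.isMultiplyPretransitive_iff.1 ht X Y
      have e : ∀ i, (g : Perm Ω) (X i) = Y i := fun i => congrArg (fun f : Fin 3 ↪ Ω => f i) hg
      exact ⟨g, C.mem_st2.2 ⟨g.2, e 0, e 1⟩, e 2⟩
    rw [horb, ncard_rest hab] at hm
    omega
  refine ⟨K, hK, hKt, ?_, ⟨f⟩⟩
  have hc1 := Ctx.card_L (C := C) hab
  rw [Nat.card_congr f.toEquiv] at hc1
  have hgcd : Nat.gcd 2 (Fintype.card K - 1) = 2 := by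
    refine Nat.gcd_eq_left ?_
    have hoddK : Odd (Fintype.card K) := by
      rw [Nat.odd_iff]
      exact FiniteField.odd_card_of_char_ne_two hchar
    exact (Nat.Odd.sub_odd hoddK odd_one).two_dvd
  have hc2 := CfsgLib.PSL2.card_psl (F := K)
  rw [hgcd, hc1] at hc2
  -- `s (s + 1)(s - 1) = q (q + 1)(q - 1)`
  obtain ⟨m, hm'⟩ : ∃ m, Nat.card Ω = m + 2 := ⟨Nat.card Ω - 2, by omega⟩
  obtain ⟨s, hs⟩ : ∃ s, Fintype.card K = s + 1 := ⟨Fintype.card K - 1, by
    have := Fintype.card_pos (α := K); omega⟩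
  rw [hm', show m + 2 - 2 = m from rfl] at h2d
  rw [hm', hs, show m + 2 - 1 = m + 1 by omega, Nat.add_sub_cancel] at hc2
  have he : (m + 2) * (m + 1) * m = (s + 2) * ((s + 1) * s) := by
    rw [← hc2, ← h2d]; ring
  have hms : m = s := by
    rcases Nat.lt_trichotomy m s with h | h | h
    · exfalso
      have : (m + 2) * (m + 1) * m < (s + 2) * ((s + 1) * s) := by
        rw [mul_assoc]
        exact Nat.mul_lt_mul_of_lt_of_lt (by omega) (Nat.mul_lt_mul_of_lt_of_lt (by omega) h)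
      omega
    · exact h
    · exfalso
      have : (s + 2) * ((s + 1) * s) < (m + 2) * (m + 1) * m := by
        rw [mul_assoc]
        exact Nat.mul_lt_mul_of_lt_of_lt (by omega) (Nat.mul_lt_mul_of_lt_of_lt (by omega) h)
      omega
  omega

end Aff

end CfsgLib.TripleNormal
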